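import Cfsg.Agent.Lib.Linear.UDec.Blocks
import Cfsg.Agent.Lib.Linear.MinIndexSp.Count

/-!
# Transitivity and counts for the special unitary group in dimension at least four
-/

set_option autoImplicit false
set_option linter.unusedSectionVars false

namespace Cfsg.Lib.Linear.MinIndexU

open Module
open Cfsg.Lib.Linear Cfsg.Lib.Linear.Herm

/-- The special unitary group as a group of linear maps. -/
abbrev SUg {F : Type*} [Field F] [Fintype F] {q : ℕ} (hF : Fintype.card F = q ^ 2) (n : ℕ) :=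
  ↥(tvGroup (hB hF n))

variable {F : Type*} [Field F] [Fintype F] {q n : ℕ} (hF : Fintype.card F = q ^ 2)

local notation "Vn" => Fin n → F
local notation "B₀" => hB hF n
local notation "σ₀" => frob hF
local notation "Sg" => SUg hF n

omit [Fintype F] in
theorem finite_of_fintype [Finite F] : Finite ((Fin n → F) ≃ₗ[F] (Fin n → F)) :=
  Finite.of_injective (fun g => (⇑g : (Fin n → F) → _)) DFunLike.coe_injective

theorem finite_sg : Finite Sg := by
  haveI := finite_of_fintype (F := F) (n := n)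
  infer_instance

variable {hF}

theorem sg_ext {g k : Sg} (e : ∀ x, g.1 x = k.1 x) : g = k := Subtype.ext (LinearEquiv.ext e)

theorem form_symm (u w : Vn) : B₀ w u = σ₀ (B₀ u w) := UDec.form_symm u w

theorem self_fixed' (u : Vn) : σ₀ (B₀ u u) = B₀ u u := UDec.self_fixed' u

theorem symm_zero {u w : Vn} (h : B₀ u w = 0) : B₀ w u = 0 := hB_symm_zero hF h

theorem sg_form (C : Big.Space B₀) (g : Sg) (x y : Vn) : B₀ (g.1 x) (g.1 y) = B₀ x y :=
  ((Big.mem_tv C).1 g.2).1 x y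

theorem inv_apply (g : Sg) (x : Vn) : (g⁻¹).1 (g.1 x) = x := by
  show (g.1⁻¹ * g.1) x = x
  rw [inv_mul_cancel]; rfl

theorem apply_inv (g : Sg) (x : Vn) : g.1 ((g⁻¹).1 x) = x := by
  show (g.1 * g.1⁻¹) x = x
  rw [mul_inv_cancel]; rfl

/-- A subspace without anisotropic vectors is totally isotropic. -/
theorem isotropic_of_self {U : Submodule F Vn} (h : ∀ x ∈ U, B₀ x x = 0) :
    ∀ x ∈ U, ∀ y ∈ U, B₀ x y = 0 := by
  intro x hx y hy
  obtain ⟨c, hc⟩ : ∃ c : F, σ₀ c ≠ c := by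
    by_contra hc; push Not at hc; exact frob_ne_id hF (RingHom.ext hc)
  have h1 := h (x + y) (U.add_mem hx hy)
  have h2 := h (c • x + y) (U.add_mem (U.smul_mem c hx) hy)
  simp only [map_add, LinearMap.add_apply, map_smul, LinearMap.map_smulₛₗ, LinearMap.smul_apply,
    smul_eq_mul, RingHom.id_apply, h x hx, h y hy, mul_zero, add_zero, zero_add] at h1 h2
  have h3 : (σ₀ c - c) * B₀ x y = 0 := by linear_combination h2 - c * h1
  exact (mul_eq_zero.1 h3).resolve_left (sub_ne_zero.2 hc)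

/-- Non-degeneracy of a subspace. -/
def Nd (hF : Fintype.card F = q ^ 2) (U : Submodule F Vn) : Prop :=
  ∀ w ∈ U, (∀ x ∈ U, hB hF n x w = 0) → w = 0

theorem exists_aniso_nd {U : Submodule F Vn} (hU : Nd hF U) (h : 1 ≤ finrank F U) :
    ∃ a ∈ U, B₀ a a ≠ 0 :=
  UDec.exists_aniso hU fun e => by rw [e, finrank_bot] at h; omega

theorem nd_inf_ker {U : Submodule F Vn} (hU : Nd hF U) {a : Vn} (ha : a ∈ U) (haa : B₀ a a ≠ 0) :
    Nd hF (U ⊓ LinearMap.ker (B₀ a)) ∧ finrank F ↥(U ⊓ LinearMap.ker (B₀ a)) + 1 = finrank F U := by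
  constructor
  · rintro w ⟨hw, hw2⟩ h
    have hw2' : B₀ a w = 0 := hw2
    refine hU w hw fun x hx => ?_
    have := h (x - (B₀ a x / B₀ a a) • a) ⟨U.sub_mem hx (U.smul_mem _ ha), by
      show B₀ a _ = 0
      rw [map_sub, map_smul, smul_eq_mul, div_mul_cancel₀ _ haa, sub_self]⟩
    simpa [hw2'] using this
  · have hsup : Submodule.span F {a} ⊔ (U ⊓ LinearMap.ker (B₀ a)) = U := by
      refine le_antisymm (sup_le ((Submodule.span_singleton_le_iff_mem _ _).2 ha) inf_le_left) fun x hx => ?_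
      rw [← add_sub_cancel ((B₀ a x / B₀ a a) • a) x]
      refine Submodule.add_mem_sup (Submodule.smul_mem _ _ (Submodule.mem_span_singleton_self a))
        ⟨U.sub_mem hx (U.smul_mem _ ha), ?_⟩
      show B₀ a _ = 0
      rw [map_sub, map_smul, smul_eq_mul, div_mul_cancel₀ _ haa, sub_self]
    have hinf : Submodule.span F {a} ⊓ (U ⊓ LinearMap.ker (B₀ a)) = ⊥ := by
      rw [Submodule.eq_bot_iff]
      rintro x ⟨hx1, -, hx2⟩
      obtain ⟨r, rfl⟩ := Submodule.mem_span_singleton.1 hx1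
      have hx2' : B₀ a (r • a) = 0 := hx2
      rw [map_smul, smul_eq_mul, mul_eq_zero] at hx2'
      rw [hx2'.resolve_right haa, zero_smul]
    have := Submodule.finrank_sup_add_finrank_inf_eq (Submodule.span F {a}) (U ⊓ LinearMap.ker (B₀ a))
    rw [hsup, hinf, finrank_bot, finrank_span_singleton (fun h => haa (by rw [h]; simp))] at this
    omega

theorem nd_top : Nd hF (⊤ : Submodule F Vn) := fun w _ h =>
  (hB_nondegenerate hF n).2 w fun x => h x Submodule.mem_top

/-- Transitivity of the fixer of a subspace on vectors with given products. -/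
theorem exists_trans (C : Big.Space B₀) (X : Submodule F Vn) {a b e : Vn} (ha : a ∉ X) (hb : b ∉ X)
    (h : ∀ x ∈ X, B₀ x a = B₀ x b) (hab : B₀ a a = B₀ b b) (hee : B₀ e e ≠ 0)
    (heX : ∀ x ∈ X, B₀ e x = 0) (heb : B₀ e b = 0) :
    ∃ g : Sg, (∀ x ∈ X, g.1 x = x) ∧ g.1 a = b := by
  obtain ⟨t, ht, hta⟩ := Herm.exists_map C.ne_id C.invol C.symm C.ndeg X ha hb h hab
  have hz := Big.det_norm C (inv_mem ht.1)
  set z : F := (LinearEquiv.det t⁻¹ : F) with hzdef
  set l : F := (z - 1) / B₀ e e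
  have hl : l + σ₀ l + σ₀ l * l * B₀ e e = 0 := by
    simp only [l, map_div₀, map_sub, map_one, self_fixed' e]
    field_simp
    linear_combination hz
  refine ⟨⟨qrefl e l hl * t, (Big.mem_tv C).2 ⟨mul_mem (qrefl_mem_iso C.symm _ _ _) ht.1, ?_⟩⟩, fun x hx => ?_, ?_⟩
  · have h1 : LinearEquiv.det (qrefl e l hl) = LinearEquiv.det t⁻¹ := Units.ext (by
      rw [det_qrefl, ← hzdef, show l * B₀ e e = z - 1 from div_mul_cancel₀ _ hee]; ring)
    rw [map_mul, h1, ← map_mul, inv_mul_cancel, map_one]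
  · show qrefl e l hl (t x) = x
    rw [ht.2 x hx, qrefl_apply, heX x hx, mul_zero, zero_smul, add_zero]
  · show qrefl e l hl (t a) = b
    rw [hta, qrefl_apply, heb, mul_zero, zero_smul, add_zero]

variable (hF)

/-- The trace-zero elements. -/
noncomputable def skew : AddSubgroup F where
  carrier := {c | c + σ₀ c = 0}
  zero_mem' := by simp
  add_mem' := fun {a b} ha hb => by
    simp only [Set.mem_setOf_eq, map_add] at ha hb ⊢; linear_combination ha + hb
  neg_mem' := fun {a} ha => by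
    simp only [Set.mem_setOf_eq, map_neg] at ha ⊢; linear_combination -ha

theorem mem_skew {c : F} : c ∈ skew hF ↔ c + σ₀ c = 0 := Iff.rfl

theorem card_skew : Nat.card (skew hF) = q := by
  obtain ⟨y, hy0, hy⟩ := exists_trace_zero (frob_ne_id hF) (frob_frob hF)
  refine Eq.trans (Nat.card_congr ?_) (card_fixed hF)
  exact
    { toFun := fun c => ⟨c.1 / y, by
        rw [← frob_apply hF, map_div₀, eq_neg_of_add_eq_zero_right c.2, eq_neg_of_add_eq_zero_right hy,
          neg_div_neg_eq]⟩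
      invFun := fun a => ⟨a.1 * y, by
        rw [mem_skew, map_mul, frob_apply hF a.1, a.2]; linear_combination a.1 * hy⟩
      left_inv := fun c => Subtype.ext (div_mul_cancel₀ _ hy0)
      right_inv := fun a => Subtype.ext (mul_div_cancel_right₀ _ hy0) }

include hF in
theorem two_le : 2 ≤ q := two_le_q hF

include hF in
theorem card_F : Nat.card F = q ^ 2 := by rw [Nat.card_eq_fintype_card, hF]

variable {hF}

/-- The vectors of given norm in a non-degenerate subspace. -/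
theorem card_norm_vectors {U : Submodule F Vn} (hU : Nd hF U) {m : ℕ} (hm : finrank F U = m) (γ : F) :
    Nat.card {x : Vn // x ∈ U ∧ B₀ x x = γ} = Herm.N F q m γ := by
  obtain ⟨b, hb, hbb, hexp⟩ := UDec.exists_basis (hF := hF) m U hU hm
  have hco : ∀ (w : Fin m → F) i, B₀ (b i) (∑ j, w j • b j) = w i := fun w i => by
    simp [map_sum, hbb]
  have hnorm : ∀ w : Fin m → F, B₀ (∑ j, w j • b j) (∑ j, w j • b j) = ∑ i, w i ^ (q + 1) := fun w => by
    simp only [map_sum, LinearMap.sum_apply, LinearMap.map_smulₛₗ, LinearMap.smul_apply, RingHom.id_apply,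
      smul_eq_mul, hbb, mul_ite, mul_one, mul_zero, Finset.sum_ite_eq', Finset.mem_univ, if_true, frob_apply]
    simp [pow_succ, mul_comm]
  exact Nat.card_congr
    { toFun := fun x => ⟨fun i => B₀ (b i) x.1, by rw [← hnorm, ← hexp _ x.2.1, x.2.2]⟩
      invFun := fun w => ⟨∑ j, w.1 j • b j, U.sum_mem fun j _ => U.smul_mem _ (hb j), by rw [hnorm, w.2]⟩
      left_inv := fun x => Subtype.ext (hexp _ x.2.1).symm
      right_inv := fun w => Subtype.ext (funext fun i => hco _ i) }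

theorem pow_q_of_fixed {γ : F} (h : σ₀ γ = γ) : γ ^ q = γ := by rwa [frob_apply] at h

theorem N_values (hF : Fintype.card F = q ^ 2) (m : ℕ) : (q * Herm.N F q m (0 : F) : ℤ) = (q : ℤ) ^ (2 * m) + (-1) ^ m * ((q : ℤ) ^ (m + 1) - (q : ℤ) ^ m) ∧
    (q * Herm.N F q m (1 : F) : ℤ) = (q : ℤ) ^ (2 * m) - (-1) ^ m * (q : ℤ) ^ m := by
  exact_mod_cast N_formula hF m

open scoped Classical in
/-- A lower bound for the number of non-zero vectors of given norm. -/
theorem N_ge (hF : Fintype.card F = q ^ 2) {m : ℕ} (hm : 2 ≤ m) (γ : F) (hγ : γ ^ q = γ) :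
    (q ^ 2 - 1) * q ^ (2 * m - 3) + (if γ = 0 then 1 else 0) ≤ Herm.N F q m γ := by
  classical
  have hq := two_le hF
  obtain ⟨h0, h1⟩ := N_values hF m
  obtain ⟨d, rfl⟩ : ∃ d, m = d + 2 := ⟨m - 2, by omega⟩
  rw [show 2 * (d + 2) - 3 = 2 * d + 1 by omega]
  have hq1 : 1 ≤ q ^ 2 := Nat.one_le_pow _ _ (by omega)
  have hpm : ((-1 : ℤ) ^ (d + 2) = 1 ∧ Even d) ∨ ((-1 : ℤ) ^ (d + 2) = -1 ∧ 1 ≤ d) := by
    rcases Nat.even_or_odd d with h | h
    · exact Or.inl ⟨(h.add even_two).neg_one_pow, h⟩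
    · exact Or.inr ⟨(h.add_even even_two).neg_one_pow, h.pos⟩
  set Q : ℤ := (q : ℤ)
  have hQ : (2 : ℤ) ≤ Q := Int.ofNat_le.2 hq
  have hX : 1 ≤ Q ^ d := one_le_pow₀ (by linarith)
  split_ifs with hz
  · subst hz
    zify [hq1]
    refine le_of_mul_le_mul_left ?_ (show (0 : ℤ) < Q by linarith)
    rw [h0]
    rw [show Q ^ (2 * (d + 2)) = Q ^ d * Q ^ d * Q ^ 4 by ring, show Q ^ (d + 2 + 1) = Q ^ d * Q ^ 3 by ring,
      show Q ^ (d + 2) = Q ^ d * Q ^ 2 by ring, show Q ^ (2 * d + 1) = Q ^ d * Q ^ d * Q by ring]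
    rcases hpm with ⟨e, -⟩ | ⟨e, hd⟩ <;> rw [e]
    · nlinarith [mul_nonneg (mul_nonneg (le_trans zero_le_one hX) (sq_nonneg Q)) (show (0 : ℤ) ≤ Q - 1 by linarith),
        mul_le_mul hX hX zero_le_one (le_trans zero_le_one hX), mul_le_mul hQ hQ (by linarith) (by linarith)]
    · have hX2 : Q ≤ Q ^ d := by
        calc Q = Q ^ 1 := (pow_one _).symm
          _ ≤ Q ^ d := pow_le_pow_right₀ (by linarith) hd
      have hA : Q ^ d * Q ≤ Q ^ d * Q ^ d := mul_le_mul_of_nonneg_left hX2 (by positivity)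
      have hA2 : Q ^ d * Q * Q ^ 2 ≤ Q ^ d * Q ^ d * Q ^ 2 := mul_le_mul_of_nonneg_right hA (by positivity)
      have hA3 : Q ≤ Q ^ d * Q ^ 2 := by nlinarith
      nlinarith
  · rw [Herm.N_eq_N_one hF _ hz hγ, add_zero]
    zify [hq1]
    refine le_of_mul_le_mul_left ?_ (show (0 : ℤ) < Q by linarith)
    rw [h1]
    rw [show Q ^ (2 * (d + 2)) = Q ^ d * Q ^ d * Q ^ 4 by ring,
      show Q ^ (d + 2) = Q ^ d * Q ^ 2 by ring, show Q ^ (2 * d + 1) = Q ^ d * Q ^ d * Q by ring]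
    rcases hpm with ⟨e, -⟩ | ⟨e, -⟩ <;> rw [e] <;>
      nlinarith [mul_le_mul_of_nonneg_left hX (show (0 : ℤ) ≤ Q ^ d * Q ^ 2 by positivity),
        show (0 : ℤ) ≤ Q ^ d * Q ^ 2 by positivity]

end Cfsg.Lib.Linear.MinIndexU
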