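import Cfsg.Agent.Lib.Linear.MinIndexU.Orbit

/-!
# A non-trivial image of the intersection with the radical, in dimension at least six
-/

set_option autoImplicit false
set_option linter.unusedSectionVars false

namespace Cfsg.Lib.Linear.MinIndexU

open Module
open Cfsg.Lib.Linear Cfsg.Lib.Linear.Herm

theorem arith_line {q d : ℕ} (hq : 2 ≤ q) :
    q ^ 2 * (q ^ 2 * q ^ (d + 3) + q) ≤ q ^ (2 * (d + 3) - 3) * (q ^ 2 - 1) * q ^ (d + 3) := by
  rw [show 2 * (d + 3) - 3 = d + d + 3 by omega]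
  obtain ⟨w, rfl⟩ : ∃ w, q = w + 2 := ⟨q - 2, by omega⟩
  set Y := (w + 2) ^ d with hY
  have hY1 : 1 ≤ Y := Nat.one_le_pow _ _ (by omega)
  rw [show (w + 2) ^ (d + d + 3) = Y * Y * (w + 2) ^ 3 by rw [hY]; ring, pow_add, ← hY]
  obtain ⟨t, ht⟩ : ∃ t, (w + 2) ^ 2 = t + 1 := ⟨(w + 2) ^ 2 - 1, by
    have : 1 ≤ (w + 2) ^ 2 := Nat.one_le_pow _ _ (by omega); omega⟩
  have ht3 : 3 ≤ t := by nlinarith
  rw [ht, Nat.add_sub_cancel]
  have h3 : 8 ≤ (w + 2) ^ 3 := le_trans (by norm_num) (Nat.pow_le_pow_left (show 2 ≤ w + 2 by omega) 3)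
  have hz : Y * (w + 2) ^ 3 ≤ Y * Y * Y * (w + 2) ^ 3 := Nat.mul_le_mul_right _ (by nlinarith)
  have hq8 : (t + 1) * (w + 2) ≤ Y * (w + 2) ^ 3 := by
    rw [← ht]
    calc (w + 2) ^ 2 * (w + 2) = 1 * (w + 2) ^ 3 := by ring
      _ ≤ _ := Nat.mul_le_mul_right _ hY1
  have h4 : (t + 1) * (t + 1) + 1 ≤ t * (w + 2) ^ 3 := by
    have : (t + 1) * (t + 1) = (w + 2) * (w + 2) ^ 3 := by rw [← ht]; ring
    rw [this]
    have h5 : w + 3 ≤ t := by nlinarith
    nlinarith [Nat.mul_le_mul_right ((w + 2) ^ 3) h5]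
  calc (t + 1) * ((t + 1) * (Y * (w + 2) ^ 3) + (w + 2))
      ≤ ((t + 1) * (t + 1) + 1) * (Y * (w + 2) ^ 3) := by nlinarith
    _ ≤ t * (w + 2) ^ 3 * (Y * Y * Y * (w + 2) ^ 3) := Nat.mul_le_mul h4 hz
    _ = _ := by ring

theorem arith_aniso {q X : ℕ} (hq : 2 ≤ q) (hX : q ^ 5 ≤ X) :
    (q ^ 2 * X + q) * q ^ 8 ≤ 2 * (q ^ 2 - 1) ^ 3 * X * X := by
  have h4 : 4 ≤ q ^ 2 := by nlinarith
  have hh : 3 * q ^ 2 ≤ 4 * (q ^ 2 - 1) := by omega
  have hqX : q ≤ X := le_trans (Nat.le_self_pow (by norm_num) q) hX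
  have h3 : 27 * q ^ 6 ≤ 64 * (q ^ 2 - 1) ^ 3 := by
    have := Nat.pow_le_pow_left hh 3
    rw [mul_pow, mul_pow] at this; ring_nf at this ⊢; linarith
  have h32 : 32 ≤ q ^ 5 := le_trans (by norm_num) (Nat.pow_le_pow_left hq 5)
  have hX32 : 32 ≤ X := h32.trans hX
  have e1 : 64 * q ^ 10 * X ≤ 32 * q ^ 6 * X * X := by
    calc 64 * q ^ 10 * X = 32 * q ^ 5 * (2 * q ^ 5) * X := by ring
      _ ≤ 32 * q ^ 5 * (q * q ^ 5) * X := Nat.mul_le_mul_right _ (Nat.mul_le_mul_left _ (Nat.mul_le_mul_right _ hq))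
      _ = 32 * q ^ 6 * q ^ 5 * X := by ring
      _ ≤ _ := Nat.mul_le_mul_right _ (Nat.mul_le_mul_left _ hX)
  have e2 : 64 * q ^ 9 ≤ 22 * q ^ 6 * X * X := by
    calc 64 * q ^ 9 ≤ 22 * q ^ 2 * q ^ 9 * 32 := by
            nlinarith [show 0 < q ^ 9 by positivity, show 4 ≤ q ^ 2 from h4]
      _ = 22 * q ^ 6 * q ^ 5 * 32 := by ring
      _ ≤ _ := Nat.mul_le_mul (Nat.mul_le_mul_left _ hX) hX32
  nlinarith [Nat.mul_le_mul (Nat.mul_le_mul h3 (le_refl X)) (le_refl X)]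

theorem arith_iso {q X : ℕ} (hq : 2 ≤ q) (hX : q ^ 4 ≤ X) :
    (q ^ 2 * X + q) * q ^ 6 ≤ 2 * (q ^ 2 - 1) ^ 2 * X * X := by
  have h4 : 4 ≤ q ^ 2 := by nlinarith
  have hh : 3 * q ^ 2 ≤ 4 * (q ^ 2 - 1) := by omega
  have h2 : 9 * q ^ 4 ≤ 16 * (q ^ 2 - 1) ^ 2 := by
    have := Nat.pow_le_pow_left hh 2
    rw [mul_pow, mul_pow] at this; ring_nf at this ⊢; linarith
  have hX16 : 16 ≤ X := le_trans (le_trans (by norm_num) (Nat.pow_le_pow_left hq 4)) hX
  have e1 : 16 * q ^ 8 * X ≤ 16 * q ^ 4 * X * X := by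
    calc 16 * q ^ 8 * X = 16 * q ^ 4 * q ^ 4 * X := by ring
      _ ≤ _ := Nat.mul_le_mul_right _ (Nat.mul_le_mul_left _ hX)
  have e2 : 16 * q ^ 7 ≤ 2 * q ^ 4 * X * X := by
    calc 16 * q ^ 7 ≤ 2 * q * q ^ 7 * 8 := by
            nlinarith [show 0 < q ^ 7 by positivity]
      _ ≤ 2 * q ^ 4 * q ^ 4 * X := by
            rw [show 2 * q * q ^ 7 * 8 = 2 * q ^ 4 * q ^ 4 * 8 by ring]
            exact Nat.mul_le_mul_left _ (by omega)
      _ ≤ _ := Nat.mul_le_mul_right _ (Nat.mul_le_mul_left _ hX)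
  nlinarith [Nat.mul_le_mul (Nat.mul_le_mul h2 (le_refl X)) (le_refl X)]

theorem arith_ti {q X : ℕ} (hq : 2 ≤ q) (hX : q ^ 6 ≤ X) :
    (q ^ 2 * X + q) * q ^ 8 ≤ (q ^ 2 - 1) ^ 3 * X * X := by
  have h4 : 4 ≤ q ^ 2 := by nlinarith
  have hh : 3 * q ^ 2 ≤ 4 * (q ^ 2 - 1) := by omega
  have h3 : 27 * q ^ 6 ≤ 64 * (q ^ 2 - 1) ^ 3 := by
    have := Nat.pow_le_pow_left hh 3
    rw [mul_pow, mul_pow] at this; ring_nf at this ⊢; linarith
  have hX64 : 64 ≤ X := le_trans (le_trans (by norm_num) (Nat.pow_le_pow_left hq 6)) hX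
  have e1 : 64 * q ^ 10 * X ≤ 16 * q ^ 6 * X * X := by
    calc 64 * q ^ 10 * X = 16 * q ^ 6 * (4 * q ^ 4) * X := by ring
      _ ≤ 16 * q ^ 6 * q ^ 6 * X := Nat.mul_le_mul_right _ (Nat.mul_le_mul_left _ (by nlinarith [show 0 < q ^ 4 by positivity]))
      _ ≤ _ := Nat.mul_le_mul_right _ (Nat.mul_le_mul_left _ hX)
  have e2 : 64 * q ^ 9 ≤ 11 * q ^ 6 * X * X := by
    calc 64 * q ^ 9 ≤ 11 * q ^ 3 * q ^ 9 * 64 := by
            nlinarith [show 0 < q ^ 9 by positivity, show 0 < q ^ 3 by positivity]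
      _ ≤ 11 * q ^ 6 * q ^ 6 * X := by
            rw [show 11 * q ^ 3 * q ^ 9 * 64 = 11 * q ^ 6 * q ^ 6 * 64 by ring]
            exact Nat.mul_le_mul_left _ hX64
      _ ≤ _ := Nat.mul_le_mul_right _ (Nat.mul_le_mul_left _ hX)
  nlinarith [Nat.mul_le_mul (Nat.mul_le_mul h3 (le_refl X)) (le_refl X)]

/-- Combining a lower bound on the orbit with an upper bound on the image. -/
theorem final_arith {k s T c Q R : ℕ} (hs : 0 < s) (hT : 0 < T) (h : c ≤ k * T) (h' : s * T * Q ≤ c * R) :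
    s * Q ≤ k * R := by
  refine Nat.le_of_mul_le_mul_left ?_ hT
  calc T * (s * Q) = s * T * Q := by ring
    _ ≤ c * R := h'
    _ ≤ k * T * R := Nat.mul_le_mul_right _ h
    _ = T * (k * R) := by ring

variable {F : Type*} [Field F] [Fintype F] {q n : ℕ} {hF : Fintype.card F = q ^ 2}

local notation "Vn" => Fin n → F
local notation "B₀" => hB hF n
local notation "σ₀" => frob hF
local notation "Sg" => SUg hF n

/-- A proper subgroup of index below the number of isotropic points and of anisotropic points. -/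
structure Small (H : Subgroup (SUg hF n)) : Prop where
  proper : H ≠ ⊤
  bound : H.index * (q ^ 2 - 1) + 1 < Herm.N F q n (0 : F)
  bound' : H.index * (q + 1) < Herm.N F q n (1 : F)

theorem N_zero_le (hF : Fintype.card F = q ^ 2) {m : ℕ} :
    q * Herm.N F q m (0 : F) ≤ q ^ (2 * m) + q ^ (m + 1) := by
  have h := (N_values hF m).1
  have hq : q ^ m ≤ q ^ (m + 1) := Nat.pow_le_pow_right (by have := two_le hF; omega) (by omega)
  zify at hq ⊢
  rw [h]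
  rcases neg_one_pow_eq_or ℤ m with e | e <;> rw [e]
  · have : (0 : ℤ) ≤ (q : ℤ) ^ m := by positivity
    linarith
  · have : (0 : ℤ) ≤ (q : ℤ) ^ m := by positivity
    linarith

variable {v v' : Fin n → F} (D : Frame hF n v v')
include D

theorem Frame.card_W' : Nat.card D.W = q ^ (n - 2) * q ^ (n - 2) := by
  rw [D.card_W, ← pow_mul, ← pow_add, two_mul]

theorem Frame.sbar_le (H : Subgroup Sg) (hR : D.rsub H ≠ skew hF) : Nat.card (D.sbar H) ≤ q ^ (n - 2) := by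
  have h := D.sbar_sq_le hR D.nd_W le_rfl (fun a ha => ha.1)
  rw [D.card_W'] at h
  exact Nat.mul_self_le_mul_self_iff.1 h

/-- The consequence of a small index. -/
theorem Frame.key {H : Subgroup Sg} (S : Small H) (hR : D.rsub H ≠ skew hF) :
    ¬ Nat.card (D.sbar H) * (q ^ 2 * q ^ (n - 2) + q) ≤ D.k0 H * ((q ^ 2 - 1) * q ^ (n - 2)) := by
  intro h
  haveI := finite_sg hF (n := n)
  have hq := two_le hF
  have hb := D.basic hR
  rw [D.card_W'] at hb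
  have hN := N_zero_le hF (m := n)
  have hS := S.bound
  have hd := D.dim
  set X := q ^ (n - 2) with hX
  have hs : 0 < Nat.card (D.sbar H) := Nat.card_pos
  set s := Nat.card (D.sbar H)
  rw [show 2 * n = (n - 2) + (n - 2) + 4 by omega, show n + 1 = (n - 2) + 3 by omega, pow_add, pow_add,
    pow_add, ← hX] at hN
  have h1 : s * (q ^ 2 * X + q) * (q * q * X) ≤ H.index * s * ((q ^ 2 - 1) * q) := by
    calc s * (q ^ 2 * X + q) * (q * q * X) ≤ D.k0 H * ((q ^ 2 - 1) * X) * (q * q * X) := Nat.mul_le_mul_right _ h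
      _ = D.k0 H * (X * X * q) * ((q ^ 2 - 1) * q) := by ring
      _ ≤ _ := Nat.mul_le_mul_right _ hb
  have h2 : H.index * s * ((q ^ 2 - 1) * q) < s * (q * Herm.N F q n (0 : F)) := by
    calc H.index * s * ((q ^ 2 - 1) * q) = s * (q * (H.index * (q ^ 2 - 1))) := by ring
      _ < _ := (Nat.mul_lt_mul_left hs).2 ((Nat.mul_lt_mul_left (show 0 < q by omega)).2 (by omega))
  have h3 : s * (q * Herm.N F q n (0 : F)) ≤ s * (q ^ 2 * X + q) * (q * q * X) := by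
    calc s * (q * Herm.N F q n (0 : F)) ≤ s * (X * X * q ^ 4 + X * q ^ 3) := Nat.mul_le_mul_left _ hN
      _ = _ := by ring
  omega

theorem Frame.card_line {a : Vn} : Nat.card (Submodule.span F {a} : Submodule F Vn) ≤ q ^ 2 := by
  rw [Module.natCard_eq_pow_finrank (K := F), card_F hF]
  calc (q ^ 2) ^ finrank F (Submodule.span F {a} : Submodule F Vn) ≤ (q ^ 2) ^ 1 :=
        Nat.pow_le_pow_right (by have := two_le hF; positivity) (by
          have := finrank_span_finset_le_card (R := F) ({a} : Finset Vn)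
          rw [Finset.coe_singleton, Finset.card_singleton] at this
          exact this)
    _ = _ := pow_one _

theorem Frame.ncard_sbar_ne (H : Subgroup Sg) :
    {x : Vn | x ∈ D.sbar H ∧ x ≠ 0}.ncard + 1 = Nat.card (D.sbar H) := by
  show _ = Nat.card ((D.sbar H : Set Vn) : Type _)
  rw [Nat.card_coe_set_eq]
  rw [show {x : Vn | x ∈ D.sbar H ∧ x ≠ 0} = (D.sbar H : Set Vn) \ {0} by ext x; simp]
  exact Set.ncard_diff_singleton_add_one (zero_mem _)

/-- An image lying on a line. -/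
theorem Frame.line_false {H : Subgroup Sg} (S : Small H) (hR : D.rsub H ≠ skew hF) {a : Vn} (ha : a ∈ D.sbar H)
    (ha0 : a ≠ 0) (hline : ∀ x ∈ D.sbar H, x ∈ Submodule.span F {a}) : False := by
  have hq := two_le hF
  refine D.key S hR ?_
  have h1 := D.orbit_one (H := H) ha.1 ha0 (T := {x : Vn | x ∈ D.sbar H ∧ x ≠ 0}) (fun g hg =>
    ⟨D.levi_fx_mem hg ha, fun e => ha0 (g.1.injective (by rw [e, map_zero]))⟩)
  have h2 := (D.le_card_class (self_fixed' a)).trans h1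
  have h3 := D.ncard_sbar_ne H
  have h4 : Nat.card (D.sbar H) ≤ q ^ 2 := le_trans
    (Nat.card_mono (Set.toFinite _) (show (D.sbar H : Set Vn) ⊆ Submodule.span F {a} from hline)) D.card_line
  obtain ⟨d, hd⟩ : ∃ d, n - 2 = d + 3 := ⟨n - 5, by have := D.dim; omega⟩
  rw [hd] at h2 ⊢
  have hk : q ^ (2 * (d + 3) - 3) ≤ D.k0 H := by
    refine Nat.le_of_mul_le_mul_left ?_ (show 0 < q ^ 2 - 1 by have : 4 ≤ q ^ 2 := (by nlinarith); omega)
    refine h2.trans ?_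
    rw [mul_comm (q ^ 2 - 1)]
    exact Nat.mul_le_mul_left _ (by omega)
  calc Nat.card (D.sbar H) * (q ^ 2 * q ^ (d + 3) + q) ≤ q ^ 2 * (q ^ 2 * q ^ (d + 3) + q) := Nat.mul_le_mul_right _ h4
    _ ≤ q ^ (2 * (d + 3) - 3) * (q ^ 2 - 1) * q ^ (d + 3) := arith_line hq
    _ ≤ D.k0 H * (q ^ 2 - 1) * q ^ (d + 3) := Nat.mul_le_mul_right _ (Nat.mul_le_mul_right _ hk)
    _ = _ := mul_assoc _ _ _

/-- The pairs of the image with the given products. -/
def Frame.pairs (H : Subgroup Sg) (a b : Vn) : Set (Vn × Vn) :=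
  {p | (p.1 ∈ D.sbar H ∧ p.1 ≠ 0 ∧ B₀ p.1 p.1 = B₀ a a) ∧ p.2 ∈ D.sbar H ∧ B₀ p.1 p.2 = B₀ a b}

theorem Frame.pairs_stable {H : Subgroup Sg} {a b : Vn} (ha : a ∈ D.sbar H) (ha0 : a ≠ 0) (hb : b ∈ D.sbar H) :
    ∀ g ∈ D.levi H ⊓ D.fx, (g.1 a, g.1 b) ∈ D.pairs H a b := fun g hg =>
  ⟨⟨D.levi_fx_mem hg ha, fun e => ha0 (g.1.injective (e.trans (map_zero _).symm)), sg_form D.C g a a⟩,
    D.levi_fx_mem hg hb, sg_form D.C g a b⟩

theorem Frame.pairs_le (H : Subgroup Sg) (a b : Vn) {t m : ℕ}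
    (ht : {x : Vn | x ∈ D.sbar H ∧ x ≠ 0 ∧ B₀ x x = B₀ a a}.ncard ≤ t)
    (hm : ∀ a' : Vn, a' ∈ D.sbar H → a' ≠ 0 → B₀ a' a' = B₀ a a →
      {x : Vn | x ∈ D.sbar H ∧ B₀ a' x = B₀ a b}.ncard ≤ m) :
    (D.pairs H a b).ncard ≤ t * m := by
  classical
  set A := Finset.univ.filter fun x : Vn => x ∈ D.sbar H ∧ x ≠ 0 ∧ B₀ x x = B₀ a a
  set Bf : Vn → Finset Vn := fun a' => Finset.univ.filter fun x : Vn => x ∈ D.sbar H ∧ B₀ a' x = B₀ a b
  have hsub : (D.pairs H a b).ncard ≤ (A.sigma Bf).card := by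
    rw [← Set.ncard_coe_finset]
    refine Set.ncard_le_ncard_of_injOn (fun p => ⟨p.1, p.2⟩) ?_ ?_ (Set.toFinite _)
    · rintro ⟨x, y⟩ ⟨h1, h2, h3⟩
      exact Finset.mem_coe.2 (Finset.mem_sigma.2
        ⟨Finset.mem_filter.2 ⟨Finset.mem_univ _, h1⟩, Finset.mem_filter.2 ⟨Finset.mem_univ _, h2, h3⟩⟩)
    · rintro ⟨x, y⟩ _ ⟨x', y'⟩ _ h
      simpa using h
  refine hsub.trans ?_
  rw [Finset.card_sigma]
  refine (Finset.sum_le_card_nsmul _ _ m fun x hx => ?_).trans ?_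
  · obtain ⟨h1, h2, h3⟩ := (Finset.mem_filter.1 hx).2
    refine le_trans (le_of_eq ?_) (hm x h1 h2 h3)
    rw [← Set.ncard_coe_finset]; simp [Bf]
  · rw [smul_eq_mul]
    refine Nat.mul_le_mul_right _ (le_trans (le_of_eq ?_) ht)
    rw [← Set.ncard_coe_finset]; simp [A]

theorem Frame.pairs_half (H : Subgroup Sg) (a b : Vn) (hne : B₀ a a ≠ 0 ∨ B₀ a b ≠ 0) :
    2 * (D.pairs H a b).ncard ≤ (Nat.card (D.sbar H) - 1) * Nat.card (D.sbar H) := by
  have ht : {x : Vn | x ∈ D.sbar H ∧ x ≠ 0 ∧ B₀ x x = B₀ a a}.ncard ≤ Nat.card (D.sbar H) - 1 := by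
    have := D.ncard_sbar_ne H
    have h2 : {x : Vn | x ∈ D.sbar H ∧ x ≠ 0 ∧ B₀ x x = B₀ a a}.ncard ≤ {x : Vn | x ∈ D.sbar H ∧ x ≠ 0}.ncard :=
      Set.ncard_le_ncard (fun x hx => ⟨hx.1, hx.2.1⟩) (Set.toFinite _)
    omega
  have hm : ∀ a' : Vn, a' ∈ D.sbar H → a' ≠ 0 → B₀ a' a' = B₀ a a →
      {x : Vn | x ∈ D.sbar H ∧ B₀ a' x = B₀ a b}.ncard ≤ Nat.card (D.sbar H) / 2 := by
    intro a' ha' _ he
    obtain ⟨h1, h2⟩ := D.fibre_le (D.sbar H) a' (B₀ a b)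
    by_cases hex : ∃ x ∈ D.sbar H, B₀ a' x ≠ 0
    · have := h2 hex
      omega
    · push Not at hex
      rcases hne with h | h
      · exact absurd (hex a' ha') (he ▸ h)
      · rw [show {x : Vn | x ∈ D.sbar H ∧ B₀ a' x = B₀ a b} = ∅ from
          Set.eq_empty_iff_forall_notMem.2 fun x hx => h (hx.2 ▸ hex x hx.1), Set.ncard_empty]
        exact Nat.zero_le _
  calc 2 * (D.pairs H a b).ncard ≤ 2 * ((Nat.card (D.sbar H) - 1) * (Nat.card (D.sbar H) / 2)) :=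
        Nat.mul_le_mul_left _ (D.pairs_le H a b ht hm)
    _ = (Nat.card (D.sbar H) - 1) * (2 * (Nat.card (D.sbar H) / 2)) := by ring
    _ ≤ _ := Nat.mul_le_mul_left _ (Nat.mul_div_le _ _)

/-- An anisotropic vector and an independent one, in dimension at least seven. -/
theorem Frame.aniso_false {H : Subgroup Sg} (S : Small H) (hR : D.rsub H ≠ skew hF) (hn : 7 ≤ n) {a b : Vn}
    (ha : a ∈ D.sbar H) (hb : b ∈ D.sbar H) (haa : B₀ a a ≠ 0) (hba : b ∉ Submodule.span F {a}) : False := by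
  classical
  have hq := two_le hF
  have ha0 : a ≠ 0 := fun e => haa (by rw [e]; simp)
  have h1 := D.orbit_two (H := H) (c := (q ^ 2 - 1) * q ^ (2 * (n - 3) - 3)) ha.1 hb.1 ha0 hba
    (fun a' b' h1 h2 _ _ _ => D.exists_aniso_two h1 h2 (Or.inl hn))
    (fun a' h1 h2 h3 => by
      refine le_trans ?_ (D.count_aniso h1 (h3 ▸ haa) (B₀ a b) (B₀ b b))
      have hfix : σ₀ (B₀ b b - σ₀ (B₀ a b) * B₀ a b / B₀ a' a') = B₀ b b - σ₀ (B₀ a b) * B₀ a b / B₀ a' a' := by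
        rw [map_sub, map_div₀, map_mul, frob_frob hF, self_fixed', self_fixed', mul_comm]
      have h4 := N_ge hF (m := n - 3) (by omega) _ (pow_q_of_fixed hfix)
      simp only [sub_eq_zero] at h4
      split_ifs at h4 ⊢ <;> omega)
    (D.pairs_stable ha ha0 hb)
  refine D.key S hR ?_
  have h2 := D.le_card_class (self_fixed' a)
  have h3 := D.pairs_half H a b (Or.inl haa)
  have hsX := D.sbar_le H hR
  have hs : 0 < Nat.card (D.sbar H) := Nat.card_pos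
  set s := Nat.card (D.sbar H)
  set X := q ^ (n - 2) with hX
  have hA := arith_aniso hq (show q ^ 5 ≤ X from Nat.pow_le_pow_right (by omega) (by omega))
  rcases (show s = 1 ∨ 2 ≤ s by omega) with hs1 | hs2
  · exact absurd h3 (by
      have : 0 < (D.pairs H a b).ncard :=
        (Set.ncard_pos (Set.toFinite _)).2 ⟨(a, b), ⟨ha, ha0, rfl⟩, hb, rfl⟩
      rw [hs1]; omega)
  have hss : 0 < s * s := by positivity
  refine final_arith hs hss (c := 2 * (((q ^ 2 - 1) * q ^ (2 * (n - 2) - 3)) * ((q ^ 2 - 1) * q ^ (2 * (n - 3) - 3)))) ?_ ?_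
  · calc 2 * (((q ^ 2 - 1) * q ^ (2 * (n - 2) - 3)) * ((q ^ 2 - 1) * q ^ (2 * (n - 3) - 3)))
        ≤ 2 * (D.k0 H * (D.pairs H a b).ncard) := Nat.mul_le_mul_left _ ((Nat.mul_le_mul_right _ h2).trans h1)
      _ = D.k0 H * (2 * (D.pairs H a b).ncard) := by ring
      _ ≤ D.k0 H * ((s - 1) * s) := Nat.mul_le_mul_left _ h3
      _ ≤ D.k0 H * (s * s) := Nat.mul_le_mul_left _ (Nat.mul_le_mul_right _ (Nat.sub_le _ _))
  · refine (Nat.mul_le_mul_right _ (Nat.mul_le_mul hsX (Nat.mul_le_mul hsX hsX))).trans ?_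
    refine Nat.le_of_mul_le_mul_left ?_ (show 0 < q ^ 8 by positivity)
    have e : q ^ (2 * (n - 2) - 3) * q ^ (2 * (n - 3) - 3) * q ^ 8 = X * X * X * X := by
      rw [hX, ← pow_add, ← pow_add, ← pow_add, ← pow_add, ← pow_add]; congr 1; omega
    calc q ^ 8 * (X * (X * X) * (q ^ 2 * X + q)) = X * X * X * ((q ^ 2 * X + q) * q ^ 8) := by ring
      _ ≤ X * X * X * (2 * (q ^ 2 - 1) ^ 3 * X * X) := Nat.mul_le_mul_left _ hA
      _ = 2 * (q ^ 2 - 1) ^ 3 * X * (X * X * X * X) := by ring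
      _ = _ := by rw [← e]; ring

/-- An anisotropic vector and an independent one, in dimension six. -/
theorem Frame.aniso_false_six {H : Subgroup Sg} (S : Small H) (hR : D.rsub H ≠ skew hF) (hn : n = 6) {a b : Vn}
    (ha : a ∈ D.sbar H) (hb : b ∈ D.sbar H) (haa : B₀ a a ≠ 0) (hba : b ∉ Submodule.span F {a}) : False := by
  classical
  have hn2 : n - 2 = 4 := by omega
  have hn3 : n - 3 = 3 := by omega
  have hq := two_le hF
  have ha0 : a ≠ 0 := fun e => haa (by rw [e]; simp)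
  have hq2 : q ^ 2 * q ≤ q ^ 5 := by rw [← pow_succ]; exact Nat.pow_le_pow_right (by omega) (by norm_num)
  have h1 := D.orbit_two (H := H) (c := q ^ 5 - q ^ 3 + q ^ 2 - 1) ha.1 hb.1 ha0 hba
    (fun a' b' h1 h2 h3 _ _ => D.exists_aniso_two h1 h2 (Or.inr (Or.inl ⟨hn, Or.inl (h3 ▸ haa)⟩)))
    (fun a' h1 h2 h3 => by
      refine le_trans ?_ (D.count_aniso h1 (h3 ▸ haa) (B₀ a b) (B₀ b b))
      have hfix : σ₀ (B₀ b b - σ₀ (B₀ a b) * B₀ a b / B₀ a' a') = B₀ b b - σ₀ (B₀ a b) * B₀ a b / B₀ a' a' := by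
        rw [map_sub, map_div₀, map_mul, frob_frob hF, self_fixed', self_fixed', mul_comm]
      obtain ⟨e0, e1⟩ := N_values hF 3
      have h0' : Herm.N F q 3 (0 : F) + q ^ 3 = q ^ 5 + q ^ 2 := by
        refine Nat.eq_of_mul_eq_mul_left (show 0 < q by omega) ?_
        zify; linear_combination e0
      have h1' : Herm.N F q 3 (1 : F) = q ^ 5 + q ^ 2 := by
        refine Nat.eq_of_mul_eq_mul_left (show 0 < q by omega) ?_
        zify; linear_combination e1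
      have hq3 : q ^ 3 ≤ q ^ 5 := Nat.pow_le_pow_right (by omega) (by norm_num)
      rw [hn3]
      split_ifs with h
      · rw [show B₀ b b - σ₀ (B₀ a b) * B₀ a b / B₀ a' a' = 0 from sub_eq_zero.2 h]
        show _ ≤ Herm.N F q 3 (0 : F) - 1
        omega
      · rw [Herm.N_eq_N_one hF _ (sub_ne_zero.2 h) (pow_q_of_fixed hfix)]
        show _ ≤ Herm.N F q 3 (1 : F) - 0
        omega)
    (D.pairs_stable ha ha0 hb)
  refine D.key S hR ?_
  have h2 : q ^ 7 - q ^ 3 ≤ {x : Vn | x ∈ D.W ∧ x ≠ 0 ∧ B₀ x x = B₀ a a}.ncard := by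
    have h := D.card_class (B₀ a a)
    rw [if_neg haa, add_zero, hn2] at h
    have e1 := (N_values hF 4).2
    rw [h, Herm.N_eq_N_one hF _ haa (pow_q_of_fixed (self_fixed' a))]
    have : Herm.N F q 4 (1 : F) + q ^ 3 = q ^ 7 := by
      refine Nat.eq_of_mul_eq_mul_left (show 0 < q by omega) ?_
      zify; linear_combination e1
    omega
  have h3 := D.pairs_half H a b (Or.inl haa)
  have hsX := D.sbar_le H hR
  rw [hn2] at hsX
  have hs : 0 < Nat.card (D.sbar H) := Nat.card_pos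
  rw [hn2]
  set s := Nat.card (D.sbar H)
  rcases (show s = 1 ∨ 2 ≤ s by omega) with hs1 | hs2
  · exact absurd h3 (by
      have : 0 < (D.pairs H a b).ncard :=
        (Set.ncard_pos (Set.toFinite _)).2 ⟨(a, b), ⟨ha, ha0, rfl⟩, hb, rfl⟩
      rw [hs1]; omega)
  refine final_arith hs (c := 2 * ((q ^ 7 - q ^ 3) * (q ^ 5 - q ^ 3 + q ^ 2 - 1))) (T := (s - 1) * s)
    (Nat.mul_pos (by omega) hs) ?_ ?_
  · calc 2 * ((q ^ 7 - q ^ 3) * (q ^ 5 - q ^ 3 + q ^ 2 - 1)) ≤ 2 * (D.k0 H * (D.pairs H a b).ncard) :=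
        Nat.mul_le_mul_left _ ((Nat.mul_le_mul_right _ h2).trans h1)
      _ = D.k0 H * (2 * (D.pairs H a b).ncard) := by ring
      _ ≤ _ := Nat.mul_le_mul_left _ h3
  · refine (Nat.mul_le_mul_right _ (Nat.mul_le_mul hsX
      (Nat.mul_le_mul (Nat.sub_le_sub_right hsX 1) hsX))).trans ?_
    have e7 : q ^ 7 - q ^ 3 = q ^ 3 * (q ^ 4 - 1) := by rw [Nat.mul_sub, mul_one, ← pow_add]
    rw [e7]
    have hkey : (q ^ 5 + 1) * q ^ 2 ≤ 2 * (q ^ 5 - q ^ 3 + q ^ 2 - 1) * (q ^ 2 - 1) := by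
      obtain ⟨t, ht⟩ : ∃ t, q ^ 2 = t + 1 := ⟨q ^ 2 - 1, by have : 1 ≤ q ^ 2 := Nat.one_le_pow _ _ (by omega); omega⟩
      have hd : q ^ 5 - q ^ 3 + q ^ 2 - 1 = q ^ 3 * t + t := by
        rw [show q ^ 5 = q ^ 3 * q ^ 2 by ring, ht, Nat.mul_succ]; omega
      rw [hd, ht, Nat.add_sub_cancel, show q ^ 5 = q ^ 3 * q ^ 2 by ring, ht]
      have ht3 : 3 ≤ t := by nlinarith
      have h8 : 8 ≤ q ^ 3 := le_trans (by norm_num) (Nat.pow_le_pow_left hq 3)
      have : (t + 1) * (t + 1) ≤ 2 * (t * t) := by nlinarith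
      nlinarith [Nat.mul_le_mul_left (q ^ 3) this]
    calc q ^ 4 * ((q ^ 4 - 1) * q ^ 4) * (q ^ 2 * q ^ 4 + q) = q ^ 7 * (q ^ 4 - 1) * ((q ^ 5 + 1) * q ^ 2) := by ring
      _ ≤ q ^ 7 * (q ^ 4 - 1) * (2 * (q ^ 5 - q ^ 3 + q ^ 2 - 1) * (q ^ 2 - 1)) := Nat.mul_le_mul_left _ hkey
      _ = _ := by ring

/-- Isotropic vectors with a non-zero product. -/
theorem Frame.iso_false {H : Subgroup Sg} (S : Small H) (hR : D.rsub H ≠ skew hF) (hn : 6 ≤ n) {a b : Vn}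
    (ha : a ∈ D.sbar H) (hb : b ∈ D.sbar H) (haa : B₀ a a = 0) (hab : B₀ a b ≠ 0) : False := by
  classical
  have hq := two_le hF
  have ha0 : a ≠ 0 := fun e => hab (by rw [e]; simp)
  have hba : b ∉ Submodule.span F {a} := fun h => by
    obtain ⟨t, rfl⟩ := Submodule.mem_span_singleton.1 h
    exact hab (by rw [map_smul, haa, smul_zero])
  have h1 := D.orbit_two (H := H) (c := q ^ (2 * (n - 4) + 1)) ha.1 hb.1 ha0 hba
    (fun a' b' h1 h2 _ h4 _ => D.exists_aniso_two h1 h2 (by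
      rcases (show 7 ≤ n ∨ n = 6 by omega) with h | h
      · exact Or.inl h
      · exact Or.inr (Or.inl ⟨h, Or.inr (Or.inl (h4 ▸ hab))⟩)))
    (fun a' h1 h2 h3 => D.count_iso h1 (h3.trans haa) h2 hab (self_fixed' b))
    (D.pairs_stable ha ha0 hb)
  refine D.key S hR ?_
  have h2 := D.le_card_class (self_fixed' a)
  have h3 := D.pairs_half H a b (Or.inr hab)
  have hsX := D.sbar_le H hR
  have hs : 0 < Nat.card (D.sbar H) := Nat.card_pos
  set s := Nat.card (D.sbar H)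
  set X := q ^ (n - 2) with hX
  have hA := arith_iso hq (show q ^ 4 ≤ X from Nat.pow_le_pow_right (by omega) (by omega))
  refine final_arith hs (c := 2 * (((q ^ 2 - 1) * q ^ (2 * (n - 2) - 3)) * q ^ (2 * (n - 4) + 1))) (T := s * s)
    (by positivity) ?_ ?_
  · calc 2 * (((q ^ 2 - 1) * q ^ (2 * (n - 2) - 3)) * q ^ (2 * (n - 4) + 1))
        ≤ 2 * (D.k0 H * (D.pairs H a b).ncard) := Nat.mul_le_mul_left _ ((Nat.mul_le_mul_right _ h2).trans h1)
      _ = D.k0 H * (2 * (D.pairs H a b).ncard) := by ring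
      _ ≤ D.k0 H * ((s - 1) * s) := Nat.mul_le_mul_left _ h3
      _ ≤ D.k0 H * (s * s) := Nat.mul_le_mul_left _ (Nat.mul_le_mul_right _ (Nat.sub_le _ _))
  · refine (Nat.mul_le_mul_right _ (Nat.mul_le_mul hsX (Nat.mul_le_mul hsX hsX))).trans ?_
    refine Nat.le_of_mul_le_mul_left ?_ (show 0 < q ^ 6 by positivity)
    have e : q ^ (2 * (n - 2) - 3) * q ^ (2 * (n - 4) + 1) * q ^ 6 = X * X * X * X := by
      rw [hX, ← pow_add, ← pow_add, ← pow_add, ← pow_add, ← pow_add]; congr 1; omega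
    calc q ^ 6 * (X * (X * X) * (q ^ 2 * X + q)) = X * X * X * ((q ^ 2 * X + q) * q ^ 6) := by ring
      _ ≤ X * X * X * (2 * (q ^ 2 - 1) ^ 2 * X * X) := Nat.mul_le_mul_left _ hA
      _ = 2 * (q ^ 2 - 1) ^ 2 * X * (X * X * X * X) := by ring
      _ = _ := by rw [← e]; ring

/-- A totally isotropic image not lying on a line, in dimension at least seven. -/
theorem Frame.ti_false {H : Subgroup Sg} (S : Small H) (hR : D.rsub H ≠ skew hF) (hn : 7 ≤ n) {a b : Vn}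
    (ha : a ∈ D.sbar H) (hb : b ∈ D.sbar H) (hti : ∀ x ∈ D.sbar H, ∀ y ∈ D.sbar H, B₀ x y = 0)
    (ha0 : a ≠ 0) (hba : b ∉ Submodule.span F {a}) : False := by
  classical
  have hq := two_le hF
  have hq2 : 4 ≤ q ^ 2 := by nlinarith
  have h1 := D.orbit_two (H := H) (c := q ^ 2 * ((q ^ 2 - 1) * q ^ (2 * (n - 4) - 3))) ha.1 hb.1 ha0 hba
    (fun a' b' h1 h2 _ _ _ => D.exists_aniso_two h1 h2 (Or.inl hn))
    (fun a' h1 h2 h3 => by
      rw [hti a ha b hb, hti b hb b hb]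
      refine le_trans (Nat.mul_le_mul_left _ ?_) (D.count_ti h1 (h3.trans (hti a ha a ha)) h2)
      have h4 := N_ge hF (m := n - 4) (by omega) 0 (zero_pow (by omega))
      rw [if_pos rfl] at h4
      omega)
    (D.pairs_stable ha ha0 hb)
  refine D.key S hR ?_
  have h2 := D.le_card_class (self_fixed' a)
  -- the size of the span
  set U := Submodule.span F (D.sbar H : Set Vn) with hU
  have hUW : U ≤ D.W := Submodule.span_le.2 fun x hx => hx.1
  have hUiso : ∀ x ∈ U, ∀ y ∈ U, B₀ x y = 0 := by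
    intro x hx y hy
    induction hx using Submodule.span_induction with
    | mem x hx =>
      induction hy using Submodule.span_induction with
      | mem y hy => exact hti x hx y hy
      | zero => simp
      | add y y' _ _ h h' => simp [h, h']
      | smul c y _ h => simp [h]
    | zero => simp
    | add x x' _ _ h h' => simp [h, h']
    | smul c x _ h => simp [h]
  have hdim := (D.ti_dim hUW (fun x hx => hUiso x hx x hx) (zero_mem _) (fun x _ => map_zero _)).1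
  have hsU : Nat.card (D.sbar H) ≤ (q ^ 2) ^ finrank F U := by
    rw [← card_F hF, ← Module.natCard_eq_pow_finrank]
    exact Nat.card_mono (Set.toFinite _) Submodule.subset_span
  have hT : (D.pairs H a b).ncard ≤ Nat.card (D.sbar H) * Nat.card (D.sbar H) := by
    rw [← Nat.card_prod, ← Nat.card_coe_set_eq]
    refine Nat.card_le_card_of_injective (fun p => (⟨p.1.1, p.2.1.1⟩, ⟨p.1.2, p.2.2.1⟩)) ?_
    rintro ⟨⟨x, y⟩, hp⟩ ⟨⟨x', y'⟩, hp'⟩ h
    simp only [Prod.mk.injEq, Subtype.mk.injEq] at h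
    obtain ⟨rfl, rfl⟩ := h
    rfl
  have hs : 0 < Nat.card (D.sbar H) := Nat.card_pos
  set s := Nat.card (D.sbar H)
  set X := q ^ (n - 2) with hX
  refine final_arith hs
    (c := ((q ^ 2 - 1) * q ^ (2 * (n - 2) - 3)) * (q ^ 2 * ((q ^ 2 - 1) * q ^ (2 * (n - 4) - 3)))) (T := s * s)
    (by positivity) (((Nat.mul_le_mul_right _ h2).trans h1).trans (Nat.mul_le_mul_left _ hT)) ?_
  have e : q ^ (2 * (n - 2) - 3) * q ^ 2 * q ^ (2 * (n - 4) - 3) * q ^ 8 = X * X * X * X := by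
    rw [hX, ← pow_add, ← pow_add, ← pow_add, ← pow_add, ← pow_add, ← pow_add]; congr 1; omega
  refine Nat.le_of_mul_le_mul_left ?_ (show 0 < q ^ 8 by positivity)
  rcases (show 8 ≤ n ∨ n = 7 by omega) with h8 | h7
  · have hsX := D.sbar_le H hR
    have hA := arith_ti hq (show q ^ 6 ≤ X from Nat.pow_le_pow_right (by omega) (by omega))
    calc q ^ 8 * (s * (s * s) * (q ^ 2 * X + q)) ≤ q ^ 8 * (X * (X * X) * (q ^ 2 * X + q)) :=
          Nat.mul_le_mul_left _ (Nat.mul_le_mul_right _ (Nat.mul_le_mul hsX (Nat.mul_le_mul hsX hsX)))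
      _ = X * X * X * ((q ^ 2 * X + q) * q ^ 8) := by ring
      _ ≤ X * X * X * ((q ^ 2 - 1) ^ 3 * X * X) := Nat.mul_le_mul_left _ hA
      _ = (q ^ 2 - 1) ^ 3 * X * (X * X * X * X) := by ring
      _ = _ := by rw [← e]; ring
  · subst h7
    have hs4 : s ≤ q ^ 4 := by
      refine hsU.trans ?_
      rw [← pow_mul]
      exact Nat.pow_le_pow_right (by omega) (by omega)
    have hX5 : X = q ^ 5 := hX
    have hkey : q ^ 6 + 1 ≤ (q ^ 2 - 1) ^ 3 * q ^ 4 := by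
      have h27 : 27 ≤ (q ^ 2 - 1) ^ 3 := le_trans (by norm_num) (Nat.pow_le_pow_left (show 3 ≤ q ^ 2 - 1 by omega) 3)
      have h16 : 16 ≤ q ^ 4 := le_trans (by norm_num) (Nat.pow_le_pow_left hq 4)
      have hh : q ^ 2 ≤ 2 * (q ^ 2 - 1) := by omega
      have h8' : q ^ 6 ≤ 8 * (q ^ 2 - 1) ^ 3 := by
        calc q ^ 6 = (q ^ 2) ^ 3 := by ring
          _ ≤ (2 * (q ^ 2 - 1)) ^ 3 := Nat.pow_le_pow_left hh 3
          _ = _ := by ring
      nlinarith
    calc q ^ 8 * (s * (s * s) * (q ^ 2 * X + q)) ≤ q ^ 8 * (q ^ 4 * (q ^ 4 * q ^ 4) * (q ^ 2 * X + q)) :=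
          Nat.mul_le_mul_left _ (Nat.mul_le_mul_right _ (Nat.mul_le_mul hs4 (Nat.mul_le_mul hs4 hs4)))
      _ = q ^ 21 * (q ^ 6 + 1) := by rw [hX5]; ring
      _ ≤ q ^ 21 * ((q ^ 2 - 1) ^ 3 * q ^ 4) := Nat.mul_le_mul_left _ hkey
      _ = (q ^ 2 - 1) ^ 3 * X * (X * X * X * X) := by rw [hX5]; ring
      _ = _ := by rw [← e]; ring

end Cfsg.Lib.Linear.MinIndexU
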