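import Cfsg.Agent.Lib.Linear.MinIndexU.Three

/-!
# Points whose transvections lie in a subgroup of small index

If a point is not good, the subgroup meets the radical of its stabiliser trivially. It follows that a totally
isotropic line with two good points consists of good points.
-/

set_option autoImplicit false
set_option linter.unusedSectionVars false

namespace Cfsg.Lib.Linear.MinIndexU

open Module
open Cfsg.Lib.Linear Cfsg.Lib.Linear.Herm

variable {F : Type*} [Field F] [Fintype F] {q n : ℕ} {hF : Fintype.card F = q ^ 2}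

local notation "Vn" => Fin n → F
local notation "B₀" => hB hF n
local notation "σ₀" => frob hF
local notation "Sg" => SUg hF n

/-- All transvections with the given centre lie in the subgroup. -/
def Good (H : Subgroup (SUg hF n)) (z : Fin n → F) : Prop :=
  ∀ c : F, c + frob hF c = 0 → el hF z 0 c ∈ H

theorem Root.zero' {z : Vn} (hz : B₀ z z = 0) {c : F} (hc : c + σ₀ c = 0) : Root hF z 0 c := Root.zero hz hc

theorem el_zero_apply (C : Big.Space B₀) {z : Vn} (hz : B₀ z z = 0) {c : F} (hc : c + σ₀ c = 0) (x : Vn) :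
    (el hF z 0 c).1 x = x + (c * B₀ z x) • z := by
  rw [el_apply C (Root.zero hz hc)]
  simp [smul_smul, mul_comm]

theorem el_zero_smul (C : Big.Space B₀) {z : Vn} (hz : B₀ z z = 0) {c : F} (hc : c + σ₀ c = 0) (k : F) :
    el hF (k • z) 0 c = el hF z 0 (σ₀ k * k * c) := by
  have h1 : B₀ (k • z) (k • z) = 0 := by simp [hz]
  have h2 : σ₀ k * k * c + σ₀ (σ₀ k * k * c) = 0 := by
    simp only [map_mul, frob_frob hF]; linear_combination (σ₀ k * k) * hc
  refine sg_ext fun x => ?_
  rw [el_zero_apply C h1 hc, el_zero_apply C hz h2]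
  simp only [LinearMap.map_smulₛₗ, LinearMap.smul_apply, smul_eq_mul, smul_smul]
  ring_nf

theorem el_zero_conj (C : Big.Space B₀) {z : Vn} (hz : B₀ z z = 0) {c : F} (hc : c + σ₀ c = 0) (g : Sg) :
    g * el hF z 0 c * g⁻¹ = el hF (g.1 z) 0 c := by
  refine sg_ext fun x => ?_
  obtain ⟨y, rfl⟩ : ∃ y, g.1 y = x := ⟨(g⁻¹).1 x, apply_inv g x⟩
  show g.1 ((el hF z 0 c).1 ((g⁻¹).1 (g.1 y))) = _
  rw [inv_apply, el_zero_apply C hz hc, el_zero_apply C (by rw [sg_form C, hz]) hc, sg_form C, map_add, map_smul]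

theorem Good.smul (C : Big.Space B₀) {H : Subgroup Sg} {z : Vn} (hz : B₀ z z = 0) (h : Good H z) (k : F) :
    Good H (k • z) := fun c hc => by
  rw [el_zero_smul C hz hc]
  refine h _ ?_
  simp only [map_mul, frob_frob hF]; linear_combination (σ₀ k * k) * hc

theorem good_zero (C : Big.Space B₀) (H : Subgroup Sg) : Good H (0 : Vn) := fun c hc => by
  rw [show el hF (0 : Vn) 0 c = 1 from sg_ext fun x => by rw [el_zero_apply C (by simp) hc]; simp]
  exact one_mem H

theorem Good.map (C : Big.Space B₀) {H : Subgroup Sg} {z : Vn} (hz : B₀ z z = 0) (h : Good H z) {g : Sg}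
    (hg : g ∈ H) : Good H (g.1 z) := fun c hc => by
  rw [← el_zero_conj C hz hc g]
  exact mul_mem (mul_mem hg (h c hc)) (inv_mem hg)

variable {v v' : Fin n → F}

theorem Pair.good_iff (D : Pair hF n v v') (H : Subgroup Sg) : D.rsub H = skew hF ↔ Good H v := by
  constructor
  · intro h c hc
    exact ((h ▸ (mem_skew hF).2 hc : c ∈ D.rsub H)).2
  · exact fun h => le_antisymm (D.rsub_le H) fun c hc => ⟨hc, h c hc⟩

/-- The intersection with the radical of a point which is not good is trivial. -/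
theorem Frame.sbar_zero (D : Frame hF n v v') {H : Subgroup Sg} (S : Small H) {z a : Vn} {e : F} (hz : B₀ z z = 0) (hbad : ¬ Good H z)
    (hr : Root hF z a e) (h : el hF z a e ∈ H) : a ∈ Submodule.span F {z} := by
  have hz0 : z ≠ 0 := fun e => hbad (e ▸ good_zero D.C H)
  obtain ⟨z', hz', hzz', -⟩ := Big.exists_partner_perp D.C hz ⊥ (by simpa using hz0)
    (fun x hx => by rw [(Submodule.mem_bot F).1 hx]; simp)
  have D' : Frame hF n z z' := { C := D.C, dim := D.dim, hv := hz, hv' := hz', pair := hzz' }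
  obtain ⟨w, hw, ha⟩ := D'.decomp a
  rw [hr.2.1, zero_smul, add_zero] at ha
  set β := B₀ z' a
  have hw' : Root hF z w e := by
    refine ⟨hz, D'.W_v hw, ?_⟩
    have he := hr.2.2
    rw [ha] at he
    simpa [D'.W_v hw, D'.v_W hw, hz] using he
  obtain ⟨h1, h2⟩ := el_shift D.C hw' β
  rw [ha, h2] at h
  have hmem : w ∈ D'.sbar H := ⟨hw, _, by
    refine ⟨hz, D'.W_v hw, ?_⟩
    rw [map_sub, map_add, frob_frob hF]
    linear_combination hw'.2.2, h⟩
  rw [ha, D'.sbar_bot S (fun e => hbad ((D'.good_iff H).1 e)) w hmem, zero_add]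
  exact Submodule.smul_mem _ _ (Submodule.mem_span_singleton_self z)

/-- A totally isotropic line with two good points consists of good points. -/
theorem Frame.line_good (D : Frame hF n v v') {H : Subgroup Sg} (S : Small H) {z w : Vn} (hz : B₀ z z = 0) (hw : B₀ w w = 0)
    (hzw : B₀ z w = 0) (gz : Good H z) (gw : Good H w) (k : F) : Good H (z + k • w) := by
  rcases eq_or_ne k 0 with rfl | hk
  · simpa using gz
  by_contra hbad
  set p := z + k • w with hp
  have hwz := symm_zero hzw
  have hpp : B₀ p p = 0 := by simp [hp, hz, hw, hzw, hwz]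
  have hpw : B₀ p w = 0 := by simp [hp, hw, hzw]
  obtain ⟨c, hc0, hc⟩ := exists_trace_zero (frob_ne_id hF) (frob_frob hF)
  have hc' : -(c * (σ₀ k * k)) + σ₀ (-(c * (σ₀ k * k))) = 0 := by
    simp only [map_neg, map_mul, frob_frob hF]; linear_combination -(σ₀ k * k) * hc
  have hσc : σ₀ c = -c := eq_neg_of_add_eq_zero_right hc
  have hr : Root hF p (-(c * k) • w) c := by
    refine ⟨hpp, by rw [map_smul, hpw, smul_zero], ?_⟩
    simp [hw, hσc]
  have e : el hF z 0 c * el hF w 0 (-(c * (σ₀ k * k))) = el hF p (-(c * k) • w) c := by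
    refine sg_ext fun x => ?_
    show (el hF z 0 c).1 ((el hF w 0 _).1 x) = _
    rw [el_zero_apply D.C hz hc, el_zero_apply D.C hw hc', el_apply D.C hr]
    simp only [hp, map_add, map_smul, LinearMap.map_smulₛₗ, LinearMap.add_apply, LinearMap.smul_apply,
      smul_eq_mul, hzw, map_neg, map_mul, hσc]
    module
  have h := D.sbar_zero S hpp hbad hr (e ▸ mul_mem (gz c hc) (gw _ hc'))
  obtain ⟨r, hr'⟩ := Submodule.mem_span_singleton.1 h
  refine hbad ?_
  rcases eq_or_ne r 0 with h0 | h0
  · rw [h0, zero_smul, eq_comm, smul_eq_zero] at hr'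
    rcases hr' with hr' | hr'
    · exact absurd hr' (neg_ne_zero.2 (mul_ne_zero hc0 hk))
    · simpa [hp, hr'] using gz
  · rw [show p = r⁻¹ • (-(c * k) • w) by rw [← hr', inv_smul_smul₀ h0], smul_smul]
    exact gw.smul D.C hw _

/-- A product of transvections at a bad point and at an orthogonal one is one transvection. -/
theorem Frame.rank_two (D : Frame hF n v v') {H : Subgroup Sg} (S : Small H) (hR : D.rsub H ≠ skew hF) {w : Vn} (hw : w ∈ D.W)
    (hw0 : w ≠ 0) (hww : B₀ w w = 0) {l c : F} (hl0 : l ≠ 0) (hl : l + σ₀ l = 0) (hc : c + σ₀ c = 0)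
    (h : el hF w 0 l * el hF v 0 c ∈ H) : c = 0 := by
  by_contra hc0
  have hbad : ¬ Good H v := fun e => hR ((D.good_iff H).2 e)
  have hσl : σ₀ l = -l := eq_neg_of_add_eq_zero_right hl
  have hσc : σ₀ c = -c := eq_neg_of_add_eq_zero_right hc
  have hwv := D.v_W hw
  have hvw := D.W_v hw
  have hgood : ∀ k : F, σ₀ k * k = -c / l → Good H (w + k • v) := by
    intro k hk
    by_contra hb
    set p := w + k • v with hp
    have hpp : B₀ p p = 0 := by simp [hp, hww, hwv, hvw, D.hv]
    have hpv : B₀ p v = 0 := by simp [hp, hwv, D.hv]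
    have hr : Root hF p (-(l * k) • v) l := ⟨hpp, by rw [map_smul, hpv, smul_zero], by simp [D.hv, hσl]⟩
    have hck : c = -(l * (σ₀ k * k)) := by rw [hk]; field_simp
    have e : el hF w 0 l * el hF v 0 c = el hF p (-(l * k) • v) l := by
      refine sg_ext fun x => ?_
      show (el hF w 0 l).1 ((el hF v 0 c).1 x) = _
      rw [el_zero_apply D.C hww hl, el_zero_apply D.C D.hv hc, el_apply D.C hr]
      simp only [hp, map_add, map_smul, LinearMap.map_smulₛₗ, LinearMap.add_apply, LinearMap.smul_apply,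
        smul_eq_mul, hwv, map_neg, map_mul, hσl, hck]
      module
    obtain ⟨r, hr'⟩ := Submodule.mem_span_singleton.1 (D.sbar_zero S hpp hb hr (e ▸ h))
    have e1 := congrArg (B₀ v') hr'
    simp [hp, D.W_v' hw, D.pair'] at e1
    have hk0 : k ≠ 0 := fun e => hc0 (by rw [hck, e]; ring)
    rcases eq_or_ne r 0 with h0 | h0
    · rw [h0, zero_mul, eq_comm, neg_eq_zero] at e1
      exact mul_ne_zero hl0 hk0 e1
    · have e2 : r • w = (-(l * k) - r * k) • v := by
        rw [sub_smul, ← hr', hp, smul_add, smul_smul, add_sub_cancel_right]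
      have e3 : r * k = -(l * k) := e1
      rw [e3, sub_self, zero_smul, smul_eq_zero] at e2
      exact hw0 (e2.resolve_left h0)
  have hne : -c / l ≠ 0 := div_ne_zero (neg_ne_zero.2 hc0) hl0
  obtain ⟨ku, hk⟩ := Herm.exists_norm_eq hF hne (pow_q_of_fixed (show σ₀ (-c / l) = -c / l by
    rw [map_div₀, map_neg, hσc, hσl]; ring))
  set k : F := (ku : F)
  have hk' : σ₀ k * k = -c / l := by rw [frob_apply, ← pow_succ, hk]
  have hk0 : k ≠ 0 := ku.ne_zero
  obtain ⟨ζ, hζ, hζ1⟩ : ∃ ζ : F, σ₀ ζ * ζ = 1 ∧ ζ ≠ 1 := by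
    obtain ⟨z, hz, hz1⟩ := exists_norm_one_ne_neg_one (frob_ne_id hF) (frob_frob hF)
    exact ⟨-z, by rw [map_neg]; linear_combination hz, fun e => hz1 (by linear_combination -e)⟩
  have g1 := hgood k hk'
  have g2 := hgood (ζ * k) (by rw [map_mul]; linear_combination (σ₀ k * k) * hζ + hk')
  have hd : ζ * k - k ≠ 0 := by
    rw [← sub_one_mul]; exact mul_ne_zero (sub_ne_zero.2 hζ1) hk0
  have hiso : ∀ t : F, B₀ (w + t • v) (w + t • v) = 0 := fun t => by simp [hww, hwv, hvw, D.hv]
  have g3 := D.line_good S (hiso _) (hiso k) (by simp [hww, hwv, hvw, D.hv]) g2 g1 (-1)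
  rw [show (w + (ζ * k) • v) + (-1 : F) • (w + k • v) = (ζ * k - k) • v by module] at g3
  refine hbad ?_
  have := g3.smul D.C (by simp [D.hv]) (ζ * k - k)⁻¹
  rwa [inv_smul_smul₀ hd] at this

end Cfsg.Lib.Linear.MinIndexU
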