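import Cfsg.Agent.Lib.Linear.MinIndexU.Radical

/-!
# The Levi complement: surjectivity of the norm, transitivity, and the basic inequality
-/

set_option autoImplicit false
set_option linter.unusedSectionVars false

namespace Cfsg.Lib.Linear.MinIndexU

open Module
open Cfsg.Lib.Linear Cfsg.Lib.Linear.Herm

variable {F : Type*} [Field F] [Fintype F] {q n : ℕ} {hF : Fintype.card F = q ^ 2}

local notation "Vn" => Fin n → F
local notation "B₀" => hB hF n
local notation "σ₀" => frob hF
local notation "Sg" => SUg hF n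

variable (hF) in
/-- The fixed units stabilising an additive subgroup. -/
noncomputable def mStab (R : AddSubgroup F) : Subgroup Fˣ where
  carrier := {μ | σ₀ (μ : F) = (μ : F) ∧ ∀ x ∈ R, (μ : F) * x ∈ R}
  one_mem' := ⟨by simp, fun x hx => by simpa using hx⟩
  mul_mem' := fun {a b} ha hb => ⟨by rw [Units.val_mul, map_mul, ha.1, hb.1], fun x hx => by
    rw [Units.val_mul, mul_assoc]; exact ha.2 _ (hb.2 x hx)⟩
  inv_mem' := fun {a} ha => by
    have e : a⁻¹ = a ^ (Nat.card Fˣ - 1) := by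
      refine inv_eq_of_mul_eq_one_right ?_
      rw [← pow_succ', Nat.sub_add_cancel Nat.card_pos]
      exact pow_card_eq_one'
    rw [e]
    refine ⟨by rw [Units.val_pow_eq_pow_val, map_pow, ha.1], fun x hx => ?_⟩
    induction (Nat.card Fˣ - 1) with
    | zero => simpa using hx
    | succ k ih => rw [pow_succ', Units.val_mul, mul_assoc]; exact ha.2 _ ih

theorem mem_mStab {R : AddSubgroup F} {μ : Fˣ} :
    μ ∈ mStab hF R ↔ σ₀ (μ : F) = (μ : F) ∧ ∀ x ∈ R, (μ : F) * x ∈ R := Iff.rfl

/-- A proper subgroup of the trace-zero elements and its stabiliser are small together. -/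
theorem card_mStab_mul_le {R : AddSubgroup F} (hle : R ≤ skew hF) (hne : R ≠ skew hF) :
    Nat.card (mStab hF R) * Nat.card R + Nat.card R ≤ q := by
  classical
  obtain ⟨x0, hx0, hx0R⟩ := SetLike.exists_of_lt (lt_of_le_of_ne hle hne)
  let f : mStab hF R × R ⊕ R → skew hF := fun p =>
    p.elim (fun p => ⟨(p.1.1 : F) * x0 + p.2.1, add_mem (by
      have h := (mem_skew hF).1 hx0
      rw [mem_skew, map_mul, p.1.2.1]; linear_combination (p.1.1 : F) * h) (hle p.2.2)⟩)
      (fun y => ⟨y.1, hle y.2⟩)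
  have hcard := Nat.card_le_card_of_injective f ?_
  · rwa [Nat.card_sum, Nat.card_prod, card_skew] at hcard
  have hout : ∀ (μ : mStab hF R) (x : R), (μ.1 : F) * x0 + x.1 ∉ R := fun μ x h => by
    have h1 := sub_mem h x.2
    rw [add_sub_cancel_right] at h1
    have h2 := (mStab hF R).inv_mem μ.2 |>.2 _ h1
    rw [← mul_assoc, Units.inv_mul, one_mul] at h2
    exact hx0R h2
  rintro (⟨μ, x⟩ | y) (⟨μ', x'⟩ | y') h
  · have h' : (μ.1 : F) * x0 + x.1 = (μ'.1 : F) * x0 + x'.1 := congrArg Subtype.val h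
    by_cases hμ : μ = μ'
    · subst hμ
      have hx : x.1 = x'.1 := add_left_cancel h'
      rw [Subtype.ext hx]
    exfalso
    have hd : (μ.1 : F) - μ'.1 ≠ 0 := sub_ne_zero.2 fun e => hμ (Subtype.ext (Units.ext e))
    have hmem : ((μ.1 : F) - μ'.1) * x0 ∈ R := by
      rw [show ((μ.1 : F) - μ'.1) * x0 = x'.1 - x.1 by linear_combination h']
      exact sub_mem x'.2 x.2
    have hu : Units.mk0 _ hd ∈ mStab hF R := ⟨by rw [Units.val_mk0, map_sub, μ.2.1, μ'.2.1], fun z hz => by
      rw [Units.val_mk0, sub_mul]; exact sub_mem (μ.2.2 z hz) (μ'.2.2 z hz)⟩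
    have h2 := (mStab hF R).inv_mem hu |>.2 _ hmem
    rw [← mul_assoc, Units.val_inv_eq_inv_val, Units.val_mk0, inv_mul_cancel₀ hd, one_mul] at h2
    exact hx0R h2
  · exact absurd (show (μ.1 : F) * x0 + x.1 ∈ R by
      rw [show (μ.1 : F) * x0 + x.1 = y'.1 from congrArg Subtype.val h]; exact y'.2) (hout μ x)
  · exact absurd (show (μ'.1 : F) * x0 + x'.1 ∈ R by
      rw [← show y.1 = (μ'.1 : F) * x0 + x'.1 from congrArg Subtype.val h]; exact y.2) (hout μ' x')
  · have : y.1 = y'.1 := congrArg (fun z : skew hF => z.1) h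
    rw [Subtype.ext this]

variable {v v' : Fin n → F}

/-- A totally isotropic subspace of the orthogonal space has at most half its dimension. -/
theorem Pair.ti_dim (D : Pair hF n v v') {U : Submodule F Vn} (hU : U ≤ D.W) (h : ∀ x ∈ U, B₀ x x = 0) {a : Vn} (ha : a ∈ D.W)
    (haU : ∀ x ∈ U, B₀ x a = 0) :
    2 * finrank F U + 2 ≤ n ∧ (n ≤ 2 * finrank F U + 2 → a ∈ U) := by
  classical
  have hiso := isotropic_of_self h
  set X := U ⊔ Submodule.span F {a} ⊔ Submodule.span F ({v, v'} : Set Vn) with hX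
  have hle : X ≤ perp hF U := by
    refine sup_le (sup_le (fun x hx y hy => hiso y hy x hx) ?_) ?_
    · rw [Submodule.span_singleton_le_iff_mem]; exact haU
    · rw [Submodule.span_le]
      rintro x (rfl | rfl) <;> intro y hy
      · exact D.v_W (hU hy)
      · exact D.v'_W (hU hy)
  have h1 := Submodule.finrank_mono hle
  have h2 := finrank_perp hF U
  have hP : finrank F (Submodule.span F ({v, v'} : Set Vn)) = 2 := by
    rw [Submodule.span_insert, sup_comm, Submodule.finrank_sup_span_singleton, finrank_span_singleton]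
    · intro h0
      have := D.pair
      rw [h0, map_zero] at this
      exact zero_ne_one this
    · intro hm
      obtain ⟨c, e⟩ := Submodule.mem_span_singleton.1 hm
      have h := congrArg (fun z => B₀ v' z) e
      simp [D.hv', D.pair'] at h
  have hdis : (U ⊔ Submodule.span F {a}) ⊓ Submodule.span F ({v, v'} : Set Vn) = ⊥ := by
    rw [Submodule.eq_bot_iff]
    rintro x ⟨hx1, hx2⟩
    have hxW : x ∈ D.W := (sup_le hU ((Submodule.span_singleton_le_iff_mem _ _).2 ha)) hx1
    obtain ⟨s, t, rfl⟩ := Submodule.mem_span_pair.1 hx2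
    have e1 := D.W_v hxW
    have e2 := D.W_v' hxW
    simp [D.hv, D.hv', D.pair, D.pair'] at e1 e2
    simp [e1, e2]
  have h3 := Submodule.finrank_sup_add_finrank_inf_eq (U ⊔ Submodule.span F {a}) (Submodule.span F ({v, v'} : Set Vn))
  rw [hdis, finrank_bot, hP, ← hX] at h3
  by_cases haU' : a ∈ U
  · refine ⟨?_, fun _ => haU'⟩
    have h4 : finrank F U ≤ finrank F ↥(U ⊔ Submodule.span F {a}) := Submodule.finrank_mono le_sup_left
    omega
  · have h4 := Submodule.finrank_sup_span_singleton haU'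
    exact ⟨by omega, fun h => by omega⟩

/-- The orthogonal in the orthogonal space of at most two vectors has an anisotropic vector. -/
theorem Frame.exists_aniso_one (D : Frame hF n v v') {b : Vn} : ∃ e ∈ D.W, B₀ b e = 0 ∧ B₀ e e ≠ 0 := by
  by_contra hc
  push Not at hc
  have h := D.ti_dim (U := D.W ⊓ LinearMap.ker (B₀ b)) inf_le_left (fun x hx => hc x hx.1 hx.2) (zero_mem _)
    (fun x _ => map_zero _)
  have h1 := Submodule.finrank_sup_add_finrank_inf_eq D.W (LinearMap.ker (B₀ b))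
  have h2 := LinearMap.finrank_range_add_finrank_ker (B₀ b)
  have h3 : finrank F (LinearMap.range (B₀ b)) ≤ 1 := by simpa using Submodule.finrank_le (LinearMap.range (B₀ b))
  have h4 := Submodule.finrank_le (D.W ⊔ LinearMap.ker (B₀ b))
  rw [D.finrank_W] at h1
  rw [finrank_fin_fun] at h2 h4
  have := D.dim
  omega

theorem Frame.exists_aniso_two (D : Frame hF n v v') {a b : Vn} (ha : a ∈ D.W) (hb : b ∈ D.W)
    (hcond : 7 ≤ n ∨ (n = 6 ∧ (B₀ a a ≠ 0 ∨ B₀ a b ≠ 0 ∨ B₀ b b ≠ 0)) ∨ B₀ a a * B₀ b b ≠ B₀ a b * B₀ b a) :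
    ∃ e ∈ D.W, B₀ a e = 0 ∧ B₀ b e = 0 ∧ B₀ e e ≠ 0 := by
  by_contra hc
  push Not at hc
  set U := D.W ⊓ (LinearMap.ker (B₀ a) ⊓ LinearMap.ker (B₀ b))
  have hU0 : ∀ x ∈ U, B₀ x x = 0 := fun x hx => hc x hx.1 hx.2.1 hx.2.2
  have hTa := D.ti_dim (U := U) inf_le_left hU0 ha (fun x hx => symm_zero hx.2.1)
  have hTb := D.ti_dim (U := U) inf_le_left hU0 hb (fun x hx => symm_zero hx.2.2)
  have h1 := Submodule.finrank_sup_add_finrank_inf_eq D.W (LinearMap.ker (B₀ a) ⊓ LinearMap.ker (B₀ b))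
  have h2 := LinearMap.finrank_range_add_finrank_ker ((B₀ a).prod (B₀ b))
  have h3 := Submodule.finrank_le (LinearMap.range ((B₀ a).prod (B₀ b)))
  rw [Module.finrank_prod, Module.finrank_self] at h3
  rw [LinearMap.ker_prod, finrank_fin_fun] at h2
  have h4 := Submodule.finrank_le (D.W ⊔ (LinearMap.ker (B₀ a) ⊓ LinearMap.ker (B₀ b)))
  rw [D.finrank_W] at h1
  rw [finrank_fin_fun] at h4
  have hd := D.dim
  rcases hcond with h | ⟨h6, h⟩ | h
  · have hT1 := hTa.1
    change finrank F ↥(D.W ⊔ (LinearMap.ker (B₀ a) ⊓ LinearMap.ker (B₀ b))) + finrank F ↥U = _ at h1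
    omega
  · change finrank F ↥(D.W ⊔ (LinearMap.ker (B₀ a) ⊓ LinearMap.ker (B₀ b))) + finrank F ↥U = _ at h1
    have hT1 := hTa.1
    have haU := hTa.2 (by omega)
    have hbU := hTb.2 (by omega)
    have hiso := isotropic_of_self hU0
    rcases h with h | h | h
    · exact h (hU0 a haU)
    · exact h (hiso a haU b hbU)
    · exact h (hU0 b hbU)
  · change finrank F ↥(D.W ⊔ (LinearMap.ker (B₀ a) ⊓ LinearMap.ker (B₀ b))) + finrank F ↥U = _ at h1
    have hT1 := hTa.1
    obtain ⟨u, hu, hu0⟩ : ∃ u ∈ U, u ≠ 0 := Submodule.exists_mem_ne_zero_of_ne_bot fun e => by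
      rw [e, finrank_bot] at h1; omega
    have huu := hU0 u hu
    have hua : B₀ u a = 0 := symm_zero hu.2.1
    have hub : B₀ u b = 0 := symm_zero hu.2.2
    rcases (show 7 ≤ n ∨ n = 6 ∨ n = 5 by omega) with hn | hn | hn
    · omega
    · have haU := hTa.2 (by omega)
      have hbU := hTb.2 (by omega)
      exact h (by rw [hU0 a haU, isotropic_of_self hU0 a haU b hbU, zero_mul, zero_mul])
    -- in dimension three the plane of the two vectors is a complement
    have hli : LinearIndependent F ![a, b, u] := by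
      rw [Fintype.linearIndependent_iff]
      intro g hg
      simp [Fin.sum_univ_three] at hg
      have e1 := congrArg (B₀ a) hg
      have e2 := congrArg (B₀ b) hg
      simp [show B₀ a u = 0 from hu.2.1, show B₀ b u = 0 from hu.2.2] at e1 e2
      have d0 : g 0 * (B₀ a a * B₀ b b - B₀ a b * B₀ b a) = 0 := by
        linear_combination B₀ b b * e1 - B₀ a b * e2
      have d1 : g 1 * (B₀ a a * B₀ b b - B₀ a b * B₀ b a) = 0 := by
        linear_combination B₀ a a * e2 - B₀ b a * e1
      have hg0 := (mul_eq_zero.1 d0).resolve_right (sub_ne_zero.2 h)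
      have hg1 := (mul_eq_zero.1 d1).resolve_right (sub_ne_zero.2 h)
      rw [hg0, hg1, zero_smul, zero_smul, zero_add, zero_add, smul_eq_zero] at hg
      intro i
      fin_cases i
      · exact hg0
      · exact hg1
      · exact hg.resolve_right hu0
    have hspan : D.W ≤ LinearMap.ker (B₀ u) := by
      have hle : Submodule.span F (Set.range ![a, b, u]) ≤ D.W := Submodule.span_le.2 (by
        rintro _ ⟨i, rfl⟩
        fin_cases i
        · exact ha
        · exact hb
        · exact hu.1)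
      have heq := Submodule.eq_of_le_of_finrank_eq hle (by
        rw [finrank_span_eq_card hli, Fintype.card_fin, D.finrank_W]; omega)
      rw [← heq, Submodule.span_le]
      rintro _ ⟨i, rfl⟩
      fin_cases i
      · exact hua
      · exact hub
      · exact huu
    exact hu0 (D.nd_W u hu.1 fun x hx => symm_zero (hspan hx))

/-- The plane of the pair meets the orthogonal space trivially. -/
theorem Pair.notMem_plane (D : Pair hF n v v') {a : Vn} (ha : a ∈ D.W) (ha0 : a ≠ 0) :
    a ∉ Submodule.span F ({v, v'} : Set Vn) := by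
  intro h
  obtain ⟨s, t, rfl⟩ := Submodule.mem_span_pair.1 h
  have e1 := D.W_v ha
  have e2 := D.W_v' ha
  simp [D.hv, D.hv', D.pair, D.pair'] at e1 e2
  exact ha0 (by simp [e1, e2])

/-- The fixer of the pair is transitive on the non-zero vectors of given norm. -/
theorem Frame.fx_trans (D : Frame hF n v v') {a b : Vn} (ha : a ∈ D.W) (hb : b ∈ D.W) (ha0 : a ≠ 0) (hb0 : b ≠ 0)
    (hab : B₀ a a = B₀ b b) : ∃ g ∈ D.fx, g.1 a = b := by
  obtain ⟨e, he, heb, hee⟩ := D.exists_aniso_one (b := b)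
  obtain ⟨g, hg, hga⟩ := exists_trans D.C (Submodule.span F ({v, v'} : Set Vn)) (D.notMem_plane ha ha0)
    (D.notMem_plane hb hb0) (fun x hx => by
      obtain ⟨s, t, rfl⟩ := Submodule.mem_span_pair.1 hx
      simp [D.W_v ha, D.W_v' ha, D.W_v hb, D.W_v' hb]) hab hee (fun x hx => by
      obtain ⟨s, t, rfl⟩ := Submodule.mem_span_pair.1 hx
      simp [D.v_W he, D.v'_W he]) (symm_zero heb)
  exact ⟨g, ⟨hg v (Submodule.subset_span (by simp)), hg v' (Submodule.subset_span (by simp))⟩, hga⟩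

/-- Transitivity on pairs. -/
theorem Frame.fx_trans_two (D : Frame hF n v v') {a b b' e : Vn} (ha : a ∈ D.W) (hb : b ∈ D.W) (hb' : b' ∈ D.W) (ha0 : a ≠ 0)
    (hba : b ∉ Submodule.span F {a}) (hb'a : b' ∉ Submodule.span F {a})
    (h1 : B₀ a b = B₀ a b') (h2 : B₀ b b = B₀ b' b') (he : e ∈ D.W) (hea : B₀ a e = 0) (heb : B₀ b' e = 0)
    (hee : B₀ e e ≠ 0) : ∃ g ∈ D.fx, g.1 a = a ∧ g.1 b = b' := by
  set X := Submodule.span F ({v, v'} : Set Vn) ⊔ Submodule.span F {a} with hX
  have hnot : ∀ c ∈ D.W, c ∉ Submodule.span F {a} → c ∉ X := by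
    intro c hc hca hm
    obtain ⟨p, hp, r, hr, e⟩ := Submodule.mem_sup.1 hm
    obtain ⟨t, rfl⟩ := Submodule.mem_span_singleton.1 hr
    have hpW : p ∈ D.W := by
      rw [show p = c - t • a by rw [← e, add_sub_cancel_right]]
      exact sub_mem hc (Submodule.smul_mem _ _ ha)
    by_cases hp0 : p = 0
    · exact hca (by rw [← e, hp0, zero_add]; exact Submodule.smul_mem _ _ (Submodule.mem_span_singleton_self a))
    · exact D.notMem_plane hpW hp0 hp
  have hperp : ∀ c ∈ D.W, ∀ x ∈ Submodule.span F ({v, v'} : Set Vn), B₀ x c = 0 ∧ B₀ c x = 0 := fun c hc x hx => by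
    obtain ⟨s, t, rfl⟩ := Submodule.mem_span_pair.1 hx
    simp [D.W_v hc, D.W_v' hc, D.v_W hc, D.v'_W hc]
  obtain ⟨g, hg, hgb⟩ := exists_trans D.C X (hnot b hb hba) (hnot b' hb' hb'a) (fun x hx => by
      obtain ⟨p, hp, r, hr, rfl⟩ := Submodule.mem_sup.1 hx
      obtain ⟨t, rfl⟩ := Submodule.mem_span_singleton.1 hr
      simp [(hperp b hb p hp).1, (hperp b' hb' p hp).1, h1]) h2 hee (fun x hx => by
      obtain ⟨p, hp, r, hr, rfl⟩ := Submodule.mem_sup.1 hx
      obtain ⟨t, rfl⟩ := Submodule.mem_span_singleton.1 hr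
      simp [(hperp e he p hp).2, symm_zero hea]) (symm_zero heb)
  exact ⟨g, ⟨hg v (Submodule.mem_sup_left (Submodule.subset_span (by simp))),
    hg v' (Submodule.mem_sup_left (Submodule.subset_span (by simp)))⟩,
    hg a (Submodule.mem_sup_right (Submodule.mem_span_singleton_self a)), hgb⟩

/-- An element of the Levi complement with given factor, moving only one anisotropic line of the orthogonal space. -/
theorem Pair.exists_lev (D : Pair hF n v v') (ν : Fˣ) {e : Vn} (he : e ∈ D.W) (hee : B₀ e e ≠ 0) :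
    ∃ g ∈ D.lev, D.nu g = ν ∧ g.1 e = (σ₀ (ν : F) / ν) • e ∧ ∀ w ∈ D.W, B₀ e w = 0 → g.1 w = w := by
  have hν : (ν : F) ≠ 0 := ν.ne_zero
  have hσν : σ₀ (ν : F) ≠ 0 := by simp
  let L : Vn →ₗ[F] Vn := (LinearMap.transvection (((ν : F) - 1) • B₀ v') v).comp
    (LinearMap.transvection (((σ₀ (ν : F))⁻¹ - 1) • B₀ v) v')
  have hL : ∀ x, L x = x + (((ν : F) - 1) * B₀ v' x) • v + (((σ₀ (ν : F))⁻¹ - 1) * B₀ v x) • v' := fun x => by
    simp [L, LinearMap.transvection, D.hv']
    module
  obtain ⟨t, ht, hdet, htL⟩ := Big.exists_equiv D.C L fun x y => by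
    simp only [hL, map_add, map_smul, LinearMap.map_smulₛₗ, LinearMap.add_apply, LinearMap.smul_apply,
      smul_eq_mul, map_mul, map_sub, map_one, map_inv₀, frob_frob hF, ← form_symm, D.hv, D.hv', D.pair, D.pair']
    field_simp
    ring
  set l : F := (σ₀ (ν : F) / ν - 1) / B₀ e e
  have hl : l + σ₀ l + σ₀ l * l * B₀ e e = 0 := by
    simp only [l, map_div₀, map_sub, map_one, frob_frob hF, self_fixed' e]
    field_simp
    ring
  refine ⟨⟨qrefl e l hl * t, (Big.mem_tv D.C).2 ⟨mul_mem (qrefl_mem_iso D.C.symm _ _ _) ht, Units.ext ?_⟩⟩,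
    ⟨ν, ?_, ?_⟩, ?_, ?_, ?_⟩
  · rw [map_mul, Units.val_mul, det_qrefl, hdet]
    simp [L, LinearMap.det_comp, D.pair, D.pair', l]
    field_simp
    ring
  · show qrefl e l hl (t v) = _
    rw [htL, hL, D.pair', D.hv, qrefl_apply]
    simp [D.v_W he]
    module
  · show qrefl e l hl (t v') = _
    rw [htL, hL, D.hv', D.pair, qrefl_apply]
    simp [D.v'_W he]
    module
  · refine D.nu_eq ?_
    show qrefl e l hl (t v) = _
    rw [htL, hL, D.pair', D.hv, qrefl_apply]
    simp [D.v_W he]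
    module
  · show qrefl e l hl (t e) = _
    rw [htL, hL, D.W_v he, D.W_v' he, qrefl_apply]
    simp [l]
    match_scalars
    field_simp
    ring
  · intro w hw hew
    show qrefl e l hl (t w) = _
    rw [htL, hL, D.W_v hw, D.W_v' hw, qrefl_apply]
    simp [hew]

/-- The norm of the factor. -/
noncomputable def Pair.nrm (D : Pair hF n v v') : D.lev →* Fˣ where
  toFun g := Units.mk0 (D.nu g.1 * σ₀ (D.nu g.1)) (by simp [D.nu_ne g.2])
  map_one' := Units.ext (by
    simp [D.nu_eq (g := (1 : Sg)) (ν := 1) (by simp)])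
  map_mul' g h := Units.ext (by
    simp only [Units.val_mk0, Units.val_mul, Subgroup.coe_mul, D.nu_mul g.2 h.2, map_mul]; ring)

theorem Pair.nrm_range (D : Pair hF n v v') : D.nrm.range = (powMonoidHom (q - 1) : Fˣ →* Fˣ).ker := by
  have hq := two_le hF
  refine le_antisymm ?_ ?_
  · rintro _ ⟨g, rfl⟩
    rw [MonoidHom.mem_ker, powMonoidHom_apply]
    refine Units.ext ?_
    have h0 : D.nu g.1 * σ₀ (D.nu g.1) ≠ 0 := by simp [D.nu_ne g.2]
    rw [Units.val_pow_eq_pow_val, Units.val_one]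
    apply mul_right_cancel₀ h0
    show (D.nu g.1 * σ₀ (D.nu g.1)) ^ (q - 1) * (D.nu g.1 * σ₀ (D.nu g.1)) = _
    rw [← pow_succ, show q - 1 + 1 = q by omega, one_mul, ← frob_apply hF, map_mul, frob_frob hF, mul_comm]
  · intro μ hμ
    rw [MonoidHom.mem_ker, powMonoidHom_apply] at hμ
    have hμq : (μ : F) ^ q = μ := by
      have h := congrArg Units.val hμ
      rw [Units.val_pow_eq_pow_val, Units.val_one] at h
      rw [show q = q - 1 + 1 by omega, pow_succ, h, one_mul]
    obtain ⟨ν, hν⟩ := Herm.exists_norm_eq hF μ.ne_zero hμq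
    obtain ⟨e, he, hee⟩ := exists_aniso_nd D.nd_W (by rw [D.finrank_W]; have := D.C.dim; rw [finrank_fin_fun] at this; omega)
    obtain ⟨g, hg, hgν, -, -⟩ := D.exists_lev ν he hee
    refine ⟨⟨g, hg⟩, Units.ext ?_⟩
    show D.nu g * σ₀ (D.nu g) = μ
    rw [hgν, frob_apply, ← pow_succ', hν]

/-- The elements of the Levi complement whose norm stabilises the central part. -/
noncomputable def Pair.stabR (D : Pair hF n v v') (H : Subgroup Sg) : Subgroup Sg :=
  ((mStab hF (D.rsub H)).comap D.nrm).map D.lev.subtype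

theorem Pair.levi_le_stabR (D : Pair hF n v v') (H : Subgroup Sg) : D.levi H ≤ D.stabR H := fun g hg =>
  ⟨⟨g, hg.1⟩, mem_mStab.2 ⟨by
    show σ₀ (D.nu g * σ₀ (D.nu g)) = D.nu g * σ₀ (D.nu g)
    rw [map_mul, frob_frob hF, mul_comm], fun _ hx => D.levi_rsub hg hx⟩, rfl⟩

theorem Pair.fx_le_stabR (D : Pair hF n v v') (H : Subgroup Sg) : D.fx ≤ D.stabR H := fun g hg =>
  ⟨⟨g, D.fx_le_lev hg⟩, mem_mStab.2 ⟨by
    show σ₀ (D.nu g * σ₀ (D.nu g)) = D.nu g * σ₀ (D.nu g)
    simp [D.nu_fx hg], fun x hx => by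
    show D.nu g * σ₀ (D.nu g) * x ∈ _
    simpa [D.nu_fx hg] using hx⟩, rfl⟩

theorem Pair.stabR_le (D : Pair hF n v v') (H : Subgroup Sg) : D.stabR H ≤ D.lev := by
  rintro _ ⟨g, -, rfl⟩; exact g.2

theorem Pair.stabR_index (D : Pair hF n v v') (H : Subgroup Sg) :
    (D.stabR H).relIndex D.lev * Nat.card (mStab hF (D.rsub H)) = q - 1 := by
  have hq := two_le hF
  have hM : mStab hF (D.rsub H) ≤ (powMonoidHom (q - 1) : Fˣ →* Fˣ).ker := fun μ hμ => by
    rw [MonoidHom.mem_ker, powMonoidHom_apply]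
    refine Units.ext ?_
    rw [Units.val_pow_eq_pow_val, Units.val_one]
    apply mul_right_cancel₀ μ.ne_zero
    rw [← pow_succ, show q - 1 + 1 = q by omega, one_mul, ← frob_apply hF]
    exact hμ.1
  rw [Subgroup.relIndex, Pair.stabR, Subgroup.subgroupOf,
    Subgroup.comap_map_eq_self_of_injective D.lev.subtype_injective, Subgroup.index_comap, D.nrm_range,
    mul_comm, ← Subgroup.relIndex_bot_left, Subgroup.relIndex_mul_relIndex _ _ _ bot_le hM,
    Subgroup.relIndex_bot_left, IsCyclic.card_powMonoidHom_ker, card_units_sq hF, Nat.gcd_mul_left_left]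

/-- The index of the liftable elements in the fixer of the pair. -/
noncomputable def Pair.k0 (D : Pair hF n v v') (H : Subgroup Sg) : ℕ := (D.levi H ⊓ D.fx).relIndex D.fx

theorem Pair.k0_le (D : Pair hF n v v') (H : Subgroup Sg) : D.k0 H ≤ (D.levi H).relIndex (D.stabR H) := by
  haveI := finite_sg hF (n := n)
  rw [Pair.k0, Subgroup.inf_relIndex_right]
  exact Subgroup.relIndex_le_of_le_right (D.fx_le_stabR H) Subgroup.index_ne_zero_of_finite

/-- The basic inequality with the exact factors. -/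
theorem Pair.basic_exact (D : Pair hF n v v') (H : Subgroup Sg) :
    D.k0 H * (q - 1) * (Nat.card D.W * q) ≤
      H.index * Nat.card (D.sbar H) * (Nat.card (D.rsub H) * Nat.card (mStab hF (D.rsub H))) := by
  calc D.k0 H * (q - 1) * (Nat.card D.W * q)
      ≤ (D.levi H).relIndex (D.stabR H) * (q - 1) * (Nat.card D.W * q) :=
        Nat.mul_le_mul_right _ (Nat.mul_le_mul_right _ (D.k0_le H))
    _ = (D.levi H).relIndex D.lev * (Nat.card D.W * q) * Nat.card (mStab hF (D.rsub H)) := by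
        rw [← D.stabR_index H, ← Subgroup.relIndex_mul_relIndex _ _ _ (D.levi_le_stabR H) (D.stabR_le H)]
        ring
    _ ≤ H.index * (Nat.card (D.sbar H) * Nat.card (D.rsub H)) * Nat.card (mStab hF (D.rsub H)) :=
        Nat.mul_le_mul_right _ (D.index_mul H)
    _ = _ := by ring

/-- The basic inequality. -/
theorem Pair.basic (D : Pair hF n v v') {H : Subgroup Sg} (hR : D.rsub H ≠ skew hF) :
    D.k0 H * (Nat.card D.W * q) ≤ H.index * Nat.card (D.sbar H) := by
  have hq := two_le hF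
  have h := card_mStab_mul_le (D.rsub_le H) hR
  have hR0 : 0 < Nat.card (D.rsub H) := Nat.card_pos
  refine Nat.le_of_mul_le_mul_left ?_ (show 0 < q - 1 by omega)
  calc (q - 1) * (D.k0 H * (Nat.card D.W * q)) = D.k0 H * (q - 1) * (Nat.card D.W * q) := by ring
    _ ≤ _ := D.basic_exact H
    _ ≤ H.index * Nat.card (D.sbar H) * (q - 1) :=
        Nat.mul_le_mul_left _ (by rw [mul_comm] at h; omega)
    _ = _ := mul_comm _ _

end Cfsg.Lib.Linear.MinIndexU
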