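import Cfsg.Agent.Lib.Linear.MinIndexU.Spread
import Cfsg.Agent.Lib.Linear.PSUSimple

/-!
# The minimal index of a proper subgroup of a unitary group in dimension at least five
-/

set_option autoImplicit false
set_option linter.unusedSectionVars false

namespace Cfsg.Lib.Linear.MinIndexU

open Module
open Cfsg.Lib.Linear Cfsg.Lib.Linear.Herm
open Cfsg.Lib.Linear.MinIndexSp (img)

variable {F : Type*} [Field F] [Fintype F] {q n : ℕ} {hF : Fintype.card F = q ^ 2}

local notation "Vn" => Fin n → F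
local notation "B₀" => hB hF n
local notation "σ₀" => frob hF
local notation "Sg" => SUg hF n

/-- A hyperbolic pair at a given isotropic vector. -/
theorem exists_frame (C : Big.Space B₀) (hn : 5 ≤ n) {v : Vn} (hv : B₀ v v = 0) (hv0 : v ≠ 0) :
    ∃ v', Frame hF n v v' := by
  obtain ⟨v', hv', hvv', -⟩ := Big.exists_partner_perp C hv ⊥ (by simpa using hv0)
    (fun x hx => by rw [(Submodule.mem_bot F).1 hx]; simp)
  exact ⟨v', { C := C, dim := hn, hv := hv, hv' := hv', pair := hvv' }⟩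

theorem exists_iso (C : Big.Space B₀) : ∃ v : Vn, v ≠ 0 ∧ B₀ v v = 0 := by
  obtain ⟨v, -, hv0, hv⟩ := exists_iso_ne_zero C.ne_id C.invol C.symm (⊤ : Submodule F Vn)
    (by rw [finrank_top]; have := C.dim; omega)
  exact ⟨v, hv0, hv⟩

/-- There is no proper subgroup of small index. -/
theorem no_small (C : Big.Space B₀) (hn : 5 ≤ n) (H : Subgroup Sg) : ¬ Small H := by
  intro S
  obtain ⟨v, hv, hv0, hbad⟩ : ∃ v : Vn, B₀ v v = 0 ∧ v ≠ 0 ∧ ¬ Good H v := by
    by_contra hc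
    push Not at hc
    refine S.proper (eq_top_iff.2 fun g _ => ?_)
    have hle : tvGroup B₀ ≤ H.map (tvGroup B₀).subtype := by
      unfold tvGroup
      rw [Subgroup.closure_le]
      rintro _ ⟨w, l, h, hw, rfl⟩
      have hl : l + σ₀ l = 0 := by simpa [hw] using h
      have hg : Good H w := by
        rcases eq_or_ne w 0 with rfl | hw0
        · exact good_zero C H
        · exact hc w hw hw0
      exact ⟨el hF w 0 l, hg l hl, el_zero_eq C hw h⟩
    obtain ⟨k, hk, e⟩ := hle g.2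
    exact (Subtype.ext e : k = g) ▸ hk
  obtain ⟨v', D⟩ := exists_frame C hn hv hv0
  exact D.small_false S fun e => hbad ((D.good_iff H).1 e)

/-- A central element is a scalar. -/
theorem center_scalar (C : Big.Space B₀) {g : Sg} (hg : g ∈ Subgroup.center Sg) :
    ∃ c : F, ∀ x, g.1 x = c • x := by
  refine Big.scalar_of_lines C fun e he => ?_
  rcases eq_or_ne e 0 with rfl | he0
  · rw [map_zero]; exact zero_mem _
  obtain ⟨f, hf, hef, -⟩ := Big.exists_partner_perp C he ⊥ (by simpa using he0)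
    (fun x hx => by rw [(Submodule.mem_bot F).1 hx]; simp)
  obtain ⟨c, hc0, hc⟩ := exists_trace_zero C.ne_id C.invol
  have h := el_zero_conj C he hc g
  rw [← Subgroup.mem_center_iff.1 hg, mul_inv_cancel_right] at h
  have hge : B₀ (g.1 e) (g.1 e) = 0 := by rw [sg_form C, he]
  have h2 : (el hF e 0 c).1 f = (el hF (g.1 e) 0 c).1 f := congrArg (fun t : Sg => t.1 f) h
  rw [el_zero_apply C he hc, el_zero_apply C hge hc, hef, mul_one, add_right_inj] at h2
  have hne : c * B₀ (g.1 e) f ≠ 0 := fun e' => by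
    rw [e', zero_smul] at h2
    exact he0 ((smul_eq_zero.1 h2).resolve_left hc0)
  exact Submodule.mem_span_singleton.2 ⟨(c * B₀ (g.1 e) f)⁻¹ * c, by rw [mul_smul, h2, inv_smul_smul₀ hne]⟩

/-- The stabiliser of a subspace. -/
noncomputable def stab (P : Submodule F Vn) : Subgroup Sg where
  carrier := {g | P.map (g.1 : Vn →ₗ[F] Vn) = P}
  one_mem' := by
    show P.map ((1 : Sg).1 : Vn →ₗ[F] Vn) = P
    exact Submodule.map_id P
  mul_mem' := fun {a b} ha hb => by
    show P.map ((a * b : Sg).1 : Vn →ₗ[F] Vn) = P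
    rw [show ((a * b : Sg).1 : Vn →ₗ[F] Vn) = (a.1 : Vn →ₗ[F] Vn).comp (b.1 : Vn →ₗ[F] Vn) from rfl,
      Submodule.map_comp, show P.map (b.1 : Vn →ₗ[F] Vn) = P from hb]
    exact ha
  inv_mem' := fun {a} ha => by
    show P.map ((a⁻¹ : Sg).1 : Vn →ₗ[F] Vn) = P
    conv_lhs => rw [← (show P.map (a.1 : Vn →ₗ[F] Vn) = P from ha)]
    rw [← Submodule.map_comp]
    rw [show ((a⁻¹ : Sg).1 : Vn →ₗ[F] Vn).comp (a.1 : Vn →ₗ[F] Vn) = LinearMap.id from
      LinearMap.ext fun x => inv_apply a x]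
    exact Submodule.map_id P

theorem stab_index (P : Submodule F Vn) :
    (stab (hF := hF) P).index =
      Nat.card (img (fun (g : Sg) (Q : Submodule F Vn) => Q.map (g.1 : Vn →ₗ[F] Vn)) ⊤ P) := by
  letI : MulAction Sg (Submodule F Vn) :=
    { smul := fun g Q => Q.map (g.1 : Vn →ₗ[F] Vn)
      one_smul := fun Q => Submodule.map_id Q
      mul_smul := fun g k Q => by
        show Q.map ((g * k : Sg).1 : Vn →ₗ[F] Vn) = _
        rw [show ((g * k : Sg).1 : Vn →ₗ[F] Vn) = (g.1 : Vn →ₗ[F] Vn).comp (k.1 : Vn →ₗ[F] Vn) from rfl,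
          Submodule.map_comp]
        rfl }
  rw [show stab (hF := hF) P = MulAction.stabilizer Sg P from rfl, MulAction.index_stabilizer,
    Nat.card_coe_set_eq]
  congr 1
  ext Q
  exact ⟨fun ⟨g, e⟩ => ⟨g, Subgroup.mem_top _, e⟩, fun ⟨g, _, e⟩ => ⟨g, e⟩⟩

/-- The index of the stabiliser of an isotropic point. -/
theorem stab_iso (C : Big.Space B₀) (hn : 5 ≤ n) {u : Vn} (hu : B₀ u u = 0) (hu0 : u ≠ 0) :
    (stab (hF := hF) (Submodule.span F ({u} : Set Vn))).index * (q ^ 2 - 1) + 1 = Herm.N F q n (0 : F) := by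
  classical
  obtain ⟨u', D⟩ := exists_frame C hn hu hu0
  set A := (Finset.univ.filter fun x : Vn => B₀ x x = 0).erase 0
  have hA : A.card + 1 = Herm.N F q n (0 : F) := by
    rw [Finset.card_erase_add_one (Finset.mem_filter.2 ⟨Finset.mem_univ _, by simp⟩),
      ← card_norm_vectors (nd_top (hF := hF)) (finrank_top F Vn ▸ finrank_fin_fun F) 0,
      Nat.card_eq_fintype_card, Fintype.card_subtype]
    simp
  rw [← hA, stab_index]
  congr 1
  have hset : img (fun (g : Sg) (Q : Submodule F Vn) => Q.map (g.1 : Vn →ₗ[F] Vn)) ⊤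
      (Submodule.span F ({u} : Set Vn)) = ↑(A.image fun x => Submodule.span F ({x} : Set Vn)) := by
    ext Q
    rw [Finset.mem_coe, Finset.mem_image]
    constructor
    · rintro ⟨g, -, rfl⟩
      refine ⟨g.1 u, Finset.mem_erase.2 ⟨fun e => hu0 (g.1.injective (e.trans (map_zero _).symm)),
        Finset.mem_filter.2 ⟨Finset.mem_univ _, (sg_form C g u u).trans hu⟩⟩, ?_⟩
      show _ = (Submodule.span F ({u} : Set Vn)).map (g.1 : Vn →ₗ[F] Vn)
      rw [LinearMap.map_span, Set.image_singleton]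
      rfl
    · rintro ⟨z, hz, rfl⟩
      obtain ⟨hz0, hz⟩ := Finset.mem_erase.1 hz
      obtain ⟨g, k, hk, hg⟩ := D.map_iso_line hu hu0 (Finset.mem_filter.1 hz).2 hz0
      refine ⟨g, Subgroup.mem_top _, ?_⟩
      show (Submodule.span F ({u} : Set Vn)).map (g.1 : Vn →ₗ[F] Vn) = _
      rw [LinearMap.map_span, Set.image_singleton]
      show Submodule.span F {g.1 u} = _
      rw [hg, Submodule.span_singleton_smul_eq (Ne.isUnit hk)]
  rw [hset, Nat.card_coe_set_eq, Set.ncard_coe_finset,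
    Finset.card_eq_sum_card_image (fun x => Submodule.span F ({x} : Set Vn)) A]
  refine (Finset.sum_const_nat fun Q hQ => ?_).symm
  obtain ⟨z, hz, rfl⟩ := Finset.mem_image.1 hQ
  obtain ⟨hz0, hz⟩ := Finset.mem_erase.1 hz
  have hzz := (Finset.mem_filter.1 hz).2
  have hset2 : A.filter (fun x => Submodule.span F ({x} : Set Vn) = Submodule.span F {z}) =
      (Finset.univ.filter fun w : Vn => w ∈ Submodule.span F ({z} : Set Vn)).erase 0 := by
    ext w
    constructor
    · intro hw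
      obtain ⟨hw, he⟩ := Finset.mem_filter.1 hw
      refine Finset.mem_erase.2 ⟨(Finset.mem_erase.1 hw).1, Finset.mem_filter.2 ⟨Finset.mem_univ _, ?_⟩⟩
      rw [← he]; exact Submodule.mem_span_singleton_self w
    · intro hw
      obtain ⟨hw0, hw⟩ := Finset.mem_erase.1 hw
      obtain ⟨k, rfl⟩ := Submodule.mem_span_singleton.1 (Finset.mem_filter.1 hw).2
      refine Finset.mem_filter.2 ⟨Finset.mem_erase.2 ⟨hw0, Finset.mem_filter.2 ⟨Finset.mem_univ _, by simp [hzz]⟩⟩, ?_⟩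
      exact Submodule.span_singleton_smul_eq (Ne.isUnit (fun e => hw0 (by rw [e, zero_smul]))) _
  rw [hset2, Finset.card_erase_of_mem (Finset.mem_filter.2 ⟨Finset.mem_univ _, zero_mem _⟩), ← Fintype.card_subtype,
    ← Nat.card_eq_fintype_card, Module.natCard_eq_pow_finrank (K := F), finrank_span_singleton hz0, card_F hF,
    pow_one]

/-- The index of the stabiliser of an anisotropic point. -/
theorem stab_aniso (C : Big.Space B₀) (hn : 5 ≤ n) {u : Vn} (hu : B₀ u u ≠ 0) :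
    (stab (hF := hF) (Submodule.span F ({u} : Set Vn))).index * (q + 1) = Herm.N F q n (1 : F) := by
  classical
  have hq := two_le hF
  set A := Finset.univ.filter fun x : Vn => B₀ x x = B₀ u u
  have hA : A.card = Herm.N F q n (1 : F) := by
    rw [← Herm.N_eq_N_one hF _ hu (pow_q_of_fixed (self_fixed' u)),
      ← card_norm_vectors (nd_top (hF := hF)) (finrank_top F Vn ▸ finrank_fin_fun F) (B₀ u u),
      Nat.card_eq_fintype_card, Fintype.card_subtype]
    simp [A]
  rw [← hA, stab_index]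
  have hset : img (fun (g : Sg) (Q : Submodule F Vn) => Q.map (g.1 : Vn →ₗ[F] Vn)) ⊤
      (Submodule.span F ({u} : Set Vn)) = ↑(A.image fun x => Submodule.span F ({x} : Set Vn)) := by
    ext Q
    rw [Finset.mem_coe, Finset.mem_image]
    constructor
    · rintro ⟨g, -, rfl⟩
      refine ⟨g.1 u, Finset.mem_filter.2 ⟨Finset.mem_univ _, sg_form C g u u⟩, ?_⟩
      show _ = (Submodule.span F ({u} : Set Vn)).map (g.1 : Vn →ₗ[F] Vn)
      rw [LinearMap.map_span, Set.image_singleton]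
      rfl
    · rintro ⟨z, hz, rfl⟩
      have hzz : B₀ z z = B₀ u u := (Finset.mem_filter.1 hz).2
      obtain ⟨hnd, hrk⟩ := nd_inf_ker (nd_top (hF := hF)) Submodule.mem_top (hzz ▸ hu : B₀ z z ≠ 0)
      rw [finrank_top, finrank_fin_fun] at hrk
      obtain ⟨e, he, hee⟩ := exists_aniso_nd hnd (by omega)
      obtain ⟨g, -, hg⟩ := exists_trans C ⊥ (a := u) (b := z)
        (by rw [Submodule.mem_bot]; exact fun e => hu (by rw [e]; simp))
        (by rw [Submodule.mem_bot]; exact fun e => hu (by rw [← hzz, e]; simp))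
        (fun x hx => by rw [(Submodule.mem_bot F).1 hx]; simp) hzz.symm hee
        (fun x hx => by rw [(Submodule.mem_bot F).1 hx, map_zero]) (symm_zero he.2)
      refine ⟨g, Subgroup.mem_top _, ?_⟩
      show (Submodule.span F ({u} : Set Vn)).map (g.1 : Vn →ₗ[F] Vn) = _
      rw [LinearMap.map_span, Set.image_singleton]
      show Submodule.span F {g.1 u} = _
      rw [hg]
  rw [hset, Nat.card_coe_set_eq, Set.ncard_coe_finset,
    Finset.card_eq_sum_card_image (fun x => Submodule.span F ({x} : Set Vn)) A]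
  refine (Finset.sum_const_nat fun Q hQ => ?_).symm
  obtain ⟨z, hz, rfl⟩ := Finset.mem_image.1 hQ
  have hzz : B₀ z z = B₀ u u := (Finset.mem_filter.1 hz).2
  have hz0 : z ≠ 0 := fun e => hu (by rw [← hzz, e]; simp)
  rw [← Set.ncard_coe_finset, ← Nat.card_coe_set_eq]
  have hker : Nat.card (powMonoidHom (q + 1) : Fˣ →* Fˣ).ker = q + 1 := by
    rw [IsCyclic.card_powMonoidHom_ker, card_units_sq hF, Nat.gcd_mul_right_left]
  refine Eq.trans (Nat.card_congr (Equiv.ofBijective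
    (fun k : (powMonoidHom (q + 1) : Fˣ →* Fˣ).ker => (⟨((k.1 : Fˣ) : F) • z, ?_⟩ :
      (↑(A.filter fun x => Submodule.span F ({x} : Set Vn) = Submodule.span F {z}) : Set Vn))) ⟨?_, ?_⟩).symm) hker
  · have hk : ((k.1 : Fˣ) : F) ^ (q + 1) = 1 := by
      have := k.2
      rw [MonoidHom.mem_ker, powMonoidHom_apply] at this
      rw [← Units.val_pow_eq_pow_val, this, Units.val_one]
    refine Finset.mem_filter.2 ⟨Finset.mem_filter.2 ⟨Finset.mem_univ _, ?_⟩,
      Submodule.span_singleton_smul_eq (Ne.isUnit k.1.ne_zero) _⟩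
    simp only [map_smul, LinearMap.map_smulₛₗ, LinearMap.smul_apply, smul_eq_mul, hzz, frob_apply]
    linear_combination (B₀ u u) * hk
  · intro k k' h
    exact Subtype.ext (Units.ext (smul_left_injective F hz0 (congrArg Subtype.val h)))
  · rintro ⟨w, hw⟩
    obtain ⟨hw, he⟩ := Finset.mem_filter.1 hw
    obtain ⟨k, rfl⟩ : ∃ k : F, k • z = w := Submodule.mem_span_singleton.1
      (he ▸ Submodule.mem_span_singleton_self w)
    have hkk := (Finset.mem_filter.1 hw).2
    simp only [map_smul, LinearMap.map_smulₛₗ, LinearMap.smul_apply, smul_eq_mul, hzz, frob_apply] at hkk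
    have hk1 : k ^ (q + 1) = 1 := mul_right_cancel₀ hu (by linear_combination hkk)
    have hk0 : k ≠ 0 := fun e => by rw [e, zero_pow (by omega)] at hk1; exact zero_ne_one hk1
    refine ⟨⟨Units.mk0 k hk0, ?_⟩, rfl⟩
    rw [MonoidHom.mem_ker, powMonoidHom_apply]
    exact Units.ext (by rw [Units.val_pow_eq_pow_val, Units.val_mk0, hk1, Units.val_one])

omit hF in
/-- The statement for the projective group. -/
theorem min_index (hF : Fintype.card F = q ^ 2) (hn : 5 ≤ n) {P : ℕ}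
    (h0 : P * (q ^ 2 - 1) + 1 ≤ Herm.N F q n (0 : F)) (h1 : P * (q + 1) ≤ Herm.N F q n (1 : F))
    (hatt : P * (q ^ 2 - 1) + 1 = Herm.N F q n (0 : F) ∨ P * (q + 1) = Herm.N F q n (1 : F)) :
    (∀ H : Subgroup (Cfsg.PSU n F q), H ≠ ⊤ → P ≤ H.index) ∧ ∃ H : Subgroup (Cfsg.PSU n F q), H.index = P := by
  classical
  have hq := two_le hF
  have hq2 : 4 ≤ q ^ 2 := by nlinarith
  have C := bigSpace hF (n := n) (by omega)
  let e : Cfsg.SU n F q ≃* SUg hF n :=
    (MonoidHom.ofInjective (suToLin_injective (F := F) (q := q) n)).trans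
      (MulEquiv.subgroupCongr (suToLin_range hF (Or.inl (by omega))))
  set φ : SUg hF n →* Cfsg.PSU n F q :=
    (QuotientGroup.mk' (Subgroup.center (Cfsg.SU n F q))).comp e.symm.toMonoidHom
  have hsurj : Function.Surjective φ := (QuotientGroup.mk'_surjective _).comp e.symm.surjective
  refine ⟨fun H hH => ?_, ?_⟩
  · by_contra hlt
    push Not at hlt
    have hidx := H.index_comap_of_surjective hsurj
    refine no_small C hn (H.comap φ) ⟨fun he => hH (Subgroup.index_eq_one.1 (by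
      rw [← hidx, he, Subgroup.index_top])), ?_, ?_⟩
    · rw [hidx]
      have := Nat.mul_le_mul_right (q ^ 2 - 1) hlt
      rw [Nat.succ_mul] at this
      omega
    · rw [hidx]
      have := Nat.mul_le_mul_right (q + 1) hlt
      rw [Nat.succ_mul] at this
      omega
  · have key : ∀ u : Fin n → F, ((stab (hF := hF) (Submodule.span F ({u} : Set (Fin n → F)))).map φ).index =
        (stab (hF := hF) (Submodule.span F ({u} : Set (Fin n → F)))).index := fun u => by
      refine Subgroup.index_map_eq _ hsurj fun g hg => ?_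
      have hc : g ∈ Subgroup.center (SUg hF n) := by
        have h1 : e.symm g ∈ Subgroup.center (Cfsg.SU n F q) := (QuotientGroup.eq_one_iff _).1 hg
        rw [Subgroup.mem_center_iff] at h1 ⊢
        intro k
        refine e.symm.injective ?_
        rw [map_mul, map_mul, h1]
      obtain ⟨c, hc⟩ := center_scalar C hc
      refine Submodule.eq_of_le_of_finrank_eq ?_ (LinearEquiv.finrank_map_eq g.1 _)
      rintro _ ⟨x, hx, rfl⟩
      show g.1 x ∈ _
      rw [hc]
      exact Submodule.smul_mem _ _ hx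
    rcases hatt with h | h
    · obtain ⟨u, hu0, hu⟩ := exists_iso C
      refine ⟨(stab (hF := hF) (Submodule.span F ({u} : Set (Fin n → F)))).map φ, ?_⟩
      rw [key]
      have := stab_iso C hn hu hu0
      exact Nat.eq_of_mul_eq_mul_right (show 0 < q ^ 2 - 1 by omega) (by omega)
    · obtain ⟨u, -, hu⟩ := exists_aniso_nd (nd_top (hF := hF) (n := n)) (by rw [finrank_top, finrank_fin_fun]; omega)
      refine ⟨(stab (hF := hF) (Submodule.span F ({u} : Set (Fin n → F)))).map φ, ?_⟩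
      rw [key]
      exact Nat.eq_of_mul_eq_mul_right (show 0 < q + 1 by omega) ((stab_aniso C hn hu).trans h.symm)

omit hF in
/-- The minimal index in odd dimension. -/
theorem min_index_odd (hF : Fintype.card F = q ^ 2) (hn : 5 ≤ n) (hodd : Odd n) :
    (∀ H : Subgroup (Cfsg.PSU n F q), H ≠ ⊤ → (q ^ n + 1) * (q ^ (n - 1) - 1) / (q ^ 2 - 1) ≤ H.index) ∧
      ∃ H : Subgroup (Cfsg.PSU n F q), H.index = (q ^ n + 1) * (q ^ (n - 1) - 1) / (q ^ 2 - 1) := by
  have hq := two_le hF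
  obtain ⟨t, rfl⟩ := hodd
  rw [show 2 * t + 1 - 1 = 2 * t by omega]
  have hd : q ^ 2 - 1 ∣ q ^ (2 * t) - 1 := by
    have := Nat.sub_dvd_pow_sub_pow (q ^ 2) 1 t
    rwa [one_pow, ← pow_mul] at this
  set P := (q ^ (2 * t + 1) + 1) * (q ^ (2 * t) - 1) / (q ^ 2 - 1)
  have hP : P * (q ^ 2 - 1) = (q ^ (2 * t + 1) + 1) * (q ^ (2 * t) - 1) :=
    Nat.div_mul_cancel (Dvd.dvd.mul_left hd _)
  obtain ⟨e0, e1⟩ := N_values hF (2 * t + 1)
  rw [(odd_two_mul_add_one t).neg_one_pow] at e0 e1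
  have h1' : 1 ≤ q ^ (2 * t) := Nat.one_le_pow _ _ (by omega)
  have h0 : P * (q ^ 2 - 1) + 1 = Herm.N F q (2 * t + 1) (0 : F) := by
    rw [hP]
    refine Nat.eq_of_mul_eq_mul_left (show 0 < q by omega) ?_
    zify [h1']
    linear_combination -e0
  refine min_index hF hn h0.le (Nat.le_of_mul_le_mul_right ?_ (show 0 < q - 1 by omega)) (Or.inl h0)
  have h2 : P * (q + 1) * (q - 1) = P * (q ^ 2 - 1) := by
    rw [mul_assoc, ← Nat.sq_sub_sq, one_pow]
  rw [h2]
  have h3 : Herm.N F q (2 * t + 1) (0 : F) ≤ Herm.N F q (2 * t + 1) (1 : F) + 1 := by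
    refine Nat.le_of_mul_le_mul_left ?_ (show 0 < q by omega)
    zify
    rw [mul_add, e0, e1]
    have : (0 : ℤ) ≤ (q : ℤ) ^ (2 * t + 1 + 1) := by positivity
    nlinarith
  calc P * (q ^ 2 - 1) ≤ Herm.N F q (2 * t + 1) (1 : F) * 1 := by omega
    _ ≤ _ := Nat.mul_le_mul_left _ (by omega)

omit hF in
/-- The minimal index in even dimension over larger fields. -/
theorem min_index_even (hF : Fintype.card F = q ^ 2) (hq : 3 ≤ q) (hn : 6 ≤ n) (heven : Even n) :
    (∀ H : Subgroup (Cfsg.PSU n F q), H ≠ ⊤ → (q ^ n - 1) * (q ^ (n - 1) + 1) / (q ^ 2 - 1) ≤ H.index) ∧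
      ∃ H : Subgroup (Cfsg.PSU n F q), H.index = (q ^ n - 1) * (q ^ (n - 1) + 1) / (q ^ 2 - 1) := by
  obtain ⟨t, rfl⟩ : ∃ t, n = 2 * t + 2 := by
    obtain ⟨t, ht⟩ := heven
    exact ⟨t - 1, by omega⟩
  rw [show 2 * t + 2 - 1 = 2 * t + 1 by omega]
  have hd : q ^ 2 - 1 ∣ q ^ (2 * t + 2) - 1 := by
    have := Nat.sub_dvd_pow_sub_pow (q ^ 2) 1 (t + 1)
    rwa [one_pow, ← pow_mul] at this
  set P := (q ^ (2 * t + 2) - 1) * (q ^ (2 * t + 1) + 1) / (q ^ 2 - 1)
  have hP : P * (q ^ 2 - 1) = (q ^ (2 * t + 2) - 1) * (q ^ (2 * t + 1) + 1) :=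
    Nat.div_mul_cancel (Dvd.dvd.mul_right hd _)
  obtain ⟨e0, e1⟩ := N_values hF (2 * t + 2)
  have hev : Even (2 * t + 2) := ⟨t + 1, by omega⟩
  rw [hev.neg_one_pow] at e0 e1
  have h1' : 1 ≤ q ^ (2 * t + 2) := Nat.one_le_pow _ _ (by omega)
  have h0 : P * (q ^ 2 - 1) + 1 = Herm.N F q (2 * t + 2) (0 : F) := by
    rw [hP]
    refine Nat.eq_of_mul_eq_mul_left (show 0 < q by omega) ?_
    zify [h1']
    linear_combination -e0
  refine min_index hF (by omega) h0.le (Nat.le_of_mul_le_mul_right ?_ (show 0 < q - 1 by omega)) (Or.inl h0)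
  have h2 : P * (q + 1) * (q - 1) = P * (q ^ 2 - 1) := by
    rw [mul_assoc, ← Nat.sq_sub_sq, one_pow]
  rw [h2]
  have h3 : Herm.N F q (2 * t + 2) (0 : F) ≤ Herm.N F q (2 * t + 2) (1 : F) * 2 := by
    refine Nat.le_of_mul_le_mul_left ?_ (show 0 < q by omega)
    zify
    rw [← mul_assoc, e0, e1]
    have hQ : (3 : ℤ) ≤ (q : ℤ) := by exact_mod_cast hq
    have hY : (1 : ℤ) ≤ (q : ℤ) ^ (2 * t + 2) := one_le_pow₀ (by linarith)
    have hY2 : (q : ℤ) + 1 ≤ (q : ℤ) ^ (2 * t + 2) := by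
      calc (q : ℤ) + 1 ≤ (q : ℤ) ^ 2 := by nlinarith
        _ ≤ _ := pow_le_pow_right₀ (by linarith) (by omega)
    rw [show (q : ℤ) ^ (2 * (2 * t + 2)) = (q : ℤ) ^ (2 * t + 2) * (q : ℤ) ^ (2 * t + 2) by ring,
      show (q : ℤ) ^ (2 * t + 2 + 1) = (q : ℤ) ^ (2 * t + 2) * q by ring]
    nlinarith
  calc P * (q ^ 2 - 1) ≤ Herm.N F q (2 * t + 2) (1 : F) * 2 := by omega
    _ ≤ _ := Nat.mul_le_mul_left _ (by omega)

omit hF in
/-- The minimal index over the field with four elements in dimension divisible by six. -/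
theorem min_index_two (hF : Fintype.card F = 4) (hn : 6 ∣ n) (hpos : 6 ≤ n) :
    (∀ H : Subgroup (Cfsg.PSU n F 2), H ≠ ⊤ → 2 ^ (n - 1) * (2 ^ n - 1) / 3 ≤ H.index) ∧
      ∃ H : Subgroup (Cfsg.PSU n F 2), H.index = 2 ^ (n - 1) * (2 ^ n - 1) / 3 := by
  have hF' : Fintype.card F = 2 ^ 2 := hF
  obtain ⟨t, rfl⟩ : ∃ t, n = 2 * t + 2 := by
    obtain ⟨s, hs⟩ := hn
    exact ⟨3 * s - 1, by omega⟩
  rw [show 2 * t + 2 - 1 = 2 * t + 1 by omega]
  have hd : 3 ∣ 2 ^ (2 * t + 2) - 1 := by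
    have := Nat.sub_dvd_pow_sub_pow (2 ^ 2) 1 (t + 1)
    rwa [one_pow, ← pow_mul] at this
  set P := 2 ^ (2 * t + 1) * (2 ^ (2 * t + 2) - 1) / 3
  have hP : P * 3 = 2 ^ (2 * t + 1) * (2 ^ (2 * t + 2) - 1) := Nat.div_mul_cancel (Dvd.dvd.mul_left hd _)
  obtain ⟨e0, e1⟩ := N_values hF' (2 * t + 2)
  have hev : Even (2 * t + 2) := ⟨t + 1, by omega⟩
  rw [hev.neg_one_pow] at e0 e1
  have h1' : 1 ≤ 2 ^ (2 * t + 2) := Nat.one_le_two_pow
  have h1 : P * (2 + 1) = Herm.N F 2 (2 * t + 2) (1 : F) := by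
    rw [show (2 : ℕ) + 1 = 3 from rfl, hP]
    refine Nat.eq_of_mul_eq_mul_left (show 0 < 2 by omega) ?_
    zify [h1']
    push_cast at e1
    linear_combination -e1
  refine min_index hF' (by omega) ?_ h1.le (Or.inr h1)
  rw [show (2 : ℕ) ^ 2 - 1 = 2 + 1 from rfl, h1]
  refine Nat.le_of_mul_le_mul_left ?_ (show 0 < 2 by omega)
  zify
  push_cast at e0 e1
  rw [mul_add, e0, e1]
  rw [show (2 : ℤ) ^ (2 * t + 2 + 1) = 2 ^ (2 * t + 2) * 2 by ring]
  have : (2 : ℤ) ≤ 2 ^ (2 * t + 2) := by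
    calc (2 : ℤ) = 2 ^ 1 := by norm_num
      _ ≤ _ := pow_le_pow_right₀ (by norm_num) (by omega)
  linarith

end Cfsg.Lib.Linear.MinIndexU
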