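import Cfsg.Agent.Lib.Linear.MinIndexU.Levi

/-!
# Orbits of vectors and pairs under the fixer of a hyperbolic pair
-/

set_option autoImplicit false
set_option linter.unusedSectionVars false

namespace Cfsg.Lib.Linear.MinIndexU

open Module
open Cfsg.Lib.Linear Cfsg.Lib.Linear.Herm
open Cfsg.Lib.Linear.MinIndexSp (img card_img_le_of_stable)

variable {F : Type*} [Field F] [Fintype F] {q n : ℕ} {hF : Fintype.card F = q ^ 2}

local notation "Vn" => Fin n → F
local notation "B₀" => hB hF n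
local notation "σ₀" => frob hF
local notation "Sg" => SUg hF n

/-- The orthogonal of a hyperbolic pair inside a non-degenerate subspace. -/
theorem nd_hyperbolic {U : Submodule F Vn} (hU : Nd hF U) {a a' : Vn} (ha : a ∈ U) (ha' : a' ∈ U)
    (h1 : B₀ a a = 0) (h2 : B₀ a' a' = 0) (h3 : B₀ a a' = 1) :
    Nd hF (U ⊓ (LinearMap.ker (B₀ a) ⊓ LinearMap.ker (B₀ a'))) ∧
      finrank F ↥(U ⊓ (LinearMap.ker (B₀ a) ⊓ LinearMap.ker (B₀ a'))) + 2 = finrank F U := by
  have h4 : B₀ a' a = 1 := by rw [form_symm, h3, map_one]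
  constructor
  · intro w hw h
    refine hU w hw.1 fun x hx => ?_
    have hwa : B₀ a w = 0 := hw.2.1
    have hwa' : B₀ a' w = 0 := hw.2.2
    have hm : x - B₀ a' x • a - B₀ a x • a' ∈ U ⊓ (LinearMap.ker (B₀ a) ⊓ LinearMap.ker (B₀ a')) := by
      refine ⟨U.sub_mem (U.sub_mem hx (U.smul_mem _ ha)) (U.smul_mem _ ha'), ?_, ?_⟩
      · show B₀ a _ = 0
        simp [h1, h3]
      · show B₀ a' _ = 0
        simp [h2, h4]
    have := h _ hm
    simpa [hwa, hwa'] using this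
  · let P : U →ₗ[F] F × F := ((B₀ a).prod (B₀ a')).comp U.subtype
    have hsurj : LinearMap.range P = ⊤ := by
      rw [eq_top_iff]
      rintro ⟨s, t⟩ -
      exact ⟨⟨t • a + s • a', U.add_mem (U.smul_mem _ ha) (U.smul_mem _ ha')⟩, by simp [P, h1, h2, h3, h4]⟩
    have h := LinearMap.finrank_range_add_finrank_ker P
    rw [hsurj, finrank_top, Module.finrank_prod, Module.finrank_self] at h
    have e : LinearMap.ker P =
        (U ⊓ (LinearMap.ker (B₀ a) ⊓ LinearMap.ker (B₀ a'))).comap U.subtype := by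
      rw [LinearMap.ker_comp, LinearMap.ker_prod]
      ext x
      simp [x.2]
    rw [e, (Submodule.comapSubtypeEquivOfLe (inf_le_left :
      U ⊓ (LinearMap.ker (B₀ a) ⊓ LinearMap.ker (B₀ a')) ≤ U)).finrank_eq] at h
    omega

variable {v v' : Fin n → F}

/-- A partner of an isotropic vector in the orthogonal space. -/
theorem Pair.exists_partner (D : Pair hF n v v') {a : Vn} (ha : a ∈ D.W) (h0 : B₀ a a = 0) (ha0 : a ≠ 0) :
    ∃ a' ∈ D.W, B₀ a' a' = 0 ∧ B₀ a a' = 1 := by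
  obtain ⟨z, hz, hza⟩ : ∃ z ∈ D.W, B₀ a z ≠ 0 := by
    by_contra hc
    push Not at hc
    exact ha0 (D.nd_W a ha fun x hx => symm_zero (hc x hx))
  have h1 : B₀ a ((B₀ a z)⁻¹ • z) = 1 := by rw [map_smul, smul_eq_mul, inv_mul_cancel₀ hza]
  obtain ⟨t, ht⟩ := Big.adjust D.C h0 h1
  exact ⟨_, add_mem (Submodule.smul_mem _ _ hz) (Submodule.smul_mem _ _ ha), ht,
    by rw [map_add, h1, map_smul, h0, smul_zero, add_zero]⟩

/-- The non-zero vectors of the orthogonal space of given norm. -/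
theorem Pair.card_class (D : Pair hF n v v') (γ : F) :
    open scoped Classical in
    {x : Vn | x ∈ D.W ∧ x ≠ 0 ∧ B₀ x x = γ}.ncard + (if γ = 0 then 1 else 0) = Herm.N F q (n - 2) γ := by
  classical
  rw [← card_norm_vectors D.nd_W D.finrank_W γ]
  show _ = Nat.card ↥{x : Vn | x ∈ D.W ∧ B₀ x x = γ}
  rw [Nat.card_coe_set_eq]
  split_ifs with hγ
  · subst hγ
    have h0 : (0 : Vn) ∈ {x : Vn | x ∈ D.W ∧ B₀ x x = 0} := ⟨zero_mem _, by simp⟩
    rw [← Set.ncard_diff_singleton_add_one h0]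
    congr 2
    ext x
    simp only [Set.mem_setOf_eq, Set.mem_diff, Set.mem_singleton_iff]
    tauto
  · rw [add_zero]
    congr 1
    ext x
    simp only [Set.mem_setOf_eq]
    exact ⟨fun h => ⟨h.1, h.2.2⟩, fun h => ⟨h.1, fun e => hγ (by rw [← h.2, e]; simp), h.2⟩⟩

theorem Frame.le_card_class (D : Frame hF n v v') {γ : F} (hγ : σ₀ γ = γ) :
    (q ^ 2 - 1) * q ^ (2 * (n - 2) - 3) ≤ {x : Vn | x ∈ D.W ∧ x ≠ 0 ∧ B₀ x x = γ}.ncard := by
  classical
  have h1 := D.card_class γ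
  have h2 := N_ge hF (m := n - 2) (by have := D.dim; omega) γ (pow_q_of_fixed hγ)
  split_ifs at h1 h2 <;> omega

/-- The liftable elements of the fixer preserve the image of the intersection with the radical. -/
theorem Pair.levi_fx_mem (D : Pair hF n v v') {H : Subgroup Sg} {g : Sg} (hg : g ∈ D.levi H ⊓ D.fx) {a : Vn}
    (ha : a ∈ D.sbar H) : g.1 a ∈ D.sbar H := by
  have := D.levi_sbar hg.1 ha
  rwa [D.act_fx hg.2] at this

/-- The orbit of a vector. -/
theorem Frame.orbit_one (D : Frame hF n v v') {H : Subgroup Sg} {a : Vn} (ha : a ∈ D.W) (ha0 : a ≠ 0) {T : Set Vn}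
    (hT : ∀ g ∈ D.levi H ⊓ D.fx, g.1 a ∈ T) :
    {x : Vn | x ∈ D.W ∧ x ≠ 0 ∧ B₀ x x = B₀ a a}.ncard ≤ D.k0 H * T.ncard := by
  haveI := finite_sg hF (n := n)
  refine le_trans ?_ (card_img_le_of_stable (fun (g : Sg) (x : Vn) => g.1 x) inf_le_right
    (fun g _ k _ x => rfl) (x := a) (Set.toFinite T) hT)
  rw [Nat.card_coe_set_eq]
  refine Set.ncard_le_ncard ?_ (Set.toFinite _)
  rintro x ⟨hx, hx0, hxx⟩
  obtain ⟨g, hg, e⟩ := D.fx_trans ha hx ha0 hx0 hxx.symm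
  exact ⟨g, hg, e⟩

/-- The orbit of a pair. -/
theorem Frame.orbit_two (D : Frame hF n v v') {H : Subgroup Sg} {a b : Vn} (ha : a ∈ D.W) (hb : b ∈ D.W) (ha0 : a ≠ 0)
    (hba : b ∉ Submodule.span F {a}) {c : ℕ}
    (hcond : ∀ a' b' : Vn, a' ∈ D.W → b' ∈ D.W → B₀ a' a' = B₀ a a → B₀ a' b' = B₀ a b → B₀ b' b' = B₀ b b →
      ∃ e ∈ D.W, B₀ a' e = 0 ∧ B₀ b' e = 0 ∧ B₀ e e ≠ 0)
    (hc : ∀ a' : Vn, a' ∈ D.W → a' ≠ 0 → B₀ a' a' = B₀ a a →
      c ≤ {x : Vn | x ∈ D.W ∧ x ∉ Submodule.span F {a'} ∧ B₀ a' x = B₀ a b ∧ B₀ x x = B₀ b b}.ncard)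
    {T : Set (Vn × Vn)} (hT : ∀ g ∈ D.levi H ⊓ D.fx, (g.1 a, g.1 b) ∈ T) :
    {x : Vn | x ∈ D.W ∧ x ≠ 0 ∧ B₀ x x = B₀ a a}.ncard * c ≤ D.k0 H * T.ncard := by
  classical
  haveI := finite_sg hF (n := n)
  refine le_trans ?_ (card_img_le_of_stable (fun (g : Sg) (p : Vn × Vn) => (g.1 p.1, g.1 p.2)) inf_le_right
    (fun g _ k _ x => rfl) (x := (a, b)) (Set.toFinite T) hT)
  rw [Nat.card_coe_set_eq]
  set A := (Finset.univ.filter fun x : Vn => x ∈ D.W ∧ x ≠ 0 ∧ B₀ x x = B₀ a a)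
  let Bf : Vn → Finset Vn := fun a' => Finset.univ.filter fun x : Vn =>
    x ∈ D.W ∧ x ∉ Submodule.span F {a'} ∧ B₀ a' x = B₀ a b ∧ B₀ x x = B₀ b b
  have hA : {x : Vn | x ∈ D.W ∧ x ≠ 0 ∧ B₀ x x = B₀ a a}.ncard = A.card := by
    rw [← Set.ncard_coe_finset]; simp [A]
  have hcard : A.card * c ≤ (A.sigma fun a' => Bf a').card := by
    rw [Finset.card_sigma, ← smul_eq_mul]
    refine Finset.card_nsmul_le_sum _ _ _ fun a' ha' => ?_
    obtain ⟨h1, h2, h3⟩ := (Finset.mem_filter.1 ha').2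
    refine (hc a' h1 h2 h3).trans (le_of_eq ?_)
    rw [← Set.ncard_coe_finset]; simp [Bf]
  rw [hA]
  refine hcard.trans ?_
  rw [← Set.ncard_coe_finset]
  refine Set.ncard_le_ncard_of_injOn (fun p => (p.1, p.2)) ?_ ?_ (Set.toFinite _)
  · rintro ⟨a', b'⟩ hp
    obtain ⟨hp1, hp2⟩ := Finset.mem_sigma.1 hp
    obtain ⟨h1, h2, h3⟩ := (Finset.mem_filter.1 hp1).2
    obtain ⟨k1, k2, k3, k4⟩ := (Finset.mem_filter.1 hp2).2
    obtain ⟨g, hg, hga⟩ := D.fx_trans ha h1 ha0 h2 h3.symm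
    have hgb : g.1 b ∈ D.W := D.lev_mem_W (D.fx_le_lev hg) hb
    obtain ⟨e, he, e1, e2, e3⟩ := hcond a' b' h1 k1 h3 k3 k4
    have hnot : g.1 b ∉ Submodule.span F {a'} := by
      intro hm
      obtain ⟨t, ht⟩ := Submodule.mem_span_singleton.1 hm
      refine hba (Submodule.mem_span_singleton.2 ⟨t, g.1.injective ?_⟩)
      rw [map_smul, hga, ht]
    obtain ⟨k, hk, hka, hkb⟩ := D.fx_trans_two h1 hgb k1 h2 hnot k2
      (by rw [← hga, sg_form D.C, hga, k3]) (by rw [sg_form D.C, k4]) he e1 e2 e3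
    refine ⟨k * g, mul_mem hk hg, ?_⟩
    show (k.1 (g.1 a), k.1 (g.1 b)) = (a', b')
    rw [hga, hka, hkb]
  · rintro ⟨a1, b1⟩ _ ⟨a2, b2⟩ _ h
    simp only [Prod.mk.injEq] at h
    obtain ⟨rfl, rfl⟩ := h
    rfl

/-- Partners of an anisotropic vector with given products. -/
theorem Frame.count_aniso (D : Frame hF n v v') {a : Vn} (ha : a ∈ D.W) (haa : B₀ a a ≠ 0) (β γ : F) :
    open scoped Classical in
    Herm.N F q (n - 3) (γ - σ₀ β * β / B₀ a a) - (if γ = σ₀ β * β / B₀ a a then 1 else 0) ≤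
      {x : Vn | x ∈ D.W ∧ x ∉ Submodule.span F {a} ∧ B₀ a x = β ∧ B₀ x x = γ}.ncard := by
  classical
  obtain ⟨hnd, hrank⟩ := nd_inf_ker D.nd_W ha haa
  rw [D.finrank_W] at hrank
  set γ' := γ - σ₀ β * β / B₀ a a with hγ'
  rw [← card_norm_vectors hnd (show finrank F ↥(D.W ⊓ LinearMap.ker (B₀ a)) = n - 3 by omega) γ',
    Nat.card_eq_fintype_card, Fintype.card_subtype]
  set A := (Finset.univ.filter fun x : Vn => x ∈ D.W ⊓ LinearMap.ker (B₀ a) ∧ B₀ x x = γ')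
  have h1 : A.card - (if γ = σ₀ β * β / B₀ a a then 1 else 0) ≤ (A.erase 0).card := by
    split_ifs with h
    · exact Finset.pred_card_le_card_erase
    · rw [Nat.sub_zero, Finset.erase_eq_of_notMem]
      intro h0
      have := (Finset.mem_filter.1 h0).2.2
      simp at this
      exact h (sub_eq_zero.1 this.symm)
  refine h1.trans ?_
  rw [← Set.ncard_coe_finset]
  refine Set.ncard_le_ncard_of_injOn (fun u => (β / B₀ a a) • a + u) ?_ (fun x _ y _ h => add_left_cancel h)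
    (Set.toFinite _)
  intro u hu
  obtain ⟨hu0, hu'⟩ := Finset.mem_erase.1 hu
  obtain ⟨⟨huW, hua⟩, hun⟩ := (Finset.mem_filter.1 hu').2
  have hua' : B₀ a u = 0 := hua
  refine ⟨add_mem (Submodule.smul_mem _ _ ha) huW, fun hm => hu0 ?_, ?_, ?_⟩
  · obtain ⟨t, ht⟩ := Submodule.mem_span_singleton.1 hm
    have e : u = (t - β / B₀ a a) • a := by rw [sub_smul, ht, add_sub_cancel_left]
    rw [e, map_smul, smul_eq_mul, mul_eq_zero] at hua'
    rw [e, hua'.resolve_right haa, zero_smul]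
  · rw [map_add, map_smul, hua', smul_eq_mul, div_mul_cancel₀ _ haa, add_zero]
  · simp only [map_add, map_smul, LinearMap.add_apply, LinearMap.map_smulₛₗ, LinearMap.smul_apply, smul_eq_mul,
      hua', symm_zero hua', hun, map_div₀, self_fixed' a, hγ']
    field_simp
    ring

/-- Partners of an isotropic vector with a non-zero product. -/
theorem Frame.count_iso (D : Frame hF n v v') {a : Vn} (ha : a ∈ D.W) (haa : B₀ a a = 0) (ha0 : a ≠ 0) {β γ : F} (hβ : β ≠ 0)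
    (hγ : σ₀ γ = γ) :
    q ^ (2 * (n - 4) + 1) ≤
      {x : Vn | x ∈ D.W ∧ x ∉ Submodule.span F {a} ∧ B₀ a x = β ∧ B₀ x x = γ}.ncard := by
  classical
  obtain ⟨a', ha', h2, h3⟩ := D.exists_partner ha haa ha0
  obtain ⟨hnd, hrank⟩ := nd_hyperbolic D.nd_W ha ha' haa h2 h3
  rw [D.finrank_W] at hrank
  have h4 : B₀ a' a = 1 := by rw [form_symm, h3, map_one]
  set U := D.W ⊓ (LinearMap.ker (B₀ a) ⊓ LinearMap.ker (B₀ a')) with hU
  have hx : ∀ u : U, ∃ x : F, x + σ₀ x = γ - B₀ (u : Vn) u := fun u =>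
    exists_trace_eq (frob_ne_id hF) (frob_frob hF) (by rw [map_sub, hγ, self_fixed'])
  choose x hx using hx
  have hcard : Nat.card (U × skew hF) = q ^ (2 * (n - 4) + 1) := by
    rw [Nat.card_prod, card_skew, Module.natCard_eq_pow_finrank (K := F), card_F hF, ← pow_mul, pow_succ]
    congr 3
    omega
  rw [← hcard, ← Nat.card_coe_set_eq]
  have hb : σ₀ β ≠ 0 := by simpa using hβ
  refine Nat.card_le_card_of_injective (fun p => (⟨((x p.1 + p.2.1) / σ₀ β) • a + β • a' + p.1.1, ?_⟩ :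
    {x : Vn | x ∈ D.W ∧ x ∉ Submodule.span F {a} ∧ B₀ a x = β ∧ B₀ x x = γ})) ?_
  · have hu1 : B₀ a (p.1 : Vn) = 0 := p.1.2.2.1
    have hu2 : B₀ a' (p.1 : Vn) = 0 := p.1.2.2.2
    have hp : B₀ a (((x p.1 + p.2.1) / σ₀ β) • a + β • a' + p.1.1) = β := by
      simp [haa, h3, hu1]
    refine ⟨add_mem (add_mem (Submodule.smul_mem _ _ ha) (Submodule.smul_mem _ _ ha')) p.1.2.1, fun hm => ?_,
      hp, ?_⟩
    · obtain ⟨t, ht⟩ := Submodule.mem_span_singleton.1 hm
      rw [← ht, map_smul, haa, smul_zero] at hp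
      exact hβ hp.symm
    · have hs := (mem_skew hF).1 p.2.2
      have hx' := hx p.1
      simp only [map_add, map_smul, LinearMap.add_apply, LinearMap.map_smulₛₗ, LinearMap.smul_apply, smul_eq_mul,
        haa, h2, h3, h4, hu1, hu2, symm_zero hu1, symm_zero hu2, map_div₀, frob_frob hF]
      field_simp
      linear_combination (σ₀ β * β) * hx' + (σ₀ β * β) * hs
  · rintro ⟨u, s⟩ ⟨u', s'⟩ h
    have h' : ((x u + s.1) / σ₀ β) • a + β • a' + u.1 = ((x u' + s'.1) / σ₀ β) • a + β • a' + u'.1 :=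
      congrArg Subtype.val h
    have e := congrArg (B₀ a') h'
    simp [h2, h4, show B₀ a' (u : Vn) = 0 from u.2.2.2, show B₀ a' (u' : Vn) = 0 from u'.2.2.2, hβ] at e
    rw [e] at h'
    have hu : u = u' := Subtype.ext (add_left_cancel h')
    subst hu
    exact Prod.ext rfl (Subtype.ext (add_left_cancel e))

/-- Isotropic vectors orthogonal to an isotropic vector and off its line. -/
theorem Frame.count_ti (D : Frame hF n v v') {a : Vn} (ha : a ∈ D.W) (haa : B₀ a a = 0) (ha0 : a ≠ 0) :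
    q ^ 2 * (Herm.N F q (n - 4) (0 : F) - 1) ≤
      {x : Vn | x ∈ D.W ∧ x ∉ Submodule.span F {a} ∧ B₀ a x = 0 ∧ B₀ x x = 0}.ncard := by
  classical
  obtain ⟨a', ha', h2, h3⟩ := D.exists_partner ha haa ha0
  obtain ⟨hnd, hrank⟩ := nd_hyperbolic D.nd_W ha ha' haa h2 h3
  rw [D.finrank_W] at hrank
  have h4 : B₀ a' a = 1 := by rw [form_symm, h3, map_one]
  set U := D.W ⊓ (LinearMap.ker (B₀ a) ⊓ LinearMap.ker (B₀ a')) with hU
  rw [← card_norm_vectors hnd (show finrank F ↥U = n - 4 by omega) 0, Nat.card_eq_fintype_card, Fintype.card_subtype]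
  set A := (Finset.univ.filter fun x : Vn => x ∈ U ∧ B₀ x x = 0)
  have h1 : A.card - 1 ≤ (A.erase 0).card := Finset.pred_card_le_card_erase
  refine (Nat.mul_le_mul_left _ h1).trans ?_
  rw [← hF, ← Finset.card_univ, ← Finset.card_product, ← Set.ncard_coe_finset]
  refine Set.ncard_le_ncard_of_injOn (fun p => p.1 • a + p.2) ?_ ?_ (Set.toFinite _)
  · rintro ⟨t, u⟩ hp
    obtain ⟨-, hu⟩ := Finset.mem_product.1 hp
    obtain ⟨hu0, hu'⟩ := Finset.mem_erase.1 hu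
    obtain ⟨huU, hun⟩ := (Finset.mem_filter.1 hu').2
    have hu1 : B₀ a u = 0 := huU.2.1
    have hu2 : B₀ a' u = 0 := huU.2.2
    refine ⟨add_mem (Submodule.smul_mem _ _ ha) huU.1, fun hm => hu0 ?_, ?_, ?_⟩
    · obtain ⟨r, hr⟩ := Submodule.mem_span_singleton.1 hm
      have e : u = (r - t) • a := by rw [sub_smul, hr, add_sub_cancel_left]
      rw [e, map_smul, h4, smul_eq_mul, mul_one] at hu2
      rw [e, hu2, zero_smul]
    · show B₀ a (t • a + u) = 0
      simp [haa, hu1]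
    · show B₀ (t • a + u) (t • a + u) = 0
      simp [haa, hu1, symm_zero hu1, hun]
  · rintro ⟨t, u⟩ hp ⟨t', u'⟩ hp' h
    have hu2 : B₀ a' u = 0 := (Finset.mem_filter.1 (Finset.mem_erase.1 (Finset.mem_product.1 hp).2).2).2.1.2.2
    have hu2' : B₀ a' u' = 0 := (Finset.mem_filter.1 (Finset.mem_erase.1 (Finset.mem_product.1 hp').2).2).2.1.2.2
    simp only at h
    have e := congrArg (B₀ a') h
    simp [h4, hu2, hu2'] at e
    subst e
    exact Prod.ext rfl (add_left_cancel h)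

/-- The image meets a non-degenerate subspace in an isotropic group for a form over the prime field. -/
theorem Pair.sbar_sq_le (D : Pair hF n v v') {H : Subgroup Sg} (hR : D.rsub H ≠ skew hF) {Y : Submodule F Vn} (hY : Nd hF Y)
    {A : AddSubgroup Vn} (hA : A ≤ D.sbar H) (hAY : A ≤ Y.toAddSubgroup) :
    Nat.card A * Nat.card A ≤ Nat.card Y := by
  classical
  obtain ⟨c0, hc0, hc0R⟩ := SetLike.exists_of_lt (lt_of_le_of_ne (D.rsub_le H) hR)
  obtain ⟨χ, hχ⟩ := AddChar.exists_apply_ne_zero.2 (show ((c0 : F) : F ⧸ D.rsub H) ≠ 0 from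
    fun h => hc0R ((QuotientAddGroup.eq_zero_iff _).1 h))
  set S : AddSubgroup Y := A.comap Y.subtype.toAddMonoidHom with hS
  have hScard : Nat.card S = Nat.card A := Nat.card_congr
    { toFun := fun a => ⟨(a.1 : Vn), a.2⟩
      invFun := fun a => ⟨⟨a.1, hAY a.2⟩, a.2⟩
      left_inv := fun a => rfl
      right_inv := fun a => rfl }
  let g : S → Y →+ F ⧸ D.rsub H := fun a =>
    (QuotientAddGroup.mk' (D.rsub H)).comp
      { toFun := fun y : Y => B₀ (a.1 : Vn) (y : Vn) - σ₀ (B₀ (a.1 : Vn) (y : Vn))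
        map_zero' := by simp
        map_add' := fun x y => by simp only [Submodule.coe_add, map_add]; ring }
  have hg : ∀ a, S ≤ (g a).ker := fun a b hb => (QuotientAddGroup.eq_zero_iff _).2 (by
    show B₀ (a.1 : Vn) (b : Vn) - σ₀ (B₀ (a.1 : Vn) (b : Vn)) ∈ D.rsub H
    rw [← form_symm]
    exact D.comm_rsub (hA hb) (hA a.2))
  haveI : Finite (Y ⧸ S) := Finite.of_surjective _ QuotientAddGroup.mk_surjective
  haveI := Fintype.ofFinite (Y ⧸ S)
  have h1 : Nat.card S ≤ Nat.card (Y ⧸ S) := by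
    rw [Nat.card_eq_fintype_card (α := Y ⧸ S), ← AddChar.card_eq, ← Nat.card_eq_fintype_card]
    refine Nat.card_le_card_of_injective (fun a => χ.compAddMonoidHom (QuotientAddGroup.lift S (g a) (hg a))) ?_
    intro a b h
    have h3 : ∀ y : Y, χ (g a y) = χ (g b y) := fun y => DFunLike.congr_fun h (QuotientAddGroup.mk y)
    by_contra hne
    obtain ⟨y0, hy0, hdy⟩ : ∃ y ∈ Y, B₀ ((a.1 : Vn) - (b.1 : Vn)) y ≠ 0 := by
      by_contra hc
      push Not at hc
      have : (a.1 : Vn) - (b.1 : Vn) = 0 := hY _ (sub_mem a.1.2 b.1.2) fun x hx => symm_zero (hc x hx)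
      exact hne (Subtype.ext (Subtype.ext (sub_eq_zero.1 this)))
    set d := B₀ ((a.1 : Vn) - (b.1 : Vn)) y0 with hd
    obtain ⟨s, hs⟩ := exists_trace_eq (frob_ne_id hF) (frob_frob hF) (a := (1 : F)) (map_one _)
    set y : Y := ⟨(c0 * s / d) • y0, Y.smul_mem _ hy0⟩ with hy
    have hval : B₀ (a.1 : Vn) (y : Vn) - σ₀ (B₀ (a.1 : Vn) (y : Vn)) =
        c0 + (B₀ (b.1 : Vn) (y : Vn) - σ₀ (B₀ (b.1 : Vn) (y : Vn))) := by
      have h5 : B₀ (a.1 : Vn) (y : Vn) = c0 * s + B₀ (b.1 : Vn) (y : Vn) := by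
        rw [← sub_eq_iff_eq_add, ← LinearMap.sub_apply, ← map_sub, hy]
        simp only [map_smul, smul_eq_mul, ← hd]
        rw [div_mul_cancel₀ _ hdy]
      rw [h5, map_add, map_mul]
      have hc : σ₀ c0 = -c0 := eq_neg_of_add_eq_zero_right hc0
      rw [hc]
      linear_combination c0 * hs
    have e1 : g a y = ((c0 : F) : F ⧸ D.rsub H) + g b y := by
      show ((B₀ (a.1 : Vn) (y : Vn) - σ₀ (B₀ (a.1 : Vn) (y : Vn)) : F) : F ⧸ D.rsub H) = _ + ((_ : F) : F ⧸ D.rsub H)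
      rw [hval, QuotientAddGroup.mk_add]
      rfl
    have h4 := h3 y
    rw [e1, AddChar.map_add_eq_mul] at h4
    exact hχ ((mul_eq_right₀ (χ.val_isUnit _).ne_zero).1 h4)
  rw [← hScard, ← AddSubgroup.card_mul_index S, AddSubgroup.index]
  exact Nat.mul_le_mul_left _ h1

/-- A fibre of the product with a fixed vector. -/
theorem Pair.fibre_le (D : Pair hF n v v') (A : AddSubgroup Vn) (a : Vn) (β : F) :
    {x : Vn | x ∈ A ∧ B₀ a x = β}.ncard ≤ {x : Vn | x ∈ A ∧ B₀ a x = 0}.ncard ∧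
      ((∃ x ∈ A, B₀ a x ≠ 0) → 2 * {x : Vn | x ∈ A ∧ B₀ a x = 0}.ncard ≤ Nat.card A) := by
  classical
  let f : A →+ F := (B₀ a).toAddMonoidHom.comp A.subtype
  have hker : {x : Vn | x ∈ A ∧ B₀ a x = 0}.ncard = Nat.card f.ker := by
    rw [← Nat.card_coe_set_eq]
    exact Nat.card_congr
      { toFun := fun x => ⟨⟨x.1, x.2.1⟩, x.2.2⟩
        invFun := fun x => ⟨x.1.1, x.1.2, x.2⟩
        left_inv := fun x => rfl
        right_inv := fun x => rfl }
  constructor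
  · by_cases hex : ∃ x0 ∈ A, B₀ a x0 = β
    · obtain ⟨x0, hx0, hx0β⟩ := hex
      refine Set.ncard_le_ncard_of_injOn (fun x => x - x0) ?_ (fun x _ y _ h => sub_left_inj.1 h) (Set.toFinite _)
      rintro x ⟨hx, hxβ⟩
      exact ⟨sub_mem hx hx0, by rw [map_sub, hxβ, hx0β, sub_self]⟩
    · push Not at hex
      rw [show {x : Vn | x ∈ A ∧ B₀ a x = β} = ∅ from Set.eq_empty_iff_forall_notMem.2 fun x hx => hex x hx.1 hx.2,
        Set.ncard_empty]
      exact Nat.zero_le _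
  · rintro ⟨x, hx, hne⟩
    rw [hker, ← f.ker.card_mul_index, mul_comm 2]
    refine Nat.mul_le_mul_left _ ?_
    have h0 : f.ker.index ≠ 0 := AddSubgroup.index_ne_zero_of_finite
    have h1 : f.ker.index ≠ 1 := fun h => hne (by
      have : (⟨x, hx⟩ : A) ∈ f.ker := by rw [AddSubgroup.index_eq_one.1 h]; trivial
      exact this)
    omega

end Cfsg.Lib.Linear.MinIndexU
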