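import Cfsg.Agent.Lib.Linear.MinIndexU.Basic

/-!
# The radical of a point stabiliser and its Levi complement in a special unitary group

For an isotropic `v` the element `el v a c` is `x ↦ x + h(v,x) (a + c v) - h(a,x) v`. For a hyperbolic pair
`v, v'` a subgroup `H` determines the additive groups `sbar` and `rsub` and the group `levi` of the elements of
the Levi complement which lift to `H`; they bound the index of `H` from below.
-/

set_option autoImplicit false
set_option linter.unusedSectionVars false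

namespace Cfsg.Lib.Linear.MinIndexU

open Module
open Cfsg.Lib.Linear Cfsg.Lib.Linear.Herm

variable {F : Type*} [Field F] [Fintype F] {q n : ℕ} {hF : Fintype.card F = q ^ 2}

local notation "Vn" => Fin n → F
local notation "B₀" => hB hF n
local notation "σ₀" => frob hF
local notation "Sg" => SUg hF n

/-- The conditions on the parameters of a root element. -/
def Root (hF : Fintype.card F = q ^ 2) (v a : Fin n → F) (c : F) : Prop :=
  hB hF n v v = 0 ∧ hB hF n v a = 0 ∧ c + frob hF c + hB hF n a a = 0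

theorem exists_el (C : Big.Space B₀) {v a : Vn} {c : F} (h : Root hF v a c) :
    ∃ g : Sg, ∀ x, g.1 x = x + B₀ v x • (a + c • v) - B₀ a x • v := by
  obtain ⟨hv, ha, hc⟩ := h
  have hav : B₀ a v = 0 := symm_zero ha
  let L : (Fin n → F) →ₗ[F] (Fin n → F) :=
    (LinearMap.transvection (B₀ v) (a + c • v)).comp (LinearMap.transvection (-B₀ a) v)
  have hL : ∀ x, L x = x + B₀ v x • (a + c • v) - B₀ a x • v := fun x => by
    simp [L, LinearMap.transvection, hv]
    module
  obtain ⟨g, hg, hdet, hgL⟩ := Big.exists_equiv C L fun x y => by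
    simp only [hL, map_add, map_sub, map_smul, LinearMap.map_smulₛₗ, LinearMap.add_apply, LinearMap.sub_apply,
      LinearMap.smul_apply, smul_eq_mul, C.symm.eq, hv, ha, hav]
    linear_combination (B₀ x v * B₀ v y) * hc
  refine ⟨⟨g, (Big.mem_tv C).2 ⟨hg, Units.ext ?_⟩⟩, fun x => (hgL x).trans (hL x)⟩
  rw [hdet]
  simp [L, LinearMap.det_comp, hv, hav, ha]

open scoped Classical in
/-- The root element. -/
noncomputable def el (hF : Fintype.card F = q ^ 2) {n : ℕ} (v a : Fin n → F) (c : F) : SUg hF n :=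
  if h : ∃ g : SUg hF n, ∀ x, g.1 x = x + hB hF n v x • (a + c • v) - hB hF n a x • v then h.choose else 1

theorem el_apply (C : Big.Space B₀) {v a : Vn} {c : F} (h : Root hF v a c) (x : Vn) :
    (el hF v a c).1 x = x + B₀ v x • (a + c • v) - B₀ a x • v := by
  have h' := exists_el C h
  rw [el, dif_pos h']
  exact h'.choose_spec x

theorem Root.mul {v a b : Vn} {c e : F} (h : Root hF v a c) (h' : Root hF v b e) :
    Root hF v (a + b) (c + e - B₀ a b) := by
  refine ⟨h.1, by rw [map_add, h.2.1, h'.2.1, add_zero], ?_⟩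
  simp only [map_sub, map_add, LinearMap.add_apply, ← form_symm]
  linear_combination h.2.2 + h'.2.2

theorem Root.zero {v : Vn} (hv : B₀ v v = 0) {c : F} (hc : c + σ₀ c = 0) : Root hF v 0 c :=
  ⟨hv, map_zero _, by simpa using hc⟩

theorem el_mul (C : Big.Space B₀) {v a b : Vn} {c e : F} (h : Root hF v a c) (h' : Root hF v b e) :
    el hF v a c * el hF v b e = el hF v (a + b) (c + e - B₀ a b) := by
  refine sg_ext fun x => ?_
  show (el hF v a c).1 ((el hF v b e).1 x) = _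
  rw [el_apply C h, el_apply C h', el_apply C (h.mul h')]
  simp only [map_add, map_sub, map_smul, LinearMap.add_apply, smul_eq_mul, h.1, h'.2.1, symm_zero h.2.1]
  module

theorem el_zero_zero (C : Big.Space B₀) {v : Vn} (hv : B₀ v v = 0) : el hF v 0 0 = 1 :=
  sg_ext fun x => by rw [el_apply C (Root.zero hv (by simp))]; simp

theorem Root.inv {v a : Vn} {c : F} (h : Root hF v a c) : Root hF v (-a) (σ₀ c) := by
  refine ⟨h.1, by rw [map_neg, h.2.1, neg_zero], ?_⟩
  simp only [map_neg, LinearMap.neg_apply, neg_neg, frob_frob hF]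
  linear_combination h.2.2

theorem el_inv (C : Big.Space B₀) {v a : Vn} {c : F} (h : Root hF v a c) :
    (el hF v a c)⁻¹ = el hF v (-a) (σ₀ c) := by
  refine inv_eq_of_mul_eq_one_right ?_
  rw [el_mul C h h.inv, add_neg_cancel, map_neg, sub_neg_eq_add, h.2.2, el_zero_zero C h.1]

theorem el_zero_eq (C : Big.Space B₀) {v : Vn} (hv : B₀ v v = 0) {c : F}
    (hl : c + σ₀ c + σ₀ c * c * B₀ v v = 0) : (el hF v 0 c).1 = qrefl v c hl := by
  refine LinearEquiv.ext fun x => ?_
  rw [el_apply C (Root.zero hv (by simpa [hv] using hl)), qrefl_apply]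
  simp [smul_smul, mul_comm]

theorem skew_el (C : Big.Space B₀) {v : Vn} (hv : B₀ v v = 0) {c e : F} (hc : c + σ₀ c = 0) (he : e + σ₀ e = 0) :
    el hF v 0 c * el hF v 0 e = el hF v 0 (c + e) := by
  rw [el_mul C (Root.zero hv hc) (Root.zero hv he), add_zero, map_zero, sub_zero]

/-- Commutators in the radical. -/
theorem el_comm (C : Big.Space B₀) {v a b : Vn} {c e : F} (h : Root hF v a c) (h' : Root hF v b e) :
    el hF v a c * el hF v b e = el hF v 0 (B₀ b a - B₀ a b) * (el hF v b e * el hF v a c) := by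
  have hz : (B₀ b a - B₀ a b) + σ₀ (B₀ b a - B₀ a b) = 0 := by rw [map_sub, ← form_symm, ← form_symm]; ring
  rw [el_mul C h h', el_mul C h' h, el_mul C (Root.zero h.1 hz) (h'.mul h), zero_add, LinearMap.map_zero₂,
    sub_zero, add_comm b a]
  congr 1
  ring

theorem el_shift (C : Big.Space B₀) {v a : Vn} {c : F} (h : Root hF v a c) (β : F) :
    Root hF v (a + β • v) c ∧ el hF v (a + β • v) c = el hF v a (c + β - σ₀ β) := by
  have hav : B₀ a v = 0 := symm_zero h.2.1
  have h1 : Root hF v (a + β • v) c := by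
    refine ⟨h.1, by rw [map_add, h.2.1, map_smul, h.1, smul_zero, add_zero], ?_⟩
    simp only [map_add, map_smul, LinearMap.map_smulₛₗ, LinearMap.add_apply, LinearMap.smul_apply, smul_eq_mul,
      h.1, h.2.1, hav, mul_zero, add_zero]
    exact h.2.2
  have h2 : Root hF v a (c + β - σ₀ β) := by
    refine ⟨h.1, h.2.1, ?_⟩
    simp only [map_sub, map_add, frob_frob hF]
    linear_combination h.2.2
  refine ⟨h1, sg_ext fun x => ?_⟩
  rw [el_apply C h1, el_apply C h2]
  simp only [map_add, LinearMap.map_smulₛₗ, LinearMap.add_apply, LinearMap.smul_apply, smul_eq_mul]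
  module

/-- A special unitary space of dimension at least four with a hyperbolic pair. -/
structure Pair (hF : Fintype.card F = q ^ 2) (n : ℕ) (v v' : Fin n → F) : Prop where
  C : Big.Space (hB hF n)
  hv : hB hF n v v = 0
  hv' : hB hF n v' v' = 0
  pair : hB hF n v v' = 1

/-- A special unitary space of dimension at least five with a hyperbolic pair. -/
structure Frame (hF : Fintype.card F = q ^ 2) (n : ℕ) (v v' : Fin n → F) : Prop extends Pair hF n v v' where
  dim : 5 ≤ n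

variable {v v' : Fin n → F} (D : Pair hF n v v')

/-- The orthogonal space of the pair. -/
noncomputable abbrev Pair.W (_D : Pair hF n v v') : Submodule F Vn :=
  LinearMap.ker (B₀ v) ⊓ LinearMap.ker (B₀ v')

/-- The Levi complement. -/
noncomputable def Pair.lev (_D : Pair hF n v v') : Subgroup Sg where
  carrier := {g | ∃ ν : Fˣ, g.1 v = (ν : F) • v ∧ g.1 v' = (σ₀ (ν : F))⁻¹ • v'}
  one_mem' := ⟨1, by simp, by simp⟩
  mul_mem' := by
    rintro g h ⟨a, ha, ha'⟩ ⟨b, hb, hb'⟩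
    refine ⟨a * b, ?_, ?_⟩
    · show g.1 (h.1 v) = _
      rw [hb, map_smul, ha, smul_smul, Units.val_mul, mul_comm]
    · show g.1 (h.1 v') = _
      rw [hb', map_smul, ha', smul_smul, Units.val_mul, map_mul, mul_inv, mul_comm]
  inv_mem' := by
    rintro g ⟨a, ha, ha'⟩
    refine ⟨a⁻¹, ?_, ?_⟩
    · apply g.1.injective
      rw [apply_inv, map_smul, ha, smul_smul, Units.inv_mul, one_smul]
    · apply g.1.injective
      have h0 : σ₀ (a : F) ≠ 0 := by simp
      rw [apply_inv, map_smul, ha', smul_smul, Units.val_inv_eq_inv_val, map_inv₀, inv_inv, mul_inv_cancel₀ h0,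
        one_smul]

/-- The elements fixing both vectors of the pair. -/
noncomputable def Pair.fx (_D : Pair hF n v v') : Subgroup Sg where
  carrier := {g | g.1 v = v ∧ g.1 v' = v'}
  one_mem' := ⟨rfl, rfl⟩
  mul_mem' := by
    rintro g h ⟨a, a'⟩ ⟨b, b'⟩
    exact ⟨show g.1 (h.1 v) = v by rw [b, a], show g.1 (h.1 v') = v' by rw [b', a']⟩
  inv_mem' := by
    rintro g ⟨a, a'⟩
    exact ⟨g.1.injective (by rw [apply_inv, a]), g.1.injective (by rw [apply_inv, a'])⟩

/-- The factor on `v`. -/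
noncomputable def Pair.nu (_D : Pair hF n v v') (g : Sg) : F := B₀ v' (g.1 v)

include D

theorem Pair.pair' : B₀ v' v = 1 := by rw [form_symm, D.pair, map_one]

theorem Pair.mem_W {w : Vn} : w ∈ D.W ↔ B₀ v w = 0 ∧ B₀ v' w = 0 := Iff.rfl

theorem Pair.W_v {w : Vn} (hw : w ∈ D.W) : B₀ v w = 0 := hw.1

theorem Pair.W_v' {w : Vn} (hw : w ∈ D.W) : B₀ v' w = 0 := hw.2

theorem Pair.v_W {w : Vn} (hw : w ∈ D.W) : B₀ w v = 0 := symm_zero hw.1

theorem Pair.v'_W {w : Vn} (hw : w ∈ D.W) : B₀ w v' = 0 := symm_zero hw.2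

theorem Pair.ne_zero : v ≠ 0 := fun h => by
  have := D.pair
  simp [h] at this

theorem Pair.proj_mem (x : Vn) : x - B₀ v' x • v - B₀ v x • v' ∈ D.W := by
  refine ⟨?_, ?_⟩
  · show B₀ v _ = 0
    rw [map_sub, map_sub, map_smul, map_smul, D.hv, D.pair, smul_eq_mul, smul_eq_mul]; ring
  · show B₀ v' _ = 0
    rw [map_sub, map_sub, map_smul, map_smul, D.hv', D.pair', smul_eq_mul, smul_eq_mul]; ring

/-- The part in the orthogonal space. -/
theorem Pair.decomp (x : Vn) : ∃ w ∈ D.W, x = w + B₀ v' x • v + B₀ v x • v' :=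
  ⟨_, D.proj_mem x, by abel⟩

theorem Pair.nd_W : Nd hF D.W := by
  intro w hw h
  refine (hB_nondegenerate hF n).2 w fun x => ?_
  obtain ⟨u, hu, e⟩ := D.decomp x
  rw [e]
  simp [h u hu, D.W_v hw, D.W_v' hw]

theorem Pair.finrank_W : finrank F D.W = n - 2 := by
  let P : Vn →ₗ[F] F × F := (B₀ v).prod (B₀ v')
  have hsurj : LinearMap.range P = ⊤ := by
    rw [eq_top_iff]
    rintro ⟨s, t⟩ -
    exact ⟨t • v + s • v', by simp [P, D.hv, D.hv', D.pair, D.pair']⟩
  have h := LinearMap.finrank_range_add_finrank_ker P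
  rw [hsurj, finrank_top, Module.finrank_prod, Module.finrank_self, finrank_fin_fun, LinearMap.ker_prod] at h
  show finrank F ↥(LinearMap.ker (B₀ v) ⊓ LinearMap.ker (B₀ v')) = n - 2
  omega

theorem Pair.card_W : Nat.card D.W = (q ^ 2) ^ (n - 2) := by
  rw [Module.natCard_eq_pow_finrank (K := F), D.finrank_W, card_F hF]

theorem Pair.root_W {a : Vn} {c : F} (ha : a ∈ D.W) (hc : c + σ₀ c + B₀ a a = 0) : Root hF v a c :=
  ⟨D.hv, D.W_v ha, hc⟩

theorem Pair.el_v' {a : Vn} {c : F} (ha : a ∈ D.W) (h : Root hF v a c) :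
    (el hF v a c).1 v' = v' + a + c • v := by
  rw [el_apply D.C h, D.pair, D.v'_W ha]
  module

theorem Pair.el_inj {a b : Vn} {c e : F} (ha : a ∈ D.W) (hb : b ∈ D.W) (h : Root hF v a c) (h' : Root hF v b e)
    (heq : el hF v a c = el hF v b e) : a = b ∧ c = e := by
  have h1 : v' + a + c • v = v' + b + e • v := by rw [← D.el_v' ha h, ← D.el_v' hb h', heq]
  have h2 := congrArg (B₀ v') h1
  simp only [map_add, map_smul, D.W_v' ha, D.W_v' hb, D.pair', smul_eq_mul, mul_one, add_zero] at h2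
  have hce := add_left_cancel h2
  subst hce
  exact ⟨add_left_cancel (add_right_cancel h1), rfl⟩

/-! ### The Levi complement -/

theorem Pair.nu_eq {g : Sg} {ν : F} (h : g.1 v = ν • v) : D.nu g = ν := by
  rw [Pair.nu, h, map_smul, D.pair', smul_eq_mul, mul_one]

theorem Pair.nu_smul {g : Sg} (hg : g ∈ D.lev) : g.1 v = D.nu g • v := by
  obtain ⟨ν, hν, -⟩ := hg
  rw [D.nu_eq hν, hν]

theorem Pair.nu_ne {g : Sg} (hg : g ∈ D.lev) : D.nu g ≠ 0 := by
  obtain ⟨ν, hν, -⟩ := hg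
  rw [D.nu_eq hν]; exact ν.ne_zero

theorem Pair.nu_smul' {g : Sg} (hg : g ∈ D.lev) : g.1 v' = (σ₀ (D.nu g))⁻¹ • v' := by
  obtain ⟨ν, hν, hν'⟩ := hg
  rw [D.nu_eq hν, hν']

theorem Pair.nu_mul {g h : Sg} (hg : g ∈ D.lev) (hh : h ∈ D.lev) : D.nu (g * h) = D.nu g * D.nu h :=
  D.nu_eq (by
    show g.1 (h.1 v) = _
    rw [D.nu_smul hh, map_smul, D.nu_smul hg, smul_smul, mul_comm])

theorem Pair.lev_mem_W {g : Sg} (hg : g ∈ D.lev) {w : Vn} (hw : w ∈ D.W) : g.1 w ∈ D.W := by
  refine ⟨?_, ?_⟩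
  · show B₀ v (g.1 w) = 0
    have h := sg_form D.C g v w
    rw [D.nu_smul hg, LinearMap.map_smulₛₗ, LinearMap.smul_apply, D.W_v hw, smul_eq_mul, mul_eq_zero] at h
    exact h.resolve_left (by simpa using D.nu_ne hg)
  · show B₀ v' (g.1 w) = 0
    have h := sg_form D.C g v' w
    rw [D.nu_smul' hg, LinearMap.map_smulₛₗ, LinearMap.smul_apply, D.W_v' hw, smul_eq_mul, mul_eq_zero] at h
    exact h.resolve_left (by simpa using D.nu_ne hg)

theorem Pair.fx_le_lev : D.fx ≤ D.lev := fun g hg => ⟨1, by simp [hg.1], by simp [hg.2]⟩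

theorem Pair.nu_fx {g : Sg} (hg : g ∈ D.fx) : D.nu g = 1 := D.nu_eq (by rw [one_smul]; exact hg.1)

/-- The action on the quotient of the radical by its centre. -/
theorem Pair.act_fx {g : Sg} (hg : g ∈ D.fx) (a : Vn) : σ₀ (D.nu g) • g.1 a = g.1 a := by
  rw [D.nu_fx hg, map_one, one_smul]

theorem Pair.el_conj {g : Sg} (hg : g ∈ D.lev) {a : Vn} {c : F} (ha : a ∈ D.W) (h : Root hF v a c) :
    Root hF v (σ₀ (D.nu g) • g.1 a) (D.nu g * σ₀ (D.nu g) * c) ∧
      g * el hF v a c * g⁻¹ = el hF v (σ₀ (D.nu g) • g.1 a) (D.nu g * σ₀ (D.nu g) * c) := by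
  have hr : Root hF v (σ₀ (D.nu g) • g.1 a) (D.nu g * σ₀ (D.nu g) * c) := by
    refine ⟨D.hv, by rw [map_smul, D.W_v (D.lev_mem_W hg ha), smul_zero], ?_⟩
    simp only [map_mul, map_smul, LinearMap.map_smulₛₗ, LinearMap.smul_apply, smul_eq_mul, frob_frob hF,
      sg_form D.C]
    linear_combination (D.nu g * σ₀ (D.nu g)) * h.2.2
  refine ⟨hr, sg_ext fun x => ?_⟩
  obtain ⟨y, rfl⟩ : ∃ y, g.1 y = x := ⟨(g⁻¹).1 x, apply_inv g x⟩
  show g.1 ((el hF v a c).1 ((g⁻¹).1 (g.1 y))) = _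
  rw [inv_apply, el_apply D.C h, el_apply D.C hr]
  have h1 : B₀ v (g.1 y) = (σ₀ (D.nu g))⁻¹ * B₀ v y := by
    have h := sg_form D.C g v y
    rw [D.nu_smul hg, LinearMap.map_smulₛₗ, LinearMap.smul_apply, smul_eq_mul] at h
    rw [← h, ← mul_assoc, inv_mul_cancel₀ (by simpa using D.nu_ne hg), one_mul]
  simp only [map_add, map_sub, map_smul, LinearMap.map_smulₛₗ, LinearMap.smul_apply, smul_eq_mul,
    frob_frob hF, sg_form D.C, h1, D.nu_smul hg]
  have hne : σ₀ (D.nu g) ≠ 0 := by simpa using D.nu_ne hg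
  match_scalars <;> field_simp

/-- The radical. -/
noncomputable def Pair.rad : Subgroup Sg where
  carrier := {g | ∃ a ∈ D.W, ∃ c, Root hF v a c ∧ g = el hF v a c}
  one_mem' := ⟨0, zero_mem _, 0, Root.zero D.hv (by simp), (el_zero_zero D.C D.hv).symm⟩
  mul_mem' := by
    rintro _ _ ⟨a, ha, c, hc, rfl⟩ ⟨b, hb, e, he, rfl⟩
    exact ⟨a + b, add_mem ha hb, _, hc.mul he, el_mul D.C hc he⟩
  inv_mem' := by
    rintro _ ⟨a, ha, c, hc, rfl⟩
    exact ⟨-a, neg_mem ha, _, hc.inv, el_inv D.C hc⟩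

theorem Pair.el_mem_rad {a : Vn} {c : F} (ha : a ∈ D.W) (h : Root hF v a c) : el hF v a c ∈ D.rad :=
  ⟨a, ha, c, h, rfl⟩

theorem Pair.conj_rad {g : Sg} (hg : g ∈ D.lev) {t : Sg} (ht : t ∈ D.rad) : g * t * g⁻¹ ∈ D.rad := by
  obtain ⟨a, ha, c, hc, rfl⟩ := ht
  obtain ⟨h1, h2⟩ := D.el_conj hg ha hc
  rw [h2]
  exact D.el_mem_rad (Submodule.smul_mem _ _ (D.lev_mem_W hg ha)) h1

/-! ### The data of a subgroup -/

/-- The image of the intersection with the radical. -/
noncomputable def Pair.sbar (H : Subgroup Sg) : AddSubgroup Vn where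
  carrier := {a | a ∈ D.W ∧ ∃ c, Root hF v a c ∧ el hF v a c ∈ H}
  zero_mem' := ⟨zero_mem _, 0, Root.zero D.hv (by simp), by rw [el_zero_zero D.C D.hv]; exact one_mem H⟩
  add_mem' := by
    rintro a b ⟨ha, c, hc, hc'⟩ ⟨hb, e, he, he'⟩
    exact ⟨add_mem ha hb, _, hc.mul he, el_mul D.C hc he ▸ mul_mem hc' he'⟩
  neg_mem' := by
    rintro a ⟨ha, c, hc, hc'⟩
    exact ⟨neg_mem ha, _, hc.inv, el_inv D.C hc ▸ inv_mem hc'⟩

/-- The central part of the intersection with the radical. -/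
noncomputable def Pair.rsub (H : Subgroup Sg) : AddSubgroup F where
  carrier := {c | c + σ₀ c = 0 ∧ el hF v 0 c ∈ H}
  zero_mem' := ⟨by simp, by rw [el_zero_zero D.C D.hv]; exact one_mem H⟩
  add_mem' := by
    rintro c e ⟨hc, hc'⟩ ⟨he, he'⟩
    exact ⟨by rw [map_add]; linear_combination hc + he, skew_el D.C D.hv hc he ▸ mul_mem hc' he'⟩
  neg_mem' := by
    rintro c ⟨hc, hc'⟩
    refine ⟨by rw [map_neg]; linear_combination -hc, ?_⟩
    have h := inv_mem hc'
    rwa [el_inv D.C (Root.zero D.hv hc), neg_zero, eq_neg_of_add_eq_zero_right hc] at h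

theorem Pair.rsub_le (H : Subgroup Sg) : D.rsub H ≤ skew hF := fun _ h => h.1

/-- The elements of the Levi complement lifting to the subgroup. -/
noncomputable def Pair.levi (H : Subgroup Sg) : Subgroup Sg where
  carrier := {g | g ∈ D.lev ∧ ∃ t ∈ D.rad, t * g ∈ H}
  one_mem' := ⟨one_mem _, 1, one_mem _, by rw [one_mul]; exact one_mem H⟩
  mul_mem' := by
    rintro g h ⟨hg, t, ht, hgH⟩ ⟨hh, p, hp, hhH⟩
    exact ⟨mul_mem hg hh, t * (g * p * g⁻¹), mul_mem ht (D.conj_rad hg hp), by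
      rw [show t * (g * p * g⁻¹) * (g * h) = (t * g) * (p * h) by group]
      exact mul_mem hgH hhH⟩
  inv_mem' := by
    rintro g ⟨hg, t, ht, hgH⟩
    refine ⟨inv_mem hg, g⁻¹ * t⁻¹ * g⁻¹⁻¹, D.conj_rad (inv_mem hg) (inv_mem ht), ?_⟩
    rw [inv_inv, show g⁻¹ * t⁻¹ * g * g⁻¹ = (t * g)⁻¹ by group]
    exact inv_mem hgH

theorem Pair.levi_le (H : Subgroup Sg) : D.levi H ≤ D.lev := fun _ h => h.1

theorem Pair.exists_lift {H : Subgroup Sg} {g : Sg} (hg : g ∈ D.levi H) :
    ∃ a ∈ D.W, ∃ c, Root hF v a c ∧ el hF v a c * g ∈ H := by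
  obtain ⟨t, ⟨a, ha, c, hc, rfl⟩, h⟩ := hg.2
  exact ⟨a, ha, c, hc, h⟩

/-- Conjugation in the radical leaves the part outside the centre unchanged. -/
theorem Pair.conj_el {a b : Vn} {c e : F} (h : Root hF v a c) (h' : Root hF v b e) :
    Root hF v b (e + (B₀ b a - B₀ a b)) ∧
      el hF v a c * el hF v b e * (el hF v a c)⁻¹ = el hF v b (e + (B₀ b a - B₀ a b)) := by
  have hz : (B₀ b a - B₀ a b) + σ₀ (B₀ b a - B₀ a b) = 0 := by rw [map_sub, ← form_symm, ← form_symm]; ring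
  have hm := (Root.zero (hF := hF) h.1 hz).mul h'
  rw [zero_add, LinearMap.map_zero₂, sub_zero, add_comm] at hm
  refine ⟨hm, ?_⟩
  rw [el_comm D.C h h', mul_assoc, mul_assoc, mul_inv_cancel, mul_one, el_mul D.C (Root.zero h.1 hz) h', zero_add,
    LinearMap.map_zero₂, sub_zero, add_comm]

theorem Pair.levi_sbar {H : Subgroup Sg} {g : Sg} (hg : g ∈ D.levi H) {a : Vn} (ha : a ∈ D.sbar H) :
    σ₀ (D.nu g) • g.1 a ∈ D.sbar H := by
  obtain ⟨b, hb, e, he, hbH⟩ := D.exists_lift hg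
  obtain ⟨haW, c, hc, hcH⟩ := ha
  obtain ⟨hr, hconj⟩ := D.el_conj hg.1 haW hc
  obtain ⟨hr', hconj'⟩ := D.conj_el he hr
  have h := mul_mem (mul_mem hbH hcH) (inv_mem hbH)
  rw [show el hF v b e * g * el hF v a c * (el hF v b e * g)⁻¹ =
    el hF v b e * (g * el hF v a c * g⁻¹) * (el hF v b e)⁻¹ by group, hconj, hconj'] at h
  exact ⟨Submodule.smul_mem _ _ (D.lev_mem_W hg.1 haW), _, hr', h⟩

theorem Pair.levi_rsub {H : Subgroup Sg} {g : Sg} (hg : g ∈ D.levi H) {c : F} (hc : c ∈ D.rsub H) :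
    D.nu g * σ₀ (D.nu g) * c ∈ D.rsub H := by
  obtain ⟨b, hb, e, he, hbH⟩ := D.exists_lift hg
  obtain ⟨hr, hconj⟩ := D.el_conj hg.1 (zero_mem _) (Root.zero D.hv hc.1)
  rw [map_zero, smul_zero] at hr hconj
  obtain ⟨hr', hconj'⟩ := D.conj_el he hr
  have h := mul_mem (mul_mem hbH hc.2) (inv_mem hbH)
  rw [show el hF v b e * g * el hF v 0 c * (el hF v b e * g)⁻¹ =
    el hF v b e * (g * el hF v 0 c * g⁻¹) * (el hF v b e)⁻¹ by group, hconj, hconj'] at h
  simp only [map_zero, LinearMap.zero_apply, sub_zero, add_zero] at h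
  exact ⟨by simpa using hr.2.2, h⟩

/-- Commutators of the image lie in the central part. -/
theorem Pair.comm_rsub {H : Subgroup Sg} {a b : Vn} (ha : a ∈ D.sbar H) (hb : b ∈ D.sbar H) :
    B₀ b a - B₀ a b ∈ D.rsub H := by
  obtain ⟨-, c, hc, hcH⟩ := ha
  obtain ⟨-, e, he, heH⟩ := hb
  refine ⟨by rw [map_sub, ← form_symm, ← form_symm]; ring, ?_⟩
  have h := mul_mem (mul_mem hcH heH) (inv_mem (mul_mem heH hcH))
  rwa [el_comm D.C hc he, mul_inv_cancel_right] at h

/-- The orbits of the radical and the lifts together bound the index. -/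
theorem Pair.index_bound (H : Subgroup Sg) :
    (D.levi H).relIndex D.lev * H.relIndex D.rad ≤ H.index := by
  classical
  haveI := finite_sg hF (n := n)
  rw [Subgroup.relIndex, Subgroup.relIndex, Subgroup.index_eq_card, Subgroup.index_eq_card,
    Subgroup.index_eq_card, ← Nat.card_prod]
  refine Nat.card_le_card_of_injective (fun p : (D.lev ⧸ (D.levi H).subgroupOf D.lev) ×
    (D.rad ⧸ H.subgroupOf D.rad) => ((p.1.out.1 * p.2.out.1 : Sg) : Sg ⧸ H)) ?_
  rintro ⟨g, t⟩ ⟨g', t'⟩ h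
  simp only [QuotientGroup.eq] at h
  set x := (g.out : Sg)⁻¹ * g'.out
  have hx : x ∈ D.lev := mul_mem (inv_mem g.out.2) g'.out.2
  have e1 : g = g' := by
    rw [← QuotientGroup.out_eq' g, ← QuotientGroup.out_eq' g', QuotientGroup.eq, Subgroup.mem_subgroupOf]
    refine ⟨hx, (t.out : Sg)⁻¹ * (x * t'.out * x⁻¹), mul_mem (inv_mem t.out.2) (D.conj_rad hx t'.out.2), ?_⟩
    have e : (t.out : Sg)⁻¹ * (x * t'.out * x⁻¹) * x = ((g.out : Sg) * t.out)⁻¹ * (g'.out * t'.out) := by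
      simp only [x]; group
    rw [← e] at h
    exact h
  subst e1
  have e2 : t = t' := by
    rw [← QuotientGroup.out_eq' t, ← QuotientGroup.out_eq' t', QuotientGroup.eq, Subgroup.mem_subgroupOf]
    convert h using 1
    rw [Subgroup.coe_mul, Subgroup.coe_inv]
    group
  rw [e2]

theorem Pair.card_rad : Nat.card D.rad = Nat.card D.W * q := by
  rw [show Nat.card D.W * q = Nat.card (D.W × skew hF) by rw [Nat.card_prod, card_skew]]
  have hc : ∀ a : D.W, ∃ c, Root hF v (a : Vn) c := fun a => by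
    obtain ⟨c, hc⟩ := exists_trace_eq (frob_ne_id hF) (frob_frob hF) (a := -(B₀ (a : Vn) a))
      (by rw [map_neg, self_fixed'])
    exact ⟨c, D.root_W a.2 (by linear_combination hc)⟩
  choose c hc using hc
  have hr : ∀ (a : D.W) (s : skew hF), Root hF v (a : Vn) (c a + s.1) := fun a s => by
    refine D.root_W a.2 ?_
    have h := (mem_skew hF).1 s.2
    rw [map_add]; linear_combination (hc a).2.2 + h
  refine (Nat.card_congr (Equiv.ofBijective
    (fun p : D.W × skew hF => (⟨el hF v p.1 (c p.1 + p.2.1), D.el_mem_rad p.1.2 (hr _ _)⟩ : D.rad)) ⟨?_, ?_⟩)).symm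
  · rintro ⟨a, s⟩ ⟨b, t⟩ h
    obtain ⟨h1, h2⟩ := D.el_inj a.2 b.2 (hr _ _) (hr _ _) (congrArg Subtype.val h)
    obtain rfl : a = b := Subtype.ext h1
    exact Prod.ext rfl (Subtype.ext (add_left_cancel h2))
  · rintro ⟨_, a, ha, e, he, rfl⟩
    refine ⟨(⟨a, ha⟩, ⟨e - c ⟨a, ha⟩, ?_⟩), Subtype.ext ?_⟩
    · rw [mem_skew, map_sub]; linear_combination he.2.2 - (hc ⟨a, ha⟩).2.2
    · simp

theorem Pair.card_inter (H : Subgroup Sg) :
    Nat.card (H ⊓ D.rad : Subgroup Sg) = Nat.card (D.sbar H) * Nat.card (D.rsub H) := by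
  classical
  rw [← Nat.card_prod]
  have hσ : ∀ a : D.sbar H, ∃ c, Root hF v a.1 c ∧ el hF v a.1 c ∈ H := fun a => a.2.2
  choose c hc hcH using hσ
  have hr : ∀ (a : D.sbar H) (s : D.rsub H), Root hF v a.1 (c a + s.1) ∧
      el hF v a.1 (c a) * el hF v 0 s.1 = el hF v a.1 (c a + s.1) := fun a s => by
    have hs := Root.zero (hF := hF) D.hv s.2.1
    have := (hc a).mul hs
    rw [add_zero, map_zero, sub_zero] at this
    exact ⟨this, by rw [el_mul D.C (hc a) hs, add_zero, map_zero, sub_zero]⟩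
  refine (Nat.card_congr (Equiv.ofBijective (fun p : D.sbar H × D.rsub H =>
    (⟨el hF v p.1.1 (c p.1 + p.2.1), (hr p.1 p.2).2 ▸ mul_mem (hcH _) p.2.2.2,
      D.el_mem_rad p.1.2.1 (hr p.1 p.2).1⟩ : (H ⊓ D.rad : Subgroup Sg))) ⟨?_, ?_⟩)).symm
  · rintro ⟨a, s⟩ ⟨b, t⟩ h
    obtain ⟨h1, h2⟩ := D.el_inj a.2.1 b.2.1 (hr _ _).1 (hr _ _).1 (congrArg Subtype.val h)
    obtain rfl : a = b := Subtype.ext h1
    exact Prod.ext rfl (Subtype.ext (add_left_cancel h2))
  · rintro ⟨g, hgH, a, ha, e, he, rfl⟩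
    let a' : D.sbar H := ⟨a, ha, e, he, hgH⟩
    have hs : (e - c a') + σ₀ (e - c a') = 0 := by
      rw [map_sub]; linear_combination he.2.2 - (hc a').2.2
    have e1 : el hF v a (c a') * el hF v 0 (e - c a') = el hF v a e := by
      rw [el_mul D.C (hc a') (Root.zero D.hv hs), add_zero, map_zero, sub_zero, add_sub_cancel]
    have hR : el hF v 0 (e - c a') ∈ H := (H.mul_mem_cancel_left (hcH a')).1 (e1 ▸ hgH)
    exact ⟨(a', ⟨_, hs, hR⟩), Subtype.ext (by simp [a'])⟩

/-- The bound on the index in product form. -/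
theorem Pair.index_mul (H : Subgroup Sg) :
    (D.levi H).relIndex D.lev * (Nat.card D.W * q) ≤
      H.index * (Nat.card (D.sbar H) * Nat.card (D.rsub H)) := by
  haveI := finite_sg hF (n := n)
  have h1 : Nat.card (H ⊓ D.rad : Subgroup Sg) * H.relIndex D.rad = Nat.card D.rad := by
    rw [← Subgroup.inf_relIndex_right, Subgroup.relIndex,
      ← Nat.card_congr (Subgroup.subgroupOfEquivOfLe (inf_le_right : H ⊓ D.rad ≤ D.rad)).toEquiv]
    exact Subgroup.card_mul_index _
  rw [D.card_inter, D.card_rad] at h1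
  rw [← h1, mul_left_comm, mul_comm H.index]
  exact Nat.mul_le_mul_left _ (D.index_bound H)

end Cfsg.Lib.Linear.MinIndexU
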