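import Cfsg.Agent.Lib.Linear.MinIndexU.Cases

/-!
# Totally isotropic images in dimension six, and the conclusion for dimension at least six
-/

set_option autoImplicit false
set_option linter.unusedSectionVars false

namespace Cfsg.Lib.Linear.MinIndexU

open Module
open Cfsg.Lib.Linear Cfsg.Lib.Linear.Herm
open Cfsg.Lib.Linear.MinIndexSp (img card_img_le_of_stable)

variable {F : Type*} [Field F] [Fintype F] {q n : ℕ} {hF : Fintype.card F = q ^ 2}

local notation "Vn" => Fin n → F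
local notation "B₀" => hB hF n
local notation "σ₀" => frob hF
local notation "Sg" => SUg hF n

variable {v v' : Fin n → F} (D : Frame hF n v v')
include D

/-- An element of the fixer of the pair fixing `a` and carrying the line of `b` to that of `z`. -/
theorem Frame.fx_trans_line {a b z : Vn} (ha : a ∈ D.W) (hb : b ∈ D.W) (hz : z ∈ D.W)
    (hba : b ∉ Submodule.span F {a}) (hza : z ∉ Submodule.span F {a})
    (hab : B₀ a b = 0) (haz : B₀ a z = 0) (hbb : B₀ b b = 0) (hzz : B₀ z z = 0) :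
    ∃ g ∈ D.fx, g.1 a = a ∧ ∃ t : F, t ≠ 0 ∧ g.1 b = t • z := by
  set X := Submodule.span F ({v, v'} : Set Vn) ⊔ Submodule.span F {a} with hX
  have hnot : ∀ c ∈ D.W, c ∉ Submodule.span F {a} → c ∉ X := by
    intro c hc hca hm
    obtain ⟨p, hp, r, hr, e⟩ := Submodule.mem_sup.1 hm
    obtain ⟨t, rfl⟩ := Submodule.mem_span_singleton.1 hr
    have hpW : p ∈ D.W := by
      rw [show p = c - t • a by rw [← e, add_sub_cancel_right]]
      exact sub_mem hc (Submodule.smul_mem _ _ ha)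
    by_cases hp0 : p = 0
    · exact hca (by rw [← e, hp0, zero_add]; exact Submodule.smul_mem _ _ (Submodule.mem_span_singleton_self a))
    · exact D.notMem_plane hpW hp0 hp
  have hperp : ∀ c ∈ D.W, B₀ a c = 0 → ∀ x ∈ X, B₀ x c = 0 := by
    intro c hc hac x hx
    obtain ⟨p, hp, r, hr, rfl⟩ := Submodule.mem_sup.1 hx
    obtain ⟨s, t, rfl⟩ := Submodule.mem_span_pair.1 hp
    obtain ⟨u, rfl⟩ := Submodule.mem_span_singleton.1 hr
    simp [D.W_v hc, D.W_v' hc, hac]
  obtain ⟨t, ht, htb⟩ := Herm.exists_map D.C.ne_id D.C.invol D.C.symm D.C.ndeg X (hnot b hb hba) (hnot z hz hza)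
    (fun x hx => by rw [hperp b hb hab x hx, hperp z hz haz x hx]) (hbb.trans hzz.symm)
  obtain ⟨f, hf, hzf, hXf⟩ := Big.exists_partner_perp D.C hzz X (hnot z hz hza) (hperp z hz haz)
  obtain ⟨E, hE, hdet, ⟨α, hα, hEz⟩, -, hfix⟩ := Big.exists_det_fix D.C hzz hf hzf (Big.det_norm D.C (inv_mem ht.1))
  have hgX : ∀ x ∈ X, (E * t) x = x := fun x hx => by
    rw [LinearEquiv.mul_apply, ht.2 x hx]
    exact hfix x (symm_zero (hperp z hz haz x hx)) (symm_zero (hXf x hx))
  refine ⟨⟨E * t, (Big.mem_tv D.C).2 ⟨mul_mem hE ht.1, ?_⟩⟩,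
    ⟨hgX v (Submodule.mem_sup_left (Submodule.subset_span (by simp))),
      hgX v' (Submodule.mem_sup_left (Submodule.subset_span (by simp)))⟩,
    hgX a (Submodule.mem_sup_right (Submodule.mem_span_singleton_self a)), α, hα, ?_⟩
  · have : LinearEquiv.det E = LinearEquiv.det t⁻¹ := Units.ext hdet
    rw [map_mul, this, ← map_mul, inv_mul_cancel, map_one]
  · show (E * t) b = _
    rw [LinearEquiv.mul_apply, htb, hEz]

/-- A totally isotropic image not lying on a line, in dimension six. -/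
theorem Frame.ti_false_six {H : Subgroup Sg} (S : Small H) (hR : D.rsub H ≠ skew hF) (hn : n = 6) {a b : Vn}
    (ha : a ∈ D.sbar H) (hb : b ∈ D.sbar H) (hti : ∀ x ∈ D.sbar H, ∀ y ∈ D.sbar H, B₀ x y = 0)
    (ha0 : a ≠ 0) (hba : b ∉ Submodule.span F {a}) : False := by
  classical
  haveI := finite_sg hF (n := n)
  have hq := two_le hF
  set U := Submodule.span F (D.sbar H : Set Vn) with hU
  have hUW : U ≤ D.W := Submodule.span_le.2 fun x hx => hx.1
  have hUiso : ∀ x ∈ U, ∀ y ∈ U, B₀ x y = 0 := by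
    intro x hx y hy
    induction hx using Submodule.span_induction with
    | mem x hx =>
      induction hy using Submodule.span_induction with
      | mem y hy => exact hti x hx y hy
      | zero => simp
      | add y y' _ _ h h' => simp [h, h']
      | smul c y _ h => simp [h]
    | zero => simp
    | add x x' _ _ h h' => simp [h, h']
    | smul c x _ h => simp [h]
  have hdim := (D.ti_dim hUW (fun x hx => hUiso x hx x hx) (zero_mem _) (fun x _ => map_zero _)).1
  have hle : Submodule.span F ({b} : Set Vn) ⊔ Submodule.span F {a} ≤ U :=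
    sup_le ((Submodule.span_singleton_le_iff_mem _ _).2 (Submodule.subset_span hb))
      ((Submodule.span_singleton_le_iff_mem _ _).2 (Submodule.subset_span ha))
  have hb0 : b ≠ 0 := fun e => hba (by rw [e]; exact zero_mem _)
  have hrk2 : ∀ x y : Vn, x ≠ 0 → y ∉ Submodule.span F {x} →
      finrank F ↥(Submodule.span F ({y} : Set Vn) ⊔ Submodule.span F {x}) = 2 := fun x y hx hy => by
    rw [sup_comm, Submodule.finrank_sup_span_singleton hy, finrank_span_singleton hx]
  have hUeq : Submodule.span F ({b} : Set Vn) ⊔ Submodule.span F {a} = U :=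
    Submodule.eq_of_le_of_finrank_eq hle (by
      have := Submodule.finrank_mono hle
      rw [hrk2 a b ha0 hba] at this ⊢
      omega)
  have hUcard : Nat.card U = q ^ 4 := by
    rw [← hUeq, Module.natCard_eq_pow_finrank (K := F), hrk2 a b ha0 hba, card_F hF, ← pow_mul]
  have hstab : ∀ g ∈ D.levi H ⊓ D.fx, U.map (g.1 : Vn →ₗ[F] Vn) ∈ ({U} : Set (Submodule F Vn)) := by
    intro g hg
    refine Set.mem_singleton_iff.2 (Submodule.eq_of_le_of_finrank_eq ?_ ?_)
    · rw [hU, Submodule.map_span, Submodule.span_le]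
      rintro _ ⟨x, hx, rfl⟩
      exact Submodule.subset_span (D.levi_fx_mem hg hx)
    · exact LinearEquiv.finrank_map_eq g.1 U
  have himg := card_img_le_of_stable (fun (g : Sg) (P : Submodule F Vn) => P.map (g.1 : Vn →ₗ[F] Vn)) inf_le_right
    (fun g _ k _ P => by
      show P.map ((g * k : Sg).1 : Vn →ₗ[F] Vn) = _
      rw [← Submodule.map_comp]; rfl) (x := U) (Set.toFinite _) hstab
  rw [Set.ncard_singleton, mul_one] at himg
  -- the totally isotropic pairs
  set A := Finset.univ.filter fun x : Vn => x ∈ D.W ∧ x ≠ 0 ∧ B₀ x x = 0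
  set Bf : Vn → Finset Vn := fun a' => Finset.univ.filter fun x : Vn =>
    x ∈ D.W ∧ x ∉ Submodule.span F {a'} ∧ B₀ a' x = 0 ∧ B₀ x x = 0
  have hA : (q ^ 4 - 1) * (q ^ 3 + 1) ≤ A.card := by
    have h := D.card_class (0 : F)
    rw [if_pos rfl, show n - 2 = 4 by omega] at h
    have e0 := (N_values hF 4).1
    have hN : Herm.N F q 4 (0 : F) + q ^ 3 = q ^ 7 + q ^ 4 := by
      refine Nat.eq_of_mul_eq_mul_left (show 0 < q by omega) ?_
      zify; linear_combination e0
    have hA : A.card = {x : Vn | x ∈ D.W ∧ x ≠ 0 ∧ B₀ x x = 0}.ncard := by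
      rw [← Set.ncard_coe_finset]; simp [A]
    have : (q ^ 4 - 1) * (q ^ 3 + 1) + q ^ 3 + 1 = q ^ 7 + q ^ 4 := by
      obtain ⟨t, ht⟩ : ∃ t, q ^ 4 = t + 1 := ⟨q ^ 4 - 1, by have : 1 ≤ q ^ 4 := Nat.one_le_pow _ _ (by omega); omega⟩
      rw [show q ^ 7 = q ^ 4 * q ^ 3 by ring, ht, Nat.add_sub_cancel]; ring
    omega
  have hBf : ∀ a' ∈ A, q ^ 2 * ((q ^ 2 - 1) * (q + 1)) ≤ (Bf a').card := by
    intro a' ha'
    obtain ⟨h1, h2, h3⟩ := (Finset.mem_filter.1 ha').2
    refine le_trans (Nat.mul_le_mul_left _ ?_) (le_trans (D.count_ti h1 h3 h2) (le_of_eq ?_))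
    · rw [show n - 4 = 2 by omega]
      have e0 := (N_values hF 2).1
      have hN : Herm.N F q 2 (0 : F) + q = q ^ 3 + q ^ 2 := by
        refine Nat.eq_of_mul_eq_mul_left (show 0 < q by omega) ?_
        zify; linear_combination e0
      have : (q ^ 2 - 1) * (q + 1) + q + 1 = q ^ 3 + q ^ 2 := by
        obtain ⟨t, ht⟩ : ∃ t, q ^ 2 = t + 1 := ⟨q ^ 2 - 1, by have : 1 ≤ q ^ 2 := Nat.one_le_pow _ _ (by omega); omega⟩
        rw [show q ^ 3 = q ^ 2 * q by ring, ht, Nat.add_sub_cancel]; ring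
      omega
    · rw [← Set.ncard_coe_finset]; simp [Bf]
  have hpairs : (q ^ 4 - 1) * (q ^ 3 + 1) * (q ^ 2 * ((q ^ 2 - 1) * (q + 1))) ≤ (A.sigma Bf).card := by
    rw [Finset.card_sigma]
    refine le_trans (Nat.mul_le_mul_right _ hA) ?_
    rw [← smul_eq_mul]
    exact Finset.card_nsmul_le_sum _ _ _ hBf
  set f : ((_ : Vn) × Vn) → Submodule F Vn := fun p => Submodule.span F ({p.2} : Set Vn) ⊔ Submodule.span F {p.1}
  have hfib : (A.sigma Bf).card ≤ (q ^ 4 - 1) * (q ^ 4 - q ^ 2) * ((A.sigma Bf).image f).card := by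
    refine Finset.card_le_mul_card_image _ _ fun P hP => ?_
    obtain ⟨⟨x, y⟩, hp, rfl⟩ := Finset.mem_image.1 hP
    obtain ⟨hp1, hp2⟩ := Finset.mem_sigma.1 hp
    obtain ⟨-, hx0, -⟩ := (Finset.mem_filter.1 hp1).2
    obtain ⟨-, hyx, -, -⟩ := (Finset.mem_filter.1 hp2).2
    set P := f ⟨x, y⟩
    have hPcard : Nat.card P = q ^ 4 := by
      show Nat.card ↥(Submodule.span F ({y} : Set Vn) ⊔ Submodule.span F {x}) = _
      rw [Module.natCard_eq_pow_finrank (K := F), hrk2 x y hx0 hyx, card_F hF, ← pow_mul]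
    set PF := Finset.univ.filter fun z : Vn => z ∈ P
    have hPF : PF.card = q ^ 4 := by
      rw [← hPcard, Nat.card_eq_fintype_card, Fintype.card_subtype]
    let C : Vn → Finset Vn := fun z => Finset.univ.filter fun w : Vn => w ∈ P ∧ w ∉ Submodule.span F {z}
    refine le_trans (Finset.card_le_card (t := (PF.erase 0).sigma C) ?_) ?_
    · rintro ⟨x', y'⟩ hp'
      obtain ⟨hp', hPe⟩ := Finset.mem_filter.1 hp'
      obtain ⟨hp1', hp2'⟩ := Finset.mem_sigma.1 hp'
      have hx' : x' ∈ P := by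
        rw [← hPe]; exact Submodule.mem_sup_right (Submodule.mem_span_singleton_self _)
      have hy' : y' ∈ P := by
        rw [← hPe]; exact Submodule.mem_sup_left (Submodule.mem_span_singleton_self _)
      exact Finset.mem_sigma.2 ⟨Finset.mem_erase.2 ⟨(Finset.mem_filter.1 hp1').2.2.1,
        Finset.mem_filter.2 ⟨Finset.mem_univ _, hx'⟩⟩, Finset.mem_filter.2 ⟨Finset.mem_univ _, hy',
          (Finset.mem_filter.1 hp2').2.2.1⟩⟩
    · rw [Finset.card_sigma]
      refine (Finset.sum_le_card_nsmul _ _ (q ^ 4 - q ^ 2) fun z hz => ?_).trans (le_of_eq ?_)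
      · obtain ⟨hz0, hz⟩ := Finset.mem_erase.1 hz
        have hzP : z ∈ P := (Finset.mem_filter.1 hz).2
        set ZF := Finset.univ.filter fun w : Vn => w ∈ Submodule.span F ({z} : Set Vn)
        have hZF : ZF.card = q ^ 2 := by
          rw [← Fintype.card_subtype, ← Nat.card_eq_fintype_card, Module.natCard_eq_pow_finrank (K := F),
            finrank_span_singleton hz0, card_F hF, pow_one]
        have hCeq : C z = PF \ ZF := by
          ext w; simp [C, PF, ZF]
        rw [hCeq, Finset.card_sdiff_of_subset, hPF, hZF]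
        intro w hw
        refine Finset.mem_filter.2 ⟨Finset.mem_univ _, ?_⟩
        exact (Submodule.span_singleton_le_iff_mem _ _).2 hzP (Finset.mem_filter.1 hw).2
      · rw [smul_eq_mul, Finset.card_erase_of_mem (Finset.mem_filter.2 ⟨Finset.mem_univ _, zero_mem _⟩), hPF]
  have himage : ((A.sigma Bf).image f).card ≤ D.k0 H := by
    refine le_trans ?_ himg
    rw [Nat.card_coe_set_eq, ← Set.ncard_coe_finset]
    refine Set.ncard_le_ncard ?_ (Set.toFinite _)
    rintro P hP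
    obtain ⟨⟨x, y⟩, hp, rfl⟩ := Finset.mem_image.1 (Finset.mem_coe.1 hP)
    obtain ⟨hp1, hp2⟩ := Finset.mem_sigma.1 hp
    obtain ⟨hxW, hx0, hxx⟩ := (Finset.mem_filter.1 hp1).2
    obtain ⟨hyW, hyx, hxy, hyy⟩ := (Finset.mem_filter.1 hp2).2
    obtain ⟨g, hg, hga⟩ := D.fx_trans ha.1 hxW ha0 hx0 ((hti a ha a ha).trans hxx.symm)
    have hgb : g.1 b ∈ D.W := D.lev_mem_W (D.fx_le_lev hg) hb.1
    have hnot : g.1 b ∉ Submodule.span F {x} := by
      intro hm
      obtain ⟨t, ht⟩ := Submodule.mem_span_singleton.1 hm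
      refine hba (Submodule.mem_span_singleton.2 ⟨t, g.1.injective ?_⟩)
      rw [map_smul, hga, ht]
    obtain ⟨k, hk, hkx, t, ht0, hkb⟩ := D.fx_trans_line hxW hgb hyW hnot hyx
      (by rw [← hga, sg_form D.C, hti a ha b hb]) hxy (by rw [sg_form D.C, hti b hb b hb]) hyy
    refine ⟨k * g, mul_mem hk hg, ?_⟩
    show U.map (((k * g : Sg).1 : Vn ≃ₗ[F] Vn) : Vn →ₗ[F] Vn) = _
    rw [← hUeq, Submodule.map_sup, LinearMap.map_span, LinearMap.map_span, Set.image_singleton,
      Set.image_singleton]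
    show Submodule.span F {k.1 (g.1 b)} ⊔ Submodule.span F {k.1 (g.1 a)} = _
    rw [hga, hkx, hkb, Submodule.span_singleton_smul_eq (Ne.isUnit ht0)]
  have hk : (q ^ 3 + 1) * (q + 1) ≤ D.k0 H := by
    have h := hpairs.trans (hfib.trans (Nat.mul_le_mul_left _ himage))
    have e : q ^ 4 - q ^ 2 = q ^ 2 * (q ^ 2 - 1) := by rw [Nat.mul_sub, mul_one, ← pow_add]
    have h4 : 2 ≤ q ^ 2 := le_trans hq (Nat.le_self_pow (by norm_num) q)
    have hpos : 0 < (q ^ 4 - 1) * (q ^ 4 - q ^ 2) := by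
      rw [e]
      have h16 : 2 ≤ q ^ 4 := le_trans hq (Nat.le_self_pow (by norm_num) q)
      exact Nat.mul_pos (by omega) (Nat.mul_pos (by omega) (by omega))
    refine Nat.le_of_mul_le_mul_left (le_trans (le_of_eq ?_) h) hpos
    rw [e]; ring
  refine D.key S hR ?_
  rw [show n - 2 = 4 by omega]
  have hs : Nat.card (D.sbar H) ≤ q ^ 4 :=
    hUcard ▸ Nat.card_mono (Set.toFinite _) (Submodule.subset_span : (D.sbar H : Set Vn) ⊆ U)
  obtain ⟨t, ht⟩ : ∃ t, q ^ 2 = t + 1 := ⟨q ^ 2 - 1, by have : 1 ≤ q ^ 2 := Nat.one_le_pow _ _ (by omega); omega⟩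
  have hX : q ^ 2 * q ^ 4 + q ≤ (q ^ 3 + 1) * (q + 1) * (q ^ 2 - 1) := by
    rw [show q ^ 2 * q ^ 4 + q = q * (q * q ^ 4 + 1) by ring, ht, Nat.add_sub_cancel]
    obtain ⟨w, rfl⟩ : ∃ w, q = w + 2 := ⟨q - 2, by omega⟩
    nlinarith [mul_nonneg (Nat.zero_le w) (Nat.zero_le w)]
  calc Nat.card (D.sbar H) * (q ^ 2 * q ^ 4 + q) ≤ q ^ 4 * ((q ^ 3 + 1) * (q + 1) * (q ^ 2 - 1)) :=
        Nat.mul_le_mul hs hX
    _ = (q ^ 3 + 1) * (q + 1) * ((q ^ 2 - 1) * q ^ 4) := by ring
    _ ≤ _ := Nat.mul_le_mul_right _ hk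

/-- In dimension at least six the intersection with the radical has trivial image or full centre. -/
theorem Frame.sbar_bot_six {H : Subgroup Sg} (S : Small H) (hR : D.rsub H ≠ skew hF) (hn : 6 ≤ n) :
    ∀ x ∈ D.sbar H, x = 0 := by
  by_contra hc
  push Not at hc
  obtain ⟨a, ha, ha0⟩ := hc
  have hind : ∀ x ∈ D.sbar H, x ≠ 0 → ∃ y ∈ D.sbar H, y ∉ Submodule.span F {x} := fun x hx hx0 => by
    by_contra hc
    push Not at hc
    exact D.line_false S hR hx hx0 hc
  by_cases h1 : ∃ x ∈ D.sbar H, B₀ x x ≠ 0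
  · obtain ⟨x, hx, hxx⟩ := h1
    obtain ⟨y, hy, hyx⟩ := hind x hx (fun e => hxx (by rw [e]; simp))
    rcases (show 7 ≤ n ∨ n = 6 by omega) with h | h
    · exact D.aniso_false S hR h hx hy hxx hyx
    · exact D.aniso_false_six S hR h hx hy hxx hyx
  push Not at h1
  by_cases h2 : ∃ x ∈ D.sbar H, ∃ y ∈ D.sbar H, B₀ x y ≠ 0
  · obtain ⟨x, hx, y, hy, hxy⟩ := h2
    exact D.iso_false S hR hn hx hy (h1 x hx) hxy
  push Not at h2
  obtain ⟨b, hb, hba⟩ := hind a ha ha0
  rcases (show 7 ≤ n ∨ n = 6 by omega) with h | h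
  · exact D.ti_false S hR h ha hb h2 ha0 hba
  · exact D.ti_false_six S hR h ha hb h2 ha0 hba

end Cfsg.Lib.Linear.MinIndexU
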