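import Cfsg.Agent.Lib.Linear.MinIndexU.Zero

/-!
# All isotropic vectors of the orthogonal space of a bad pair cannot be good
-/

set_option autoImplicit false
set_option linter.unusedSectionVars false

namespace Cfsg.Lib.Linear.MinIndexU

open Module
open Cfsg.Lib.Linear Cfsg.Lib.Linear.Herm
open Cfsg.Lib.Linear.MinIndexSp (img card_img_le_of_stable)

variable {F : Type*} [Field F] [Fintype F] {q n : ℕ} {hF : Fintype.card F = q ^ 2}

local notation "Vn" => Fin n → F
local notation "B₀" => hB hF n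
local notation "σ₀" => frob hF
local notation "Sg" => SUg hF n

/-- Isotropic vectors span a non-degenerate subspace of dimension at least two. -/
theorem nd_iso_span (C : Big.Space B₀) {U : Submodule F Vn} (hU : Nd hF U) (h2 : 2 ≤ finrank F U) :
    U ≤ Submodule.span F {w | w ∈ U ∧ B₀ w w = 0} := by
  obtain ⟨x, hxU, hx0, hxx⟩ := exists_iso_ne_zero C.ne_id C.invol C.symm U h2
  obtain ⟨y, hyU, hxy⟩ : ∃ y ∈ U, B₀ x y ≠ 0 := by
    by_contra hc
    push Not at hc
    exact hx0 (hU x hxU fun y hy => symm_zero (hc y hy))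
  set S := Submodule.span F {w | w ∈ U ∧ B₀ w w = 0}
  have key : ∀ w ∈ U, B₀ x w ≠ 0 → w ∈ S := by
    intro w hw hxw
    obtain ⟨s, hs⟩ := exists_trace_eq C.ne_id C.invol (a := -(B₀ w w)) (by rw [map_neg, self_fixed'])
    have h1 : w + σ₀ (s / B₀ x w) • x ∈ S := by
      refine Submodule.subset_span ⟨U.add_mem hw (U.smul_mem _ hxU), ?_⟩
      have hx0 : σ₀ (B₀ x w) ≠ 0 := by simpa using hxw
      simp only [map_add, LinearMap.add_apply, LinearMap.map_smulₛₗ, LinearMap.smul_apply,
        RingHom.id_apply, smul_eq_mul, hxx, mul_zero, add_zero, form_symm x w, frob_frob hF]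
      rw [map_div₀, div_mul_cancel₀ _ hxw, div_mul_cancel₀ _ hx0]
      linear_combination hs
    have h2 := S.sub_mem h1 (S.smul_mem (σ₀ (s / B₀ x w)) (Submodule.subset_span ⟨hxU, hxx⟩))
    rwa [add_sub_cancel_right] at h2
  intro w hw
  by_cases hxw : B₀ x w = 0
  · have h2 := S.sub_mem (key (w + y) (U.add_mem hw hyU) (by rwa [map_add, hxw, zero_add])) (key y hyU hxy)
    rwa [add_sub_cancel_right] at h2
  · exact key w hw hxw

/-- An isotropic vector not orthogonal to a given one. -/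
theorem exists_iso_pair (C : Big.Space B₀) {U : Submodule F Vn} (hU : Nd hF U) (h2 : 2 ≤ finrank F U) {a : Vn}
    (ha : ¬ ∀ x ∈ U, B₀ a x = 0) : ∃ p ∈ U, B₀ p p = 0 ∧ B₀ a p ≠ 0 := by
  by_contra hc
  push Not at hc
  refine ha fun x hx => ?_
  have hle : Submodule.span F {w | w ∈ U ∧ B₀ w w = 0} ≤ LinearMap.ker (B₀ a) :=
    Submodule.span_le.2 fun w hw => hc w hw.1 hw.2
  exact hle (nd_iso_span C hU h2 hx)

/-- The orbit of a subspace stabilised by a subgroup. -/
theorem img_card_le_index (H : Subgroup Sg) {P : Submodule F Vn}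
    (hP : ∀ g ∈ H, P.map (g.1 : Vn →ₗ[F] Vn) = P) :
    Nat.card (img (fun (g : Sg) (Q : Submodule F Vn) => Q.map (g.1 : Vn →ₗ[F] Vn)) ⊤ P) ≤ H.index := by
  haveI := finite_sg hF (n := n)
  have h := card_img_le_of_stable (fun (g : Sg) (Q : Submodule F Vn) => Q.map (g.1 : Vn →ₗ[F] Vn)) (le_top : H ≤ ⊤)
    (fun g _ k _ Q => by
      show Q.map ((g * k : Sg).1 : Vn →ₗ[F] Vn) = _
      rw [← Submodule.map_comp]; rfl) (x := P) (T := {P}) (Set.toFinite _) fun g hg => hP g hg
  rwa [Set.ncard_singleton, mul_one, Subgroup.relIndex_top_right] at h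

/-- The isotropic lines form one orbit. -/
theorem exists_map_iso_line (C : Big.Space B₀) {e z : Vn} (he : B₀ e e = 0) (he0 : e ≠ 0) (hz : B₀ z z = 0) (hz0 : z ≠ 0) :
    ∃ g : Sg, ∃ k : F, k ≠ 0 ∧ g.1 e = k • z := by
  obtain ⟨f, hf, hef, -⟩ := Big.exists_partner_perp C he ⊥ (by simpa using he0)
    (fun x hx => by rw [(Submodule.mem_bot F).1 hx]; simp)
  obtain ⟨f', hf', hef', -⟩ := Big.exists_partner_perp C hz ⊥ (by simpa using hz0)
    (fun x hx => by rw [(Submodule.mem_bot F).1 hx]; simp)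
  have hn1 : ∀ a b : Vn, B₀ a a = 0 → B₀ b b = 0 → B₀ a b = 1 →
      a ∉ Submodule.span F {b} ∧ b ∉ Submodule.span F {a} := fun a b ha hb hab => by
    constructor <;> intro hm <;> obtain ⟨t, rfl⟩ := Submodule.mem_span_singleton.1 hm
    · rw [LinearMap.map_smulₛₗ, LinearMap.smul_apply, hb, smul_zero] at hab; exact zero_ne_one hab
    · rw [map_smul, ha, smul_zero] at hab; exact zero_ne_one hab
  obtain ⟨t, ht, k, l, hk, -, hte, -⟩ := Big.exists_map_lines C he hf hz hf' (hn1 e f he hf hef).1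
    (hn1 e f he hf hef).2 (hn1 z f' hz hf' hef').1 (hn1 z f' hz hf' hef').2 (by rw [hef, hef'])
  exact ⟨⟨t, ht⟩, k, hk, hte⟩

variable {v v' : Fin n → F} (D : Frame hF n v v')
include D

theorem Frame.two_le_finrank : 2 ≤ finrank F D.W := by rw [D.finrank_W]; have := D.dim; omega

/-- The partners of an isotropic vector. -/
theorem Frame.card_partners {e : Vn} (he : B₀ e e = 0) (he0 : e ≠ 0) :
    q ^ (2 * n - 3) ≤ {f : Vn | B₀ f f = 0 ∧ B₀ e f = 1}.ncard := by
  obtain ⟨e', he', hee', -⟩ := Big.exists_partner_perp D.C he ⊥ (by simpa using he0)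
    (fun x hx => by rw [(Submodule.mem_bot F).1 hx]; simp)
  have D' : Frame hF n e e' := { C := D.C, dim := D.dim, hv := he, hv' := he', pair := hee' }
  have hx : ∀ u : D'.W, ∃ x : F, x + σ₀ x = -B₀ (u : Vn) u := fun u =>
    exists_trace_eq D.C.ne_id D.C.invol (by rw [map_neg, self_fixed'])
  choose x hx using hx
  have hcard : Nat.card (D'.W × skew hF) = q ^ (2 * n - 3) := by
    rw [Nat.card_prod, card_skew, D'.card_W, ← pow_mul, ← pow_succ]
    congr 1
    have := D.dim
    omega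
  rw [← hcard, ← Nat.card_coe_set_eq]
  refine Nat.card_le_card_of_injective (fun p => (⟨(x p.1 + p.2.1) • e + e' + p.1.1, ?_⟩ :
    {f : Vn | B₀ f f = 0 ∧ B₀ e f = 1})) ?_
  · refine ⟨?_, by simp [he, hee', D'.W_v p.1.2]⟩
    have h1 := hx p.1
    have h2 := (mem_skew hF).1 p.2.2
    simp [he, he', hee', D'.pair', D'.W_v p.1.2, D'.W_v' p.1.2, D'.v_W p.1.2, D'.v'_W p.1.2]
    linear_combination h1 + h2
  · rintro ⟨u, s⟩ ⟨u', s'⟩ h
    have h' : (x u + s.1) • e + e' + u.1 = (x u' + s'.1) • e + e' + u'.1 := congrArg Subtype.val h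
    have e1 := congrArg (B₀ e') h'
    simp [he', D'.pair', D'.W_v' u.2, D'.W_v' u'.2] at e1
    rw [e1] at h'
    obtain rfl : u = u' := Subtype.ext (add_left_cancel h')
    exact Prod.ext rfl (Subtype.ext (add_left_cancel e1))

theorem Frame.map_iso_line {e z : Vn} (he : B₀ e e = 0) (he0 : e ≠ 0) (hz : B₀ z z = 0) (hz0 : z ≠ 0) :
    ∃ g : Sg, ∃ k : F, k ≠ 0 ∧ g.1 e = k • z :=
  exists_map_iso_line D.C he he0 hz hz0

/-- A subgroup of small index fixes no isotropic point. -/
theorem Frame.no_iso_line {H : Subgroup Sg} (S : Small H) {u : Vn} (hu : B₀ u u = 0) (hu0 : u ≠ 0)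
    (hP : ∀ g ∈ H, (Submodule.span F ({u} : Set Vn)).map (g.1 : Vn →ₗ[F] Vn) = Submodule.span F {u}) : False := by
  classical
  have hq := two_le hF
  set A := (Finset.univ.filter fun x : Vn => B₀ x x = 0).erase 0
  have hA : A.card + 1 = Herm.N F q n (0 : F) := by
    rw [Finset.card_erase_add_one (Finset.mem_filter.2 ⟨Finset.mem_univ _, by simp⟩),
      ← card_norm_vectors (nd_top (hF := hF)) (finrank_top F Vn ▸ finrank_fin_fun F) 0,
      Nat.card_eq_fintype_card, Fintype.card_subtype]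
    simp
  have himg : (A.image fun x => Submodule.span F ({x} : Set Vn)).card ≤ H.index := by
    refine le_trans ?_ (img_card_le_index H hP)
    rw [Nat.card_coe_set_eq, ← Set.ncard_coe_finset]
    refine Set.ncard_le_ncard ?_ (Set.toFinite _)
    rintro Q hQ
    obtain ⟨z, hz, rfl⟩ := Finset.mem_image.1 (Finset.mem_coe.1 hQ)
    obtain ⟨hz0, hz⟩ := Finset.mem_erase.1 hz
    obtain ⟨g, k, hk, hg⟩ := D.map_iso_line hu hu0 (Finset.mem_filter.1 hz).2 hz0
    refine ⟨g, Subgroup.mem_top _, ?_⟩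
    show (Submodule.span F ({u} : Set Vn)).map (g.1 : Vn →ₗ[F] Vn) = _
    rw [LinearMap.map_span, Set.image_singleton]
    show Submodule.span F {g.1 u} = _
    rw [hg, Submodule.span_singleton_smul_eq (Ne.isUnit hk)]
  have hfib : A.card ≤ (q ^ 2 - 1) * (A.image fun x => Submodule.span F ({x} : Set Vn)).card := by
    refine Finset.card_le_mul_card_image _ _ fun Q hQ => ?_
    obtain ⟨z, hz, rfl⟩ := Finset.mem_image.1 hQ
    refine le_trans (Finset.card_le_card
      (t := (Finset.univ.filter fun w : Vn => w ∈ Submodule.span F ({z} : Set Vn)).erase 0) ?_) (le_of_eq ?_)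
    · intro w hw
      obtain ⟨hw, he⟩ := Finset.mem_filter.1 hw
      refine Finset.mem_erase.2 ⟨(Finset.mem_erase.1 hw).1, Finset.mem_filter.2 ⟨Finset.mem_univ _, ?_⟩⟩
      rw [← he]; exact Submodule.mem_span_singleton_self w
    · rw [Finset.card_erase_of_mem (Finset.mem_filter.2 ⟨Finset.mem_univ _, zero_mem _⟩), ← Fintype.card_subtype,
        ← Nat.card_eq_fintype_card, Module.natCard_eq_pow_finrank (K := F),
        finrank_span_singleton (Finset.mem_erase.1 hz).1, card_F hF, pow_one]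
  have h := S.bound
  have h2 := hfib.trans (Nat.mul_le_mul_left _ himg)
  rw [mul_comm] at h2
  omega

/-- A subgroup of small index fixes no anisotropic point. -/
theorem Frame.no_aniso_line {H : Subgroup Sg} (S : Small H) {u : Vn} (hu : B₀ u u ≠ 0)
    (hP : ∀ g ∈ H, (Submodule.span F ({u} : Set Vn)).map (g.1 : Vn →ₗ[F] Vn) = Submodule.span F {u}) : False := by
  classical
  have hq := two_le hF
  set A := Finset.univ.filter fun x : Vn => B₀ x x = B₀ u u
  have hA : A.card = Herm.N F q n (1 : F) := by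
    rw [← Herm.N_eq_N_one hF _ hu (pow_q_of_fixed (self_fixed' u)),
      ← card_norm_vectors (nd_top (hF := hF)) (finrank_top F Vn ▸ finrank_fin_fun F) (B₀ u u),
      Nat.card_eq_fintype_card, Fintype.card_subtype]
    simp [A]
  have himg : (A.image fun x => Submodule.span F ({x} : Set Vn)).card ≤ H.index := by
    refine le_trans ?_ (img_card_le_index H hP)
    rw [Nat.card_coe_set_eq, ← Set.ncard_coe_finset]
    refine Set.ncard_le_ncard ?_ (Set.toFinite _)
    rintro Q hQ
    obtain ⟨z, hz, rfl⟩ := Finset.mem_image.1 (Finset.mem_coe.1 hQ)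
    have hzz : B₀ z z = B₀ u u := (Finset.mem_filter.1 hz).2
    obtain ⟨hnd, hrk⟩ := nd_inf_ker (nd_top (hF := hF)) Submodule.mem_top (hzz ▸ hu : B₀ z z ≠ 0)
    rw [finrank_top, finrank_fin_fun] at hrk
    obtain ⟨e, he, hee⟩ := exists_aniso_nd hnd (by have := D.dim; omega)
    obtain ⟨g, -, hg⟩ := exists_trans D.C ⊥ (a := u) (b := z)
      (by rw [Submodule.mem_bot]; exact fun e => hu (by rw [e]; simp))
      (by rw [Submodule.mem_bot]; exact fun e => hu (by rw [← hzz, e]; simp))
      (fun x hx => by rw [(Submodule.mem_bot F).1 hx]; simp) hzz.symm hee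
      (fun x hx => by rw [(Submodule.mem_bot F).1 hx, map_zero]) (symm_zero he.2)
    refine ⟨g, Subgroup.mem_top _, ?_⟩
    show (Submodule.span F ({u} : Set Vn)).map (g.1 : Vn →ₗ[F] Vn) = _
    rw [LinearMap.map_span, Set.image_singleton]
    show Submodule.span F {g.1 u} = _
    rw [hg]
  have hfib : A.card ≤ (q + 1) * (A.image fun x => Submodule.span F ({x} : Set Vn)).card := by
    refine Finset.card_le_mul_card_image _ _ fun Q hQ => ?_
    obtain ⟨z, hz, rfl⟩ := Finset.mem_image.1 hQ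
    have hzz : B₀ z z = B₀ u u := (Finset.mem_filter.1 hz).2
    refine le_trans (Finset.card_le_card
      (t := (Polynomial.nthRoots (q + 1) (1 : F)).toFinset.image fun k => k • z) ?_) ?_
    · intro w hw
      obtain ⟨hw, he⟩ := Finset.mem_filter.1 hw
      obtain ⟨k, rfl⟩ : ∃ k : F, k • z = w := Submodule.mem_span_singleton.1
        (he ▸ Submodule.mem_span_singleton_self w)
      refine Finset.mem_image.2 ⟨k, ?_, rfl⟩
      rw [Multiset.mem_toFinset, Polynomial.mem_nthRoots (by omega)]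
      have hkk := (Finset.mem_filter.1 hw).2
      simp only [map_smul, LinearMap.map_smulₛₗ, LinearMap.smul_apply, smul_eq_mul, hzz, frob_apply] at hkk
      rw [← mul_assoc] at hkk
      rw [pow_succ, mul_comm]
      exact (mul_eq_right₀ hu).1 hkk
    · exact Finset.card_image_le.trans ((Multiset.toFinset_card_le _).trans (Polynomial.card_nthRoots _ _))
  have h := S.bound'
  have h2 := hfib.trans (Nat.mul_le_mul_left _ himg)
  rw [mul_comm] at h2
  omega

/-- A subgroup of small index fixes no hyperbolic plane. -/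
theorem Frame.no_plane {H : Subgroup Sg} (S : Small H)
    (hP : ∀ g ∈ H, (Submodule.span F ({v, v'} : Set Vn)).map (g.1 : Vn →ₗ[F] Vn) = Submodule.span F {v, v'}) :
    False := by
  classical
  have hq := two_le hF
  set A := (Finset.univ.filter fun x : Vn => B₀ x x = 0).erase 0
  have hA : A.card + 1 = Herm.N F q n (0 : F) := by
    rw [Finset.card_erase_add_one (Finset.mem_filter.2 ⟨Finset.mem_univ _, by simp⟩),
      ← card_norm_vectors (nd_top (hF := hF)) (finrank_top F Vn ▸ finrank_fin_fun F) 0,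
      Nat.card_eq_fintype_card, Fintype.card_subtype]
    simp
  set Bf : Vn → Finset Vn := fun e => Finset.univ.filter fun f : Vn => B₀ f f = 0 ∧ B₀ e f = 1
  have hBf : ∀ e ∈ A, q ^ (2 * n - 3) ≤ (Bf e).card := fun e he => by
    obtain ⟨he0, he⟩ := Finset.mem_erase.1 he
    refine (D.card_partners (Finset.mem_filter.1 he).2 he0).trans (le_of_eq ?_)
    rw [← Set.ncard_coe_finset]; simp [Bf]
  have hpairs : A.card * q ^ (2 * n - 3) ≤ (A.sigma Bf).card := by
    rw [Finset.card_sigma, ← smul_eq_mul]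
    exact Finset.card_nsmul_le_sum _ _ _ hBf
  set f : ((_ : Vn) × Vn) → Submodule F Vn := fun p => Submodule.span F ({p.1, p.2} : Set Vn)
  have hn1 : ∀ a b : Vn, B₀ a a = 0 → B₀ b b = 0 → B₀ a b = 1 →
      a ∉ Submodule.span F {b} ∧ b ∉ Submodule.span F {a} := fun a b ha hb hab => by
    constructor <;> intro hm <;> obtain ⟨t, rfl⟩ := Submodule.mem_span_singleton.1 hm
    · rw [LinearMap.map_smulₛₗ, LinearMap.smul_apply, hb, smul_zero] at hab; exact zero_ne_one hab
    · rw [map_smul, ha, smul_zero] at hab; exact zero_ne_one hab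
  have hfib : (A.sigma Bf).card ≤ q ^ 8 * ((A.sigma Bf).image f).card := by
    refine Finset.card_le_mul_card_image _ _ fun Q hQ => ?_
    obtain ⟨⟨x, y⟩, hp, rfl⟩ := Finset.mem_image.1 hQ
    obtain ⟨hp1, hp2⟩ := Finset.mem_sigma.1 hp
    set Pf := Finset.univ.filter fun w : Vn => w ∈ f ⟨x, y⟩
    refine le_trans (Finset.card_le_card (t := Pf.sigma fun _ => Pf) ?_) ?_
    · rintro ⟨x', y'⟩ hp'
      obtain ⟨-, hPe⟩ := Finset.mem_filter.1 hp'
      refine Finset.mem_sigma.2 ⟨Finset.mem_filter.2 ⟨Finset.mem_univ _, ?_⟩,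
        Finset.mem_filter.2 ⟨Finset.mem_univ _, ?_⟩⟩
      · rw [← hPe]; exact Submodule.subset_span (by simp)
      · rw [← hPe]; exact Submodule.subset_span (by simp)
    · have hPc : Pf.card ≤ q ^ 4 := by
        rw [← Fintype.card_subtype, ← Nat.card_eq_fintype_card, Module.natCard_eq_pow_finrank (K := F), card_F hF,
          ← pow_mul]
        refine Nat.pow_le_pow_right (by omega) ?_
        have := finrank_span_finset_le_card (R := F) ({x, y} : Finset Vn)
        rw [Finset.coe_pair] at this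
        have := this.trans Finset.card_le_two
        show 2 * finrank F ↥(Submodule.span F ({x, y} : Set Vn)) ≤ 4
        change finrank F ↥(Submodule.span F ({x, y} : Set Vn)) ≤ 2 at this
        omega
      rw [Finset.card_sigma, Finset.sum_const, smul_eq_mul, show q ^ 8 = q ^ 4 * q ^ 4 by ring]
      exact Nat.mul_le_mul hPc hPc
  have himage : ((A.sigma Bf).image f).card ≤ H.index := by
    refine le_trans ?_ (img_card_le_index H hP)
    rw [Nat.card_coe_set_eq, ← Set.ncard_coe_finset]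
    refine Set.ncard_le_ncard ?_ (Set.toFinite _)
    rintro Q hQ
    obtain ⟨⟨x, y⟩, hp, rfl⟩ := Finset.mem_image.1 (Finset.mem_coe.1 hQ)
    obtain ⟨hp1, hp2⟩ := Finset.mem_sigma.1 hp
    have hxx := (Finset.mem_filter.1 (Finset.mem_erase.1 hp1).2).2
    obtain ⟨hyy, hxy⟩ := (Finset.mem_filter.1 hp2).2
    obtain ⟨t, ht, k, l, hk, hl, htv, htv'⟩ := Big.exists_map_lines D.C D.hv D.hv' hxx hyy
      (hn1 v v' D.hv D.hv' D.pair).1 (hn1 v v' D.hv D.hv' D.pair).2 (hn1 x y hxx hyy hxy).1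
      (hn1 x y hxx hyy hxy).2 (by rw [D.pair, hxy])
    refine ⟨⟨t, ht⟩, Subgroup.mem_top _, ?_⟩
    show (Submodule.span F ({v, v'} : Set Vn)).map (t : Vn →ₗ[F] Vn) = Submodule.span F {x, y}
    rw [Submodule.span_insert, Submodule.map_sup, LinearMap.map_span, LinearMap.map_span, Set.image_singleton,
      Set.image_singleton]
    show Submodule.span F {t v} ⊔ Submodule.span F {t v'} = _
    rw [htv, htv', Submodule.span_singleton_smul_eq (Ne.isUnit hk), Submodule.span_singleton_smul_eq (Ne.isUnit hl),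
      ← Submodule.span_insert]
  have h := S.bound
  have hA0 : 0 < A.card := by
    refine Finset.card_pos.2 ⟨v, Finset.mem_erase.2 ⟨D.ne_zero, Finset.mem_filter.2 ⟨Finset.mem_univ _, D.hv⟩⟩⟩
  have h7 : q ^ 8 ≤ (q ^ 2 - 1) * q ^ (2 * n - 3) := by
    have h4 : q ≤ q ^ 2 - 1 := by
      have : 2 * q ≤ q ^ 2 := by nlinarith
      omega
    calc q ^ 8 = q * q ^ 7 := by ring
      _ ≤ _ := Nat.mul_le_mul h4 (Nat.pow_le_pow_right (by omega) (by have := D.dim; omega))
  have e1 : A.card * q ^ 8 ≤ (q ^ 2 - 1) * H.index * q ^ 8 :=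
    calc A.card * q ^ 8 ≤ A.card * ((q ^ 2 - 1) * q ^ (2 * n - 3)) := Nat.mul_le_mul_left _ h7
      _ = (q ^ 2 - 1) * (A.card * q ^ (2 * n - 3)) := by ring
      _ ≤ (q ^ 2 - 1) * (q ^ 8 * H.index) :=
          Nat.mul_le_mul_left _ (hpairs.trans (hfib.trans (Nat.mul_le_mul_left _ himage)))
      _ = _ := by ring
  have := Nat.le_of_mul_le_mul_right e1 (by positivity)
  rw [mul_comm] at this
  omega

/-- Not all isotropic vectors of the orthogonal space are good. -/
theorem Frame.spread {H : Subgroup Sg} (S : Small H) (hR : D.rsub H ≠ skew hF)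
    (hW : ∀ x ∈ D.W, B₀ x x = 0 → Good H x) : False := by
  classical
  haveI := finite_sg hF (n := n)
  have hbad : ¬ Good H v := fun e => hR ((D.good_iff H).2 e)
  have hpl : ∀ x y : Vn, ∀ α : F, x ∈ D.W → y ∈ D.W →
      B₀ (x + α • v + v') y = B₀ x y := fun x y α hx hy => by
    simp [D.W_v hy, D.W_v' hy]
  -- no good vector with zero coefficient at the partner
  have hzero : ∀ z, B₀ z z = 0 → Good H z → B₀ v z = 0 → B₀ v' z = 0 := by
    intro z hz hg h0
    by_contra hne
    obtain ⟨x, hx, e⟩ := D.decomp z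
    rw [h0, zero_smul, add_zero] at e
    set α := B₀ v' z
    have hxx : B₀ x x = 0 := by
      rw [e] at hz
      simpa [D.W_v hx, D.v_W hx, D.hv] using hz
    have h := D.line_good S hz hxx (by rw [e]; simp [hxx, D.W_v hx]) hg (hW x hx hxx) (-1)
    rw [show z + (-1 : F) • x = α • v by rw [e]; module] at h
    exact hbad (by simpa [inv_smul_smul₀ hne] using h.smul D.C (by simp [D.hv]) α⁻¹)
  have hshift : ∀ x p : Vn, ∀ α k : F, x ∈ D.W → p ∈ D.W → B₀ (x + α • v + v') (x + α • v + v') = 0 →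
      Good H (x + α • v + v') → B₀ p p = 0 → B₀ x p = 0 →
      B₀ (x + k • p + α • v + v') (x + k • p + α • v + v') = 0 ∧ Good H (x + k • p + α • v + v') := by
    intro x p α k hx hp hz hg hpp hxp
    have e : x + k • p + α • v + v' = (x + α • v + v') + k • p := by abel
    have hzp : B₀ (x + α • v + v') p = 0 := (hpl x p α hx hp).trans hxp
    rw [e]
    refine ⟨?_, D.line_good S hz hpp hzp hg (hW p hp hpp) k⟩
    simp only [map_add, LinearMap.add_apply, map_smul, LinearMap.map_smulₛₗ, LinearMap.smul_apply, smul_eq_mul]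
      at hz hzp ⊢
    have hpz := symm_zero ((hpl x p α hx hp).trans hxp)
    simp only [map_add, LinearMap.add_apply, map_smul, smul_eq_mul] at hpz
    linear_combination hz + k * hzp + σ₀ k * hpz + (σ₀ k * k) * hpp
  -- two good vectors with different coefficients
  let G : Vn → F → Prop := fun x α => x ∈ D.W ∧ B₀ (x + α • v + v') (x + α • v + v') = 0 ∧ Good H (x + α • v + v')
  have hadj : ∀ x1 x2 α1 α2, G x1 α1 → G x2 α2 → α1 ≠ α2 → ∀ p ∈ D.W, B₀ p p = 0 → B₀ x2 p = 0 →
      B₀ x1 p ≠ 0 → False := by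
    rintro x1 x2 α1 α2 ⟨hx1, hz1, hg1⟩ ⟨hx2, hz2, hg2⟩ hne p hp hpp hp2 hp1
    set z1 := x1 + α1 • v + v' with hz1def
    set z2 := x2 + α2 • v + v' with hz2def
    set k := -B₀ z1 z2 / B₀ x1 p with hk
    obtain ⟨hz3, hg3⟩ := hshift x2 p α2 k hx2 hp hz2 hg2 hpp hp2
    set z3 := x2 + k • p + α2 • v + v' with hz3def
    have h13 : B₀ z1 z3 = 0 := by
      rw [show z3 = z2 + k • p by rw [hz3def, hz2def]; abel, map_add, map_smul, hz1def, hpl x1 p α1 hx1 hp,
        ← hz1def, smul_eq_mul, hk, div_mul_cancel₀ _ hp1, add_neg_cancel]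
    have h31 := symm_zero h13
    have h := D.line_good S hz1 hz3 h13 hg1 hg3 (-1)
    have hiso : B₀ (z1 + (-1 : F) • z3) (z1 + (-1 : F) • z3) = 0 := by
      simp [hz1, hz3, h13, h31]
    have h0 := hzero _ hiso h (by
      simp [hz1def, hz3def, D.W_v hx1, D.W_v hx2, D.W_v hp, D.hv, D.pair])
    simp [hz1def, hz3def, D.W_v' hx1, D.W_v' hx2, D.W_v' hp, D.hv', D.pair'] at h0
    exact hne (by linear_combination h0)
  have hmixed : ∀ x1 x2 α1 α2, G x1 α1 → G x2 α2 → α1 ≠ α2 → False := by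
    have hiso2 : ∀ x1 x2 α1 α2, G x1 α1 → G x2 α2 → α1 ≠ α2 → B₀ x2 x2 = 0 → False := by
      intro x1 x2 α1 α2 g1 g2 hne h22
      have g0 : G 0 α2 := by
        obtain ⟨hx2, hz2, hg2⟩ := g2
        have := hshift x2 x2 α2 (-1) hx2 hx2 hz2 hg2 h22 h22
        rw [show x2 + (-1 : F) • x2 = 0 by module] at this
        exact ⟨zero_mem _, this⟩
      obtain ⟨y, hy0, hy⟩ : ∃ y, y ≠ 0 ∧ G y α1 := by
        by_cases hx10 : x1 = 0
        · obtain ⟨y, hy, hy0, hyy⟩ := exists_iso_ne_zero D.C.ne_id D.C.invol D.C.symm D.W D.two_le_finrank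
          subst hx10
          have := hshift 0 y α1 1 g1.1 hy g1.2.1 g1.2.2 hyy (by simp)
          rw [zero_add, one_smul] at this
          exact ⟨y, hy0, hy, this⟩
        · exact ⟨x1, hx10, g1⟩
      obtain ⟨p, hp, hpp, hyp⟩ := exists_iso_pair D.C D.nd_W D.two_le_finrank
        (fun h => hy0 (D.nd_W y hy.1 fun x hx => symm_zero (h x hx)))
      exact hadj y 0 α1 α2 hy g0 hne p hp hpp (by simp) hyp
    have hindep : ∀ x1 x2 α1 α2, G x1 α1 → G x2 α2 → α1 ≠ α2 → B₀ x2 x2 ≠ 0 →
        x1 ∉ Submodule.span F {x2} → False := by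
      intro x1 x2 α1 α2 g1 g2 hne h22 hnot
      obtain ⟨hnd, hrk⟩ := nd_inf_ker D.nd_W g2.1 h22
      rw [D.finrank_W] at hrk
      have := D.dim
      obtain ⟨p, hp, hpp, hp1⟩ := exists_iso_pair D.C hnd (by omega) (a := x1) (fun h => by
        refine hnot (Submodule.mem_span_singleton.2 ⟨B₀ x2 x1 / B₀ x2 x2, ?_⟩)
        set r := x1 - (B₀ x2 x1 / B₀ x2 x2) • x2 with hr
        have hrW : r ∈ D.W := sub_mem g1.1 (Submodule.smul_mem _ _ g2.1)
        have hr2 : B₀ x2 r = 0 := by rw [hr, map_sub, map_smul, smul_eq_mul, div_mul_cancel₀ _ h22, sub_self]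
        have h0 : r = 0 := hnd r ⟨hrW, hr2⟩ fun x hx => by
          rw [hr, map_sub, map_smul, symm_zero (h x hx), symm_zero (show B₀ x2 x = 0 from hx.2), smul_zero,
            sub_zero]
        exact (sub_eq_zero.1 h0).symm)
      exact hadj x1 x2 α1 α2 g1 g2 hne p hp.1 hpp hp.2 hp1
    intro x1 x2 α1 α2 g1 g2 hne
    by_cases h22 : B₀ x2 x2 = 0
    · exact hiso2 x1 x2 α1 α2 g1 g2 hne h22
    by_cases h11 : B₀ x1 x1 = 0
    · exact hiso2 x2 x1 α2 α1 g2 g1 hne.symm h11
    by_cases hnot : x1 ∈ Submodule.span F {x2}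
    · -- move the second vector by a transvection
      obtain ⟨w, hw, hww, hw2⟩ := exists_iso_pair D.C D.nd_W D.two_le_finrank (a := x2)
        (fun h => h22 (h x2 g2.1))
      obtain ⟨l, hl0, hl⟩ := exists_trace_zero D.C.ne_id D.C.invol
      have hx0 : B₀ w x2 ≠ 0 := fun h => hw2 (symm_zero h)
      set k := l * B₀ w x2
      have hk0 : k ≠ 0 := mul_ne_zero hl0 hx0
      have e : (el hF w 0 l).1 (x2 + α2 • v + v') = x2 + k • w + α2 • v + v' := by
        rw [el_zero_apply D.C hww hl, show B₀ w (x2 + α2 • v + v') = B₀ w x2 by simp [D.v_W hw, D.v'_W hw]]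
        abel
      have g3 : G (x2 + k • w) α2 := ⟨add_mem g2.1 (Submodule.smul_mem _ _ hw),
        by rw [← e, sg_form D.C]; exact g2.2.1, e ▸ g2.2.2.map D.C g2.2.1 (hW w hw hww l hl)⟩
      have hn : B₀ (x2 + k • w) (x2 + k • w) = B₀ x2 x2 := by
        have h := sg_form D.C (el hF w 0 l) x2 x2
        rwa [el_zero_apply D.C hww hl] at h
      refine hindep x1 _ α1 α2 g1 g3 hne (hn ▸ h22) fun hm => ?_
      obtain ⟨c, hc⟩ := Submodule.mem_span_singleton.1 hnot
      obtain ⟨d, hd⟩ := Submodule.mem_span_singleton.1 hm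
      rcases eq_or_ne d 0 with rfl | hd0
      · rw [zero_smul] at hd; exact h11 (by rw [← hd]; simp)
      have e3 : w = ((c - d) / (d * k)) • x2 := by
        have e4 : (d * k) • w = (c - d) • x2 := by
          rw [sub_smul, hc, ← hd, smul_add, smul_smul, add_sub_cancel_left]
        rw [div_eq_inv_mul, ← smul_smul, ← e4, inv_smul_smul₀ (mul_ne_zero hd0 hk0)]
      rw [e3] at hww
      simp only [map_smul, LinearMap.map_smulₛₗ, LinearMap.smul_apply, smul_eq_mul, mul_eq_zero, or_iff_left h22,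
        map_eq_zero, or_self] at hww
      rw [e3, hww, zero_smul] at hx0
      exact hx0 (by simp)
    · exact hindep x1 x2 α1 α2 g1 g2 hne h22 hnot
  -- the span of the good vectors is invariant and proper
  set Γ := {z : Vn | B₀ z z = 0 ∧ Good H z}
  set U := Submodule.span F Γ with hUdef
  have hnorm : ∀ z ∈ Γ, B₀ v z ≠ 0 → ∃ x, G x (B₀ v' z / B₀ v z) := by
    rintro z ⟨hz, hg⟩ hb
    obtain ⟨x, hx, e⟩ := D.decomp z
    refine ⟨(B₀ v z)⁻¹ • x, Submodule.smul_mem _ _ hx, ?_⟩
    have e' : (B₀ v z)⁻¹ • x + (B₀ v' z / B₀ v z) • v + v' = (B₀ v z)⁻¹ • z := by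
      conv_rhs => arg 2; rw [e]
      rw [smul_add, smul_add, smul_smul, smul_smul, inv_mul_cancel₀ hb, one_smul, div_eq_inv_mul]
    rw [e']
    exact ⟨by simp [hz], hg.smul D.C hz _⟩
  obtain ⟨α0, hα0⟩ : ∃ α0 : F, ∀ z ∈ Γ, B₀ v' z = α0 * B₀ v z := by
    by_cases hex : ∃ z ∈ Γ, B₀ v z ≠ 0
    · obtain ⟨z0, hz0, hb0⟩ := hex
      refine ⟨B₀ v' z0 / B₀ v z0, fun z hz => ?_⟩
      by_cases hb : B₀ v z = 0
      · rw [hb, mul_zero, hzero z hz.1 hz.2 hb]
      · obtain ⟨x0, g0⟩ := hnorm z0 hz0 hb0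
        obtain ⟨x, g⟩ := hnorm z hz hb
        by_contra hne
        refine hmixed x0 x _ _ g0 g fun e => hne ?_
        rw [e, div_mul_cancel₀ _ hb]
    · push Not at hex
      exact ⟨0, fun z hz => by rw [zero_mul, hzero z hz.1 hz.2 (hex z hz)]⟩
  have hUker : U ≤ LinearMap.ker (B₀ v' - α0 • B₀ v) := Submodule.span_le.2 fun z hz => by
    simp [hα0 z hz]
  have hvU : v ∉ U := fun h => by
    have := hUker h
    simp [D.pair', D.hv] at this
  have hWU : D.W ≤ U := le_trans (nd_iso_span D.C D.nd_W D.two_le_finrank)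
    (Submodule.span_mono fun w hw => ⟨hw.2, hW w hw.1 hw.2⟩)
  have hinv : ∀ g ∈ H, U.map (g.1 : Vn →ₗ[F] Vn) = U := by
    intro g hg
    refine Submodule.eq_of_le_of_finrank_eq ?_ (LinearEquiv.finrank_map_eq g.1 U)
    rw [hUdef, Submodule.map_span, Submodule.span_le]
    rintro _ ⟨z, hz, rfl⟩
    exact Submodule.subset_span ⟨(sg_form D.C g z z).trans hz.1, hz.2.map D.C hz.1 hg⟩
  set P := perp hF U with hPdef
  have hPinv : ∀ g ∈ H, P.map (g.1 : Vn →ₗ[F] Vn) = P := by
    intro g hg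
    refine Submodule.eq_of_le_of_finrank_eq ?_ (LinearEquiv.finrank_map_eq g.1 P)
    rintro _ ⟨y, hy, rfl⟩ u hu
    rw [← hinv g hg] at hu
    obtain ⟨u', hu', rfl⟩ := hu
    exact (sg_form D.C g u' y).trans (hy u' hu')
  have hdim := finrank_perp hF U
  rw [← hPdef] at hdim
  have hU1 : n - 2 ≤ finrank F U := D.finrank_W ▸ Submodule.finrank_mono hWU
  have hU2 : finrank F U < n := by
    have h := Submodule.finrank_lt (fun h : U = ⊤ => hvU (h ▸ Submodule.mem_top))
    rwa [finrank_fin_fun] at h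
  have hplane : P ≤ Submodule.span F ({v, v'} : Set Vn) := fun y hy => by
    obtain ⟨w, hw, e⟩ := D.decomp y
    have hw0 : w = 0 := D.nd_W w hw fun x hx => by
      have h := hy x (hWU hx)
      rw [e] at h
      simpa [D.v_W hx, D.v'_W hx] using h
    rw [hw0, zero_add] at e
    exact Submodule.mem_span_pair.2 ⟨_, _, e.symm⟩
  have hPle : finrank F P ≤ 2 := by
    refine (Submodule.finrank_mono hplane).trans ?_
    have := finrank_span_finset_le_card (R := F) ({v, v'} : Finset Vn)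
    rw [Finset.coe_pair] at this
    exact this.trans Finset.card_le_two
  have := D.dim
  rcases (show finrank F P = 1 ∨ finrank F P = 2 by omega) with h1 | h2
  · obtain ⟨u, hu, hu0⟩ : ∃ u ∈ P, u ≠ 0 := Submodule.exists_mem_ne_zero_of_ne_bot fun e => by
      rw [e, finrank_bot] at h1; omega
    have hPu : Submodule.span F ({u} : Set Vn) = P := Submodule.eq_of_le_of_finrank_eq
      ((Submodule.span_singleton_le_iff_mem _ _).2 hu) (by rw [finrank_span_singleton hu0, h1])
    rw [← hPu] at hPinv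
    by_cases huu : B₀ u u = 0
    · exact D.no_iso_line S huu hu0 hPinv
    · exact D.no_aniso_line S huu hPinv
  · have hPv : P = Submodule.span F ({v, v'} : Set Vn) := Submodule.eq_of_le_of_finrank_le hplane (by
      have := finrank_span_finset_le_card (R := F) ({v, v'} : Finset Vn)
      rw [Finset.coe_pair] at this
      have := this.trans Finset.card_le_two
      rw [h2]
      exact this)
    rw [hPv] at hPinv
    exact D.no_plane S hPinv

/-- A point which is not good gives a contradiction. -/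
theorem Frame.small_false {H : Subgroup Sg} (S : Small H) (hR : D.rsub H ≠ skew hF) : False := by
  rcases (show q = 2 ∨ 3 ≤ q by have := two_le hF; omega) with hq | hq
  · obtain ⟨H', S', hR', hW⟩ := D.good_all_two S hR hq
    exact D.spread S' hR' hW
  · obtain ⟨H', S', hR', hW⟩ := D.good_all_ge_three S hR hq
    exact D.spread S' hR' hW

end Cfsg.Lib.Linear.MinIndexU
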