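import Cfsg.Agent.Lib.Linear.MinIndexU.Six

/-!
# A non-trivial image of the intersection with the radical, in dimension five
-/

set_option autoImplicit false
set_option linter.unusedSectionVars false

namespace Cfsg.Lib.Linear.MinIndexU

open Module
open Cfsg.Lib.Linear Cfsg.Lib.Linear.Herm
open Cfsg.Lib.Linear.MinIndexSp (img card_img_le_of_stable)

variable {F : Type*} [Field F] [Fintype F] {q n : ℕ} {hF : Fintype.card F = q ^ 2}

local notation "Vn" => Fin n → F
local notation "B₀" => hB hF n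
local notation "σ₀" => frob hF
local notation "Sg" => SUg hF n

theorem arith_nd {q s T : ℕ} (hq : 2 ≤ q) (hsq : s ≤ q ^ 3) (hT : T ≤ s)
    (h : s = q ^ 3 → T + 2 * q ≤ q ^ 3) (h' : s ≠ q ^ 3 → 2 * s ≤ q ^ 3) :
    s * T * (q ^ 4 + 1) ≤ (q ^ 3 + 1) * (q ^ 2 - 1) * (q ^ 2 - 1) * q ^ 3 := by
  obtain ⟨w, rfl⟩ : ∃ w, q = w + 2 := ⟨q - 2, by omega⟩
  obtain ⟨t, ht⟩ : ∃ t, (w + 2) ^ 2 = t + 1 := ⟨(w + 2) ^ 2 - 1, by
    have : 1 ≤ (w + 2) ^ 2 := Nat.one_le_pow _ _ (by omega); omega⟩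
  rw [ht, Nat.add_sub_cancel]
  have h3 : 3 ≤ t := by nlinarith
  have e4 : (w + 2) ^ 4 + 1 = (t + 1) * (t + 1) + 1 := by rw [← ht]; ring
  rcases eq_or_ne s ((w + 2) ^ 3) with rfl | hne
  · have hh := h rfl
    rw [mul_assoc, mul_comm _ ((w + 2) ^ 3)]
    refine Nat.mul_le_mul_left _ ?_
    have hw : w + 2 ≤ t := by nlinarith
    nlinarith [Nat.mul_le_mul_right ((w + 2) ^ 4 + 1) hh, Nat.mul_le_mul (le_refl t) h3]
  · have hh := h' hne
    have hA : (t + 1) * (t + 1) + 1 ≤ 2 * (t * t) := by nlinarith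
    calc s * T * ((w + 2) ^ 4 + 1) ≤ s * s * (2 * (t * t)) := Nat.mul_le_mul (Nat.mul_le_mul_left _ hT) (e4 ▸ hA)
      _ = 2 * s * (s * (t * t)) := by ring
      _ ≤ (w + 2) ^ 3 * (((w + 2) ^ 3 + 1) * (t * t)) := Nat.mul_le_mul hh (Nat.mul_le_mul_right _ (by omega))
      _ = _ := by ring

variable {v v' : Fin n → F} (D : Frame hF n v v')
include D

theorem Frame.mem_plane_sup {a b x : Vn} (h : x ∈ Submodule.span F ({b} : Set Vn) ⊔ Submodule.span F {a}) :
    ∃ s t : F, x = s • b + t • a := by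
  obtain ⟨p, hp, r, hr, rfl⟩ := Submodule.mem_sup.1 h
  obtain ⟨s, rfl⟩ := Submodule.mem_span_singleton.1 hp
  obtain ⟨t, rfl⟩ := Submodule.mem_span_singleton.1 hr
  exact ⟨s, t, rfl⟩

theorem Frame.plane_le {a b : Vn} (ha : a ∈ D.W) (hb : b ∈ D.W) :
    Submodule.span F ({b} : Set Vn) ⊔ Submodule.span F {a} ≤ D.W :=
  sup_le ((Submodule.span_singleton_le_iff_mem _ _).2 hb) ((Submodule.span_singleton_le_iff_mem _ _).2 ha)

/-- Isotropic vectors of the image with a non-zero product, in dimension five. -/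
theorem Frame.iso_false_three {H : Subgroup Sg} (S : Small H) (hR : D.rsub H ≠ skew hF) (hn : n = 5) {a b : Vn}
    (ha : a ∈ D.sbar H) (hb : b ∈ D.sbar H) (hall : ∀ x ∈ D.sbar H, B₀ x x = 0) (hab : B₀ a b ≠ 0) : False := by
  classical
  have hq := two_le hF
  have haa := hall a ha
  have hbb := hall b hb
  have ha0 : a ≠ 0 := fun e => hab (by rw [e]; simp)
  have hba : b ∉ Submodule.span F {a} := fun h => by
    obtain ⟨t, rfl⟩ := Submodule.mem_span_singleton.1 h
    exact hab (by rw [map_smul, haa, smul_zero])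
  have hba' : B₀ b a ≠ 0 := fun h => hab (symm_zero h)
  set P := Submodule.span F ({b} : Set Vn) ⊔ Submodule.span F {a} with hP
  have hrk : finrank F P = 2 := by
    rw [hP, sup_comm, Submodule.finrank_sup_span_singleton hba, finrank_span_singleton ha0]
  have hskew : ∀ x ∈ D.sbar H, ∀ y ∈ D.sbar H, B₀ x y + B₀ y x = 0 := fun x hx y hy => by
    have h := hall (x + y) (add_mem hx hy)
    simp only [map_add, LinearMap.add_apply, hall x hx, hall y hy, zero_add, add_zero] at h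
    linear_combination h
  have hsub : ∀ c ∈ D.sbar H, c ∈ P := by
    intro c hc
    by_contra hcP
    set y := B₀ b c • a + B₀ c a • b + B₀ a b • c with hy
    have hya : B₀ a y = 0 := by
      simp [hy, haa]
      linear_combination (B₀ a b) * hskew c hc a ha
    have hyb : B₀ b y = 0 := by
      simp [hy, hbb]
      linear_combination (B₀ b c) * hskew a ha b hb
    have hyc : B₀ c y = 0 := by
      simp [hy, hall c hc]
      linear_combination (B₀ c a) * hskew b hb c hc
    have hle : P ⊔ Submodule.span F {c} ≤ D.W :=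
      sup_le (D.plane_le ha.1 hb.1) ((Submodule.span_singleton_le_iff_mem _ _).2 hc.1)
    have heq : P ⊔ Submodule.span F {c} = D.W := Submodule.eq_of_le_of_finrank_eq hle (by
      rw [Submodule.finrank_sup_span_singleton hcP, hrk, D.finrank_W, hn])
    have hyW : y ∈ D.W := add_mem (add_mem (Submodule.smul_mem _ _ ha.1) (Submodule.smul_mem _ _ hb.1))
      (Submodule.smul_mem _ _ hc.1)
    have hy0 : y = 0 := D.nd_W y hyW fun x hx => by
      rw [← heq] at hx
      obtain ⟨p, hp, r, hr, rfl⟩ := Submodule.mem_sup.1 hx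
      obtain ⟨s, t, rfl⟩ := D.mem_plane_sup hp
      obtain ⟨u, rfl⟩ := Submodule.mem_span_singleton.1 hr
      simp [hya, hyb, hyc]
    refine hcP ?_
    rw [show c = (B₀ a b)⁻¹ • (y - (B₀ b c • a + B₀ c a • b)) by
      rw [hy, add_sub_cancel_left, smul_smul, inv_mul_cancel₀ hab, one_smul], hy0, zero_sub]
    exact Submodule.smul_mem _ _ (neg_mem (add_mem
      (Submodule.smul_mem _ _ (Submodule.mem_sup_right (Submodule.mem_span_singleton_self a)))
      (Submodule.smul_mem _ _ (Submodule.mem_sup_left (Submodule.mem_span_singleton_self b)))))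
  have hnd : Nd hF P := by
    intro w hw h
    obtain ⟨s, t, rfl⟩ := D.mem_plane_sup hw
    have e1 := h a (Submodule.mem_sup_right (Submodule.mem_span_singleton_self a))
    have e2 := h b (Submodule.mem_sup_left (Submodule.mem_span_singleton_self b))
    simp [haa, hbb, hab, hba'] at e1 e2
    simp [e1, e2]
  have hs2 : Nat.card (D.sbar H) ≤ q ^ 2 := by
    have h := D.sbar_sq_le hR hnd le_rfl hsub
    rw [show Nat.card P = q ^ 2 * q ^ 2 by rw [Module.natCard_eq_pow_finrank (K := F), hrk, card_F hF, sq]] at h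
    exact Nat.mul_self_le_mul_self_iff.1 h
  have h1 := D.orbit_two (H := H) (c := q ^ (2 * (n - 4) + 1)) ha.1 hb.1 ha0 hba
    (fun a' b' h1 h2 h3 h4 _ => D.exists_aniso_two h1 h2 (Or.inr (Or.inr (by
      rw [h3, haa, zero_mul, h4, form_symm a' b', h4, ← form_symm]
      exact (mul_ne_zero hab hba').symm))))
    (fun a' h1 h2 h3 => D.count_iso h1 (h3.trans haa) h2 hab (self_fixed' b))
    (D.pairs_stable ha ha0 hb)
  refine D.key S hR ?_
  have h2 := D.le_card_class (self_fixed' a)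
  have h3 := D.pairs_half H a b (Or.inr hab)
  subst_vars
  have hs : 0 < Nat.card (D.sbar H) := Nat.card_pos
  set s := Nat.card (D.sbar H)
  refine final_arith hs (c := 2 * ((q ^ 2 - 1) * q ^ (2 * (5 - 2) - 3) * q ^ (2 * (5 - 4) + 1))) (T := s * s)
    (by positivity) ?_ ?_
  · calc 2 * ((q ^ 2 - 1) * q ^ (2 * (5 - 2) - 3) * q ^ (2 * (5 - 4) + 1))
        ≤ 2 * (D.k0 H * (D.pairs H a b).ncard) := Nat.mul_le_mul_left _ ((Nat.mul_le_mul_right _ h2).trans h1)
      _ = D.k0 H * (2 * (D.pairs H a b).ncard) := by ring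
      _ ≤ D.k0 H * ((s - 1) * s) := Nat.mul_le_mul_left _ h3
      _ ≤ D.k0 H * (s * s) := Nat.mul_le_mul_left _ (Nat.mul_le_mul_right _ (Nat.sub_le _ _))
  · norm_num
    have h4 : 4 ≤ q ^ 2 := by nlinarith
    obtain ⟨t, ht⟩ : ∃ t, q ^ 2 = t + 1 := ⟨q ^ 2 - 1, by omega⟩
    have hk : q ^ 5 + q ≤ 2 * (q ^ 2 - 1) * (q ^ 2 - 1) * q ^ 3 := by
      have h2t : q ^ 2 ≤ 2 * (q ^ 2 - 1) := by omega
      have hq5 : q ≤ q ^ 5 := Nat.le_self_pow (by norm_num) q
      calc q ^ 5 + q ≤ 2 * q ^ 5 := by omega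
        _ ≤ 3 * q ^ 5 := by omega
        _ = q ^ 2 * 3 * q ^ 3 := by ring
        _ ≤ 2 * (q ^ 2 - 1) * (q ^ 2 - 1) * q ^ 3 :=
            Nat.mul_le_mul_right _ (Nat.mul_le_mul h2t (by omega))
    calc s * (s * s) * (q ^ 2 * q ^ 3 + q) ≤ q ^ 2 * (q ^ 2 * q ^ 2) * (q ^ 5 + q) := by
          rw [show q ^ 2 * q ^ 3 = q ^ 5 by ring]
          exact Nat.mul_le_mul_right _ (Nat.mul_le_mul hs2 (Nat.mul_le_mul hs2 hs2))
      _ ≤ q ^ 2 * (q ^ 2 * q ^ 2) * (2 * (q ^ 2 - 1) * (q ^ 2 - 1) * q ^ 3) := Nat.mul_le_mul_left _ hk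
      _ = _ := by ring

/-- The vectors of the image with the norm of an anisotropic one, when the image is as large as possible. -/
theorem Frame.class_bound {H : Subgroup Sg} (hR : D.rsub H ≠ skew hF) {a : Vn} (ha : a ∈ D.sbar H)
    (haa : B₀ a a ≠ 0) (hs : Nat.card (D.sbar H) = q ^ 3) :
    {x : Vn | x ∈ D.sbar H ∧ x ≠ 0 ∧ B₀ x x = B₀ a a}.ncard + 2 * q ≤ q ^ 3 := by
  classical
  have hq := two_le hF
  set T := {x : Vn | x ∈ D.sbar H ∧ x ≠ 0 ∧ B₀ x x = B₀ a a} with hT
  set SS := (D.sbar H : Set Vn) with hSS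
  have hSc : SS.ncard = q ^ 3 := by rw [← hs, ← Nat.card_coe_set_eq]; rfl
  have hTS : T ⊆ SS := fun x hx => hx.1
  -- fibres of additive maps
  have hfib : ∀ (f : D.sbar H →+ F) (c : F), c ≠ 0 → 2 * {x : D.sbar H | f x = c}.ncard ≤ Nat.card (D.sbar H) := by
    intro f c hc
    by_cases hex : ∃ x0, f x0 = c
    · obtain ⟨x0, hx0⟩ := hex
      have h1 : {x : D.sbar H | f x = c}.ncard ≤ Nat.card f.ker := by
        rw [← Nat.card_coe_set_eq]
        refine Nat.card_le_card_of_injective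
          (fun x => (⟨x.1 - x0, by rw [AddMonoidHom.mem_ker, map_sub, x.2, hx0, sub_self]⟩ : f.ker)) ?_
        intro x y h
        exact Subtype.ext (sub_left_inj.1 (congrArg Subtype.val h))
      refine (Nat.mul_le_mul_left _ h1).trans ?_
      rw [← f.ker.card_mul_index, mul_comm 2]
      refine Nat.mul_le_mul_left _ ?_
      have h0 : f.ker.index ≠ 0 := AddSubgroup.index_ne_zero_of_finite
      have hne : f.ker.index ≠ 1 := fun h => hc (by
        have hm : x0 ∈ f.ker := by rw [AddSubgroup.index_eq_one.1 h]; trivial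
        rw [← hx0]; exact hm)
      omega
    · push Not at hex
      rw [show {x : D.sbar H | f x = c} = ∅ from Set.eq_empty_iff_forall_notMem.2 fun x hx => hex x hx,
        Set.ncard_empty]
      exact Nat.zero_le _
  rcases (show q = 2 ∨ 3 ≤ q by omega) with hq2 | hq3
  · -- the central part is trivial and the norm is additive
    have hR0 : ∀ c ∈ D.rsub H, c = 0 := by
      intro c hc
      by_contra hc0
      refine hR (AddSubgroup.eq_of_le_of_card_ge (D.rsub_le H) ?_)
      rw [card_skew]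
      exact le_trans (le_of_eq hq2)
        (Finite.one_lt_card_iff_nontrivial.2 ⟨⟨c, hc⟩, 0, fun h => hc0 (congrArg Subtype.val h)⟩)
    have h2 : (2 : F) = 0 := by
      have h := FiniteField.cast_card_eq_zero F
      rw [hF] at h
      have hc2 : ((q : ℕ) : F) = 2 := by rw [hq2]; norm_num
      have h' : (2 : F) * 2 = 0 := by push_cast at h; rw [hc2] at h; linear_combination h
      exact mul_self_eq_zero.1 h'
    let f : D.sbar H →+ F :=
      { toFun := fun x => B₀ (x : Vn) (x : Vn)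
        map_zero' := by simp
        map_add' := fun x y => by
          have h : B₀ (x : Vn) (y : Vn) = B₀ (y : Vn) (x : Vn) :=
            sub_eq_zero.1 (hR0 _ (D.comm_rsub y.2 x.2))
          simp only [AddSubgroup.coe_add, map_add, LinearMap.add_apply]
          rw [h]
          linear_combination (B₀ (y : Vn) (x : Vn)) * h2 }
    have h := hfib f (B₀ a a) haa
    have hT2 : T.ncard ≤ {x : D.sbar H | f x = B₀ a a}.ncard := by
      rw [← Nat.card_coe_set_eq, ← Nat.card_coe_set_eq]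
      refine Nat.card_le_card_of_injective (fun x => (⟨⟨x.1, x.2.1⟩, x.2.2.2⟩ : {x : D.sbar H | f x = B₀ a a})) ?_
      intro x y h
      exact Subtype.ext (congrArg (fun z : {x : D.sbar H | f x = B₀ a a} => (z.1 : Vn)) h)
    rw [hs] at h
    have h8 : q ^ 3 = 8 := by rw [hq2]; norm_num
    omega
  · by_contra hlt
    let f : D.sbar H →+ F :=
      { toFun := fun x => B₀ a (x : Vn) + B₀ (x : Vn) a
        map_zero' := by simp
        map_add' := fun x y => by simp only [AddSubgroup.coe_add, map_add, LinearMap.add_apply]; ring }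
    have h := hfib f (-B₀ a a) (neg_ne_zero.2 haa)
    rw [hs] at h
    have hBc : (SS \ T).ncard < 2 * q := by
      have := Set.ncard_diff_add_ncard_of_subset hTS (Set.toFinite SS)
      omega
    have hcover : SS ⊆ (SS \ T) ∪ (fun x => x - a) '' (SS \ T) ∪ (fun x : D.sbar H => (x : Vn)) '' {x | f x = -B₀ a a} := by
      intro x hx
      by_cases h1 : x ∈ T
      · by_cases h2 : x + a ∈ T
        · refine Or.inr ⟨⟨x, hx⟩, ?_, rfl⟩
          have e := h2.2.2
          simp only [map_add, LinearMap.add_apply, h1.2.2] at e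
          show B₀ a x + B₀ x a = -B₀ a a
          linear_combination e
        · exact Or.inl (Or.inr ⟨x + a, ⟨add_mem hx ha, h2⟩, add_sub_cancel_right x a⟩)
      · exact Or.inl (Or.inl ⟨hx, h1⟩)
    have hle := (Set.ncard_le_ncard hcover (Set.toFinite _)).trans ((Set.ncard_union_le _ _).trans
      (Nat.add_le_add ((Set.ncard_union_le _ _).trans (Nat.add_le_add le_rfl
        (Set.ncard_image_le (Set.toFinite _)))) (Set.ncard_image_le (Set.toFinite _))))
    have h9 : 9 * q ≤ q ^ 3 := by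
      rw [show q ^ 3 = q ^ 2 * q by ring]
      exact Nat.mul_le_mul_right _ (le_trans (by norm_num) (Nat.pow_le_pow_left hq3 2))
    omega

/-- An anisotropic vector and one spanning a non-degenerate plane with it, in dimension five. -/
theorem Frame.aniso_nd_false {H : Subgroup Sg} (S : Small H) (hR : D.rsub H ≠ skew hF) (hn : n = 5) {a b : Vn}
    (ha : a ∈ D.sbar H) (hb : b ∈ D.sbar H) (haa : B₀ a a ≠ 0)
    (hdet : B₀ a a * B₀ b b ≠ B₀ a b * B₀ b a) : False := by
  classical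
  have hq := two_le hF
  have ha0 : a ≠ 0 := fun e => haa (by rw [e]; simp)
  have hba : b ∉ Submodule.span F {a} := fun h => hdet (by
    obtain ⟨t, rfl⟩ := Submodule.mem_span_singleton.1 h
    simp only [map_smul, LinearMap.map_smulₛₗ, LinearMap.smul_apply, smul_eq_mul]
    ring)
  have hn2 : n - 2 = 3 := by omega
  have hn3 : n - 3 = 2 := by omega
  have hq3 : q ≤ q ^ 3 := Nat.le_self_pow (by norm_num) q
  have h1 := D.orbit_two (H := H) (c := q * (q ^ 2 - 1)) ha.1 hb.1 ha0 hba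
    (fun a' b' h1 h2 h3 h4 h5 => D.exists_aniso_two h1 h2 (Or.inr (Or.inr (by
      rw [h3, h5, h4, form_symm a' b', h4, ← form_symm]; exact hdet))))
    (fun a' h1 h2 h3 => by
      refine le_trans ?_ (D.count_aniso h1 (h3 ▸ haa) (B₀ a b) (B₀ b b))
      have hfix : σ₀ (B₀ b b - σ₀ (B₀ a b) * B₀ a b / B₀ a' a') = B₀ b b - σ₀ (B₀ a b) * B₀ a b / B₀ a' a' := by
        rw [map_sub, map_div₀, map_mul, frob_frob hF, self_fixed', self_fixed', mul_comm]
      have hne : B₀ b b ≠ σ₀ (B₀ a b) * B₀ a b / B₀ a' a' := fun e => hdet (by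
        rw [h3, eq_div_iff haa] at e
        rw [form_symm a b]; linear_combination e)
      rw [hn3, if_neg hne, Nat.sub_zero, Herm.N_eq_N_one hF _ (sub_ne_zero.2 hne) (pow_q_of_fixed hfix)]
      have e1 := (N_values hF 2).2
      have : Herm.N F q 2 (1 : F) + q = q ^ 3 := by
        refine Nat.eq_of_mul_eq_mul_left (show 0 < q by omega) ?_
        zify; linear_combination e1
      rw [Nat.mul_sub, mul_one, ← pow_succ']
      show q ^ 3 - q ≤ _
      omega)
    (D.pairs_stable ha ha0 hb)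
  have hcls : q ^ 2 * (q ^ 3 + 1) ≤ {x : Vn | x ∈ D.W ∧ x ≠ 0 ∧ B₀ x x = B₀ a a}.ncard := by
    have h := D.card_class (B₀ a a)
    rw [if_neg haa, add_zero, hn2] at h
    rw [h, Herm.N_eq_N_one hF _ haa (pow_q_of_fixed (self_fixed' a))]
    refine le_of_eq (Nat.eq_of_mul_eq_mul_left (show 0 < q by omega) ?_)
    have e1 := (N_values hF 3).2
    zify; linear_combination -e1
  set T := {x : Vn | x ∈ D.sbar H ∧ x ≠ 0 ∧ B₀ x x = B₀ a a}.ncard with hT
  have hm : ∀ a' : Vn, a' ∈ D.sbar H → a' ≠ 0 → B₀ a' a' = B₀ a a →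
      {x : Vn | x ∈ D.sbar H ∧ B₀ a' x = B₀ a b}.ncard ≤ q ^ 2 := by
    intro a' ha' ha'0 he
    refine le_trans (D.fibre_le (D.sbar H) a' _).1 ?_
    obtain ⟨hnd, hrank⟩ := nd_inf_ker D.nd_W ha'.1 (he ▸ haa)
    rw [D.finrank_W, hn2] at hrank
    set A : AddSubgroup Vn := D.sbar H ⊓ (LinearMap.ker (B₀ a')).toAddSubgroup
    have hA : Nat.card A * Nat.card A ≤ q ^ 2 * q ^ 2 := by
      refine (D.sbar_sq_le hR hnd inf_le_left (fun x hx => ⟨hx.1.1, hx.2⟩)).trans (le_of_eq ?_)
      rw [Module.natCard_eq_pow_finrank (K := F), card_F hF,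
        show finrank F ↥(D.W ⊓ LinearMap.ker (B₀ a')) = 2 by omega, sq]
    rw [← Nat.card_coe_set_eq]
    exact le_trans (le_of_eq rfl) (Nat.mul_self_le_mul_self_iff.1 hA)
  have h5 := D.pairs_le H a b (le_refl T) hm
  refine D.key S hR ?_
  rw [hn2]
  have hsq : Nat.card (D.sbar H) ≤ q ^ 3 := hn2 ▸ D.sbar_le H hR
  have hs : 0 < Nat.card (D.sbar H) := Nat.card_pos
  have hTs : T ≤ Nat.card (D.sbar H) := by
    have h := D.ncard_sbar_ne H
    have : T ≤ {x : Vn | x ∈ D.sbar H ∧ x ≠ 0}.ncard := Set.ncard_le_ncard (fun x hx => ⟨hx.1, hx.2.1⟩) (Set.toFinite _)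
    omega
  have hT0 : 0 < T := (Set.ncard_pos (Set.toFinite _)).2 ⟨a, ha, ha0, rfl⟩
  have hhalf : Nat.card (D.sbar H) ≠ q ^ 3 → 2 * Nat.card (D.sbar H) ≤ q ^ 3 := by
    intro hne
    obtain ⟨p, hp⟩ := CharP.exists F
    haveI := hp
    obtain ⟨e, hpr, hcard⟩ := FiniteField.card F p
    have hdvd : Nat.card (D.sbar H) ∣ p ^ ((e : ℕ) * n) := by
      refine dvd_trans (AddSubgroup.card_addSubgroup_dvd_card _) (dvd_of_eq ?_)
      rw [Nat.card_eq_fintype_card, Fintype.card_fun, Fintype.card_fin, hcard, pow_mul]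
    have hdvd3 : q ^ 3 ∣ p ^ ((e : ℕ) * n) := by
      rw [pow_mul, ← hcard, hF, ← pow_mul]
      exact pow_dvd_pow q (by omega)
    obtain ⟨i, -, hi⟩ := (Nat.dvd_prime_pow hpr).1 hdvd
    obtain ⟨j, -, hj⟩ := (Nat.dvd_prime_pow hpr).1 hdvd3
    rw [hi, hj] at hsq hne ⊢
    have hij : i < j := by
      rcases lt_trichotomy i j with h | h | h
      · exact h
      · exact absurd (by rw [h]) hne
      · exact absurd hsq (Nat.not_le.2 (Nat.pow_lt_pow_right hpr.one_lt h))
    calc 2 * p ^ i ≤ p * p ^ i := Nat.mul_le_mul_right _ hpr.two_le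
      _ = p ^ (i + 1) := (pow_succ' p i).symm
      _ ≤ p ^ j := Nat.pow_le_pow_right hpr.pos hij
  refine final_arith hs hT0 (c := (q ^ 3 + 1) * (q * (q ^ 2 - 1))) ?_ ?_
  · refine Nat.le_of_mul_le_mul_left ?_ (show 0 < q ^ 2 by positivity)
    calc q ^ 2 * ((q ^ 3 + 1) * (q * (q ^ 2 - 1))) = q ^ 2 * (q ^ 3 + 1) * (q * (q ^ 2 - 1)) := by ring
      _ ≤ D.k0 H * (T * q ^ 2) :=
          ((Nat.mul_le_mul_right _ hcls).trans h1).trans (Nat.mul_le_mul_left _ h5)
      _ = _ := by ring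
  · calc Nat.card (D.sbar H) * T * (q ^ 2 * q ^ 3 + q) = q * (Nat.card (D.sbar H) * T * (q ^ 4 + 1)) := by ring
      _ ≤ q * ((q ^ 3 + 1) * (q ^ 2 - 1) * (q ^ 2 - 1) * q ^ 3) :=
          Nat.mul_le_mul_left _ (arith_nd hq hsq hTs (fun h => D.class_bound hR ha haa h) hhalf)
      _ = _ := by ring

/-- An anisotropic vector all of whose planes in the image are degenerate, in dimension five. -/
theorem Frame.aniso_deg_false {H : Subgroup Sg} (S : Small H) (hR : D.rsub H ≠ skew hF) (hn : n = 5) {a b : Vn}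
    (ha : a ∈ D.sbar H) (hb : b ∈ D.sbar H) (haa : B₀ a a ≠ 0) (hba : b ∉ Submodule.span F {a})
    (hdeg : ∀ x ∈ D.sbar H, ∀ y ∈ D.sbar H, B₀ x x ≠ 0 → B₀ x x * B₀ y y = B₀ x y * B₀ y x) : False := by
  classical
  haveI := finite_sg hF (n := n)
  have hq := two_le hF
  have ha0 : a ≠ 0 := fun e => haa (by rw [e]; simp)
  have hn2 : n - 2 = 3 := by omega
  have hsaa := self_fixed' (hF := hF) a
  -- the part orthogonal to `a`
  set u : Vn → Vn := fun x => x - (B₀ a x / B₀ a a) • a with hu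
  have hua : ∀ x, B₀ a (u x) = 0 := fun x => by
    simp [hu, div_mul_cancel₀ _ haa]
  have huu : ∀ x ∈ D.sbar H, B₀ (u x) (u x) = 0 := fun x hx => by
    have h := hdeg a ha x hx haa
    rw [form_symm a x] at h
    simp only [hu, map_sub, LinearMap.sub_apply, map_smul, LinearMap.map_smulₛₗ, LinearMap.smul_apply,
      smul_eq_mul, map_div₀, hsaa, form_symm a x]
    field_simp
    linear_combination h
  have hb0 : u b ≠ 0 := fun e => hba (Submodule.mem_span_singleton.2 ⟨_, (sub_eq_zero.1 e).symm⟩)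
  have hbnot : u b ∉ Submodule.span F {a} := fun h => by
    obtain ⟨t, ht⟩ := Submodule.mem_span_singleton.1 h
    have := hua b
    rw [← ht, map_smul, smul_eq_mul, mul_eq_zero, or_iff_left haa] at this
    exact hb0 (by rw [← ht, this, zero_smul])
  set P := Submodule.span F ({u b} : Set Vn) ⊔ Submodule.span F {a} with hP
  have hsub : ∀ c ∈ D.sbar H, c ∈ P := by
    intro c hc
    -- representatives with non-zero coefficient at `a`
    have hrep : ∀ x ∈ D.sbar H, ∃ x' ∈ D.sbar H, u x' = u x ∧ B₀ a x' ≠ 0 := by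
      intro x hx
      by_cases h : B₀ a x = 0
      · refine ⟨x + a, add_mem hx ha, ?_, by rw [map_add, h, zero_add]; exact haa⟩
        show x + a - (B₀ a (x + a) / B₀ a a) • a = x - (B₀ a x / B₀ a a) • a
        rw [map_add, h, zero_add, div_self haa, zero_div, zero_smul, one_smul, add_sub_cancel_right, sub_zero]
      · exact ⟨x, hx, rfl, h⟩
    obtain ⟨b', hb', hub, hab'⟩ := hrep b hb
    obtain ⟨c', hc', huc, hac'⟩ := hrep c hc
    set α := B₀ a b' / B₀ a a with hα
    set β := B₀ a c' / B₀ a a with hβ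
    set w := u b with hw
    set w' := u c with hw'
    have hwa : B₀ w a = 0 := symm_zero (hua b)
    have hw'a : B₀ w' a = 0 := symm_zero (hua c)
    have hbdec : b' = α • a + w := by rw [← hub, hα, hu]; simp
    have hcdec : c' = β • a + w' := by rw [← huc, hβ, hu]; simp
    have hα0 : α ≠ 0 := div_ne_zero hab' haa
    have hβ0 : β ≠ 0 := div_ne_zero hac' haa
    set s := B₀ w w' with hs
    have hs' : B₀ w' w = σ₀ s := form_symm w w'
    have hww := huu b hb
    have hw'w' := huu c hc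
    have hval : ∀ γ δ : F, B₀ (γ • a + w) (δ • a + w') = σ₀ γ * δ * B₀ a a + s ∧
        B₀ (δ • a + w') (γ • a + w) = σ₀ δ * γ * B₀ a a + σ₀ s ∧
        B₀ (γ • a + w) (γ • a + w) = σ₀ γ * γ * B₀ a a ∧
        B₀ (δ • a + w') (δ • a + w') = σ₀ δ * δ * B₀ a a := fun γ δ => by
      refine ⟨?_, ?_, ?_, ?_⟩ <;> simp [show B₀ a w = 0 from hua b, show B₀ a w' = 0 from hua c, hwa, hw'a,
        show B₀ w w = 0 from hww, show B₀ w' w' = 0 from hw'w', ← hs, hs'] <;> ring
    have hnb : B₀ b' b' ≠ 0 := by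
      rw [hbdec, (hval α β).2.2.1]
      exact mul_ne_zero (mul_ne_zero (by simpa using hα0) hα0) haa
    have hnc : B₀ c' c' ≠ 0 := by
      rw [hcdec, (hval α β).2.2.2]
      exact mul_ne_zero (mul_ne_zero (by simpa using hβ0) hβ0) haa
    have hsum : s + σ₀ s = 0 := by
      have e : u (b + c) = w + w' := by
        simp only [hw, hw', hu, map_add, add_div, add_smul]; abel
      have h := huu (b + c) (add_mem hb hc)
      rw [e] at h
      simp only [map_add, LinearMap.add_apply, hs', ← hs] at h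
      have k1 : B₀ w w = 0 := hww
      have k2 : B₀ w' w' = 0 := hw'w'
      linear_combination h - k1 - k2
    have hσs : σ₀ s = -s := eq_neg_of_add_eq_zero_right hsum
    have E1 : s * ((σ₀ β * α - σ₀ α * β) * B₀ a a - s) = 0 := by
      have h := hdeg b' hb' c' hc' hnb
      obtain ⟨e1, e2, e3, e4⟩ := hval α β
      rw [hbdec, hcdec, e1, e2, e3, e4, hσs] at h
      linear_combination -h
    have E2 : s * (((σ₀ β + 1) * α - σ₀ α * (β + 1)) * B₀ a a - s) = 0 := by
      have h := hdeg b' hb' (c' + a) (add_mem hc' ha) hnb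
      obtain ⟨e1, e2, e3, e4⟩ := hval α (β + 1)
      rw [hbdec, show c' + a = (β + 1) • a + w' by rw [hcdec, add_smul, one_smul]; abel, e1, e2, e3, e4, hσs,
        map_add, map_one] at h
      linear_combination -h
    have E3 : s * ((σ₀ β * (α + 1) - (σ₀ α + 1) * β) * B₀ a a - s) = 0 := by
      have h := hdeg c' hc' (b' + a) (add_mem hb' ha) hnc
      obtain ⟨e1, e2, e3, e4⟩ := hval (α + 1) β
      rw [hcdec, show b' + a = (α + 1) • a + w by rw [hbdec, add_smul, one_smul]; abel, e1, e2, e3, e4, hσs,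
        map_add, map_one] at h
      linear_combination -h
    have hs0 : s = 0 := by
      by_contra hs0
      have f1 := (mul_eq_zero.1 E1).resolve_left hs0
      have f2 := (mul_eq_zero.1 E2).resolve_left hs0
      have f3 := (mul_eq_zero.1 E3).resolve_left hs0
      have hαr : σ₀ α = α := by
        have : (α - σ₀ α) * B₀ a a = 0 := by linear_combination f2 - f1
        exact (sub_eq_zero.1 ((mul_eq_zero.1 this).resolve_right haa)).symm
      have hβr : σ₀ β = β := by
        have : (σ₀ β - β) * B₀ a a = 0 := by linear_combination f3 - f1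
        exact sub_eq_zero.1 ((mul_eq_zero.1 this).resolve_right haa)
      rw [hαr, hβr] at f1
      exact hs0 (by linear_combination -f1)
    have hwW : ∀ x ∈ D.sbar H, u x ∈ D.W := fun x hx => sub_mem hx.1 (Submodule.smul_mem _ _ ha.1)
    have hU : ∀ x ∈ Submodule.span F ({w'} : Set Vn) ⊔ Submodule.span F {w}, B₀ x x = 0 := fun x hx => by
      obtain ⟨k, l, rfl⟩ := D.mem_plane_sup hx
      simp [show B₀ w w = 0 from hww, show B₀ w' w' = 0 from hw'w', hs', ← hs, hs0]
    have hdim := (D.ti_dim (D.plane_le (hwW b hb) (hwW c hc)) hU (zero_mem _) (fun x _ => map_zero _)).1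
    have hw'P : w' ∈ P := by
      by_cases h : w' ∈ Submodule.span F {w}
      · exact Submodule.mem_sup_left h
      · rw [sup_comm, Submodule.finrank_sup_span_singleton h, finrank_span_singleton hb0] at hdim
        omega
    rw [show c = w' + (B₀ a c / B₀ a a) • a by rw [hw', hu]; simp]
    exact add_mem hw'P (Submodule.smul_mem _ _ (Submodule.mem_sup_right (Submodule.mem_span_singleton_self a)))
  -- the orbit of the pair of the vector and the plane
  have hPle : P ≤ Submodule.span F (D.sbar H : Set Vn) := by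
    refine sup_le ((Submodule.span_singleton_le_iff_mem _ _).2 ?_)
      ((Submodule.span_singleton_le_iff_mem _ _).2 (Submodule.subset_span ha))
    exact sub_mem (Submodule.subset_span hb) (Submodule.smul_mem _ _ (Submodule.subset_span ha))
  have hPeq : Submodule.span F (D.sbar H : Set Vn) = P := le_antisymm (Submodule.span_le.2 hsub) hPle
  have hstab : ∀ g ∈ D.levi H ⊓ D.fx, (g.1 a, P.map (g.1 : Vn →ₗ[F] Vn)) ∈
      {x : Vn | x ∈ D.sbar H ∧ x ≠ 0 ∧ B₀ x x = B₀ a a} ×ˢ ({P} : Set (Submodule F Vn)) := by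
    intro g hg
    refine ⟨⟨D.levi_fx_mem hg ha, fun (e : g.1 a = 0) => ha0 (g.1.injective (by rw [e, map_zero])), sg_form D.C g a a⟩,
      Set.mem_singleton_iff.2 (Submodule.eq_of_le_of_finrank_eq ?_ (LinearEquiv.finrank_map_eq g.1 P))⟩
    rw [← hPeq, Submodule.map_span, Submodule.span_le]
    rintro _ ⟨x, hx, rfl⟩
    exact Submodule.subset_span (D.levi_fx_mem hg hx)
  have himg := card_img_le_of_stable
    (fun (g : Sg) (p : Vn × Submodule F Vn) => (g.1 p.1, p.2.map (g.1 : Vn →ₗ[F] Vn))) inf_le_right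
    (fun g _ k _ p => Prod.ext rfl (by
      show p.2.map ((g * k : Sg).1 : Vn →ₗ[F] Vn) = _
      rw [← Submodule.map_comp]; rfl)) (x := (a, P)) (Set.toFinite _) hstab
  rw [Set.ncard_prod, Set.ncard_singleton, mul_one] at himg
  set T := {x : Vn | x ∈ D.sbar H ∧ x ≠ 0 ∧ B₀ x x = B₀ a a}.ncard with hT
  set A := Finset.univ.filter fun x : Vn => x ∈ D.W ∧ x ≠ 0 ∧ B₀ x x = B₀ a a
  let Bf : Vn → Finset Vn := fun a' => Finset.univ.filter fun x : Vn =>
    x ∈ D.W ∧ x ∉ Submodule.span F {a'} ∧ B₀ a' x = 0 ∧ B₀ x x = 0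
  have hA : q ^ 2 * (q ^ 3 + 1) ≤ A.card := by
    have h := D.card_class (B₀ a a)
    rw [if_neg haa, add_zero, hn2] at h
    have hA' : A.card = {x : Vn | x ∈ D.W ∧ x ≠ 0 ∧ B₀ x x = B₀ a a}.ncard := by
      rw [← Set.ncard_coe_finset]; simp [A]
    rw [hA', h, Herm.N_eq_N_one hF _ haa (pow_q_of_fixed (self_fixed' a))]
    refine le_of_eq (Nat.eq_of_mul_eq_mul_left (show 0 < q by omega) ?_)
    have e1 := (N_values hF 3).2
    zify; linear_combination -e1
  have hBf : ∀ a' ∈ A, (q ^ 2 - 1) * (q + 1) ≤ (Bf a').card := by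
    intro a' ha'
    obtain ⟨h1, h2, h3⟩ := (Finset.mem_filter.1 ha').2
    refine le_trans ?_ (le_trans (D.count_aniso h1 (h3 ▸ haa) 0 0) (le_of_eq ?_))
    · rw [show n - 3 = 2 by omega]
      simp only [map_zero, zero_mul, zero_div, sub_zero, if_true]
      have e0 := (N_values hF 2).1
      have hN : Herm.N F q 2 (0 : F) + q = q ^ 3 + q ^ 2 := by
        refine Nat.eq_of_mul_eq_mul_left (show 0 < q by omega) ?_
        zify; linear_combination e0
      have : (q ^ 2 - 1) * (q + 1) + q + 1 = q ^ 3 + q ^ 2 := by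
        obtain ⟨t, ht⟩ : ∃ t, q ^ 2 = t + 1 := ⟨q ^ 2 - 1, by have : 1 ≤ q ^ 2 := Nat.one_le_pow _ _ (by omega); omega⟩
        rw [show q ^ 3 = q ^ 2 * q by ring, ht, Nat.add_sub_cancel]; ring
      omega
    · rw [← Set.ncard_coe_finset]; simp [Bf]
  have hpairs : q ^ 2 * (q ^ 3 + 1) * ((q ^ 2 - 1) * (q + 1)) ≤ (A.sigma Bf).card := by
    rw [Finset.card_sigma]
    refine le_trans (Nat.mul_le_mul_right _ hA) ?_
    rw [← smul_eq_mul]
    exact Finset.card_nsmul_le_sum _ _ _ hBf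
  set f : ((_ : Vn) × Vn) → Vn × Submodule F Vn :=
    fun p => (p.1, Submodule.span F ({p.2} : Set Vn) ⊔ Submodule.span F {p.1})
  have hfib : (A.sigma Bf).card ≤ (q ^ 2 - 1) * ((A.sigma Bf).image f).card := by
    refine Finset.card_le_mul_card_image _ _ fun z hz => ?_
    obtain ⟨⟨x, y⟩, hp, rfl⟩ := Finset.mem_image.1 hz
    obtain ⟨hp1, hp2⟩ := Finset.mem_sigma.1 hp
    obtain ⟨-, hx0, hxx⟩ := (Finset.mem_filter.1 hp1).2
    obtain ⟨-, hyx, hxy, -⟩ := (Finset.mem_filter.1 hp2).2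
    have hy0 : y ≠ 0 := fun e => hyx (by rw [e]; exact zero_mem _)
    let C := (Finset.univ.filter fun w : Vn => w ∈ Submodule.span F ({y} : Set Vn)).erase 0
    refine le_trans (Finset.card_le_card_of_injOn (t := C) (fun p => p.2) ?_ ?_) (le_of_eq ?_)
    · rintro ⟨x', y'⟩ hp'
      obtain ⟨hp', hPe⟩ := Finset.mem_filter.1 hp'
      obtain ⟨-, hp2'⟩ := Finset.mem_sigma.1 hp'
      obtain ⟨hxe, hPe⟩ := Prod.ext_iff.1 hPe
      obtain rfl : x' = x := hxe
      obtain ⟨-, hyx', hxy', -⟩ := (Finset.mem_filter.1 hp2').2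
      have hy' : y' ∈ Submodule.span F ({y} : Set Vn) ⊔ Submodule.span F {x'} := by
        rw [show Submodule.span F ({y} : Set Vn) ⊔ Submodule.span F {x'} =
          Submodule.span F ({y'} : Set Vn) ⊔ Submodule.span F {x'} from hPe.symm]
        exact Submodule.mem_sup_left (Submodule.mem_span_singleton_self _)
      obtain ⟨k, l, e⟩ := D.mem_plane_sup hy'
      refine Finset.mem_erase.2 ⟨fun e' => hyx' (by
        show y' ∈ _
        rw [show y' = 0 from e']; exact zero_mem _), Finset.mem_filter.2 ⟨Finset.mem_univ _, ?_⟩⟩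
      rw [e, map_add, map_smul, map_smul, hxy, smul_zero, zero_add, smul_eq_mul, mul_eq_zero,
        or_iff_left (hxx ▸ haa)] at hxy'
      show y' ∈ _
      rw [e, hxy', zero_smul, add_zero]
      exact Submodule.smul_mem _ _ (Submodule.mem_span_singleton_self y)
    · rintro ⟨x1, y1⟩ hp1' ⟨x2, y2⟩ hp2' h
      have e1 := (Prod.ext_iff.1 (Finset.mem_filter.1 (Finset.mem_coe.1 hp1')).2).1
      have e2 := (Prod.ext_iff.1 (Finset.mem_filter.1 (Finset.mem_coe.1 hp2')).2).1
      simp only at e1 e2 h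
      subst e1 e2 h
      rfl
    · rw [Finset.card_erase_of_mem (Finset.mem_filter.2 ⟨Finset.mem_univ _, zero_mem _⟩), ← Fintype.card_subtype,
        ← Nat.card_eq_fintype_card, Module.natCard_eq_pow_finrank (K := F), finrank_span_singleton hy0, card_F hF,
        pow_one]
  have himage : ((A.sigma Bf).image f).card ≤ D.k0 H * T := by
    refine le_trans ?_ himg
    rw [Nat.card_coe_set_eq, ← Set.ncard_coe_finset]
    refine Set.ncard_le_ncard ?_ (Set.toFinite _)
    rintro z hz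
    obtain ⟨⟨x, y⟩, hp, rfl⟩ := Finset.mem_image.1 (Finset.mem_coe.1 hz)
    obtain ⟨hp1, hp2⟩ := Finset.mem_sigma.1 hp
    obtain ⟨hxW, hx0, hxx⟩ := (Finset.mem_filter.1 hp1).2
    obtain ⟨hyW, hyx, hxy, hyy⟩ := (Finset.mem_filter.1 hp2).2
    obtain ⟨g, hg, hga⟩ := D.fx_trans ha.1 hxW ha0 hx0 hxx.symm
    have hubW : u b ∈ D.W := sub_mem hb.1 (Submodule.smul_mem _ _ ha.1)
    have hgb : g.1 (u b) ∈ D.W := D.lev_mem_W (D.fx_le_lev hg) hubW
    have hnot : g.1 (u b) ∉ Submodule.span F {x} := by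
      intro hm
      obtain ⟨t, ht⟩ := Submodule.mem_span_singleton.1 hm
      refine hbnot (Submodule.mem_span_singleton.2 ⟨t, g.1.injective ?_⟩)
      rw [map_smul, hga, ht]
    obtain ⟨k, hk, hkx, t, ht0, hkb⟩ := D.fx_trans_line hxW hgb hyW hnot hyx
      (by rw [← hga, sg_form D.C, hua]) hxy (by rw [sg_form D.C, huu b hb]) hyy
    refine ⟨k * g, mul_mem hk hg, Prod.ext ?_ ?_⟩
    · show k.1 (g.1 a) = x
      rw [hga, hkx]
    show P.map (((k * g : Sg).1 : Vn ≃ₗ[F] Vn) : Vn →ₗ[F] Vn) = _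
    rw [hP, Submodule.map_sup, LinearMap.map_span, LinearMap.map_span, Set.image_singleton,
      Set.image_singleton]
    show Submodule.span F {k.1 (g.1 (u b))} ⊔ Submodule.span F {k.1 (g.1 a)} = _
    rw [hga, hkx, hkb, Submodule.span_singleton_smul_eq (Ne.isUnit ht0)]
  have hsq : Nat.card (D.sbar H) ≤ q ^ 3 := hn2 ▸ D.sbar_le H hR
  have hTs : T ≤ Nat.card (D.sbar H) := by
    have h := D.ncard_sbar_ne H
    have : T ≤ {x : Vn | x ∈ D.sbar H ∧ x ≠ 0}.ncard := Set.ncard_le_ncard (fun x hx => ⟨hx.1, hx.2.1⟩) (Set.toFinite _)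
    omega
  have hT0 : 0 < T := (Set.ncard_pos (Set.toFinite _)).2 ⟨a, ha, ha0, rfl⟩
  refine D.key S hR ?_
  rw [hn2]
  refine final_arith Nat.card_pos hT0 (c := q ^ 2 * (q ^ 3 + 1) * (q + 1)) ?_ ?_
  · have h4 : 4 ≤ q ^ 2 := by nlinarith
    refine Nat.le_of_mul_le_mul_left ?_ (show 0 < q ^ 2 - 1 by omega)
    refine le_trans (le_of_eq (by ring)) (hpairs.trans (hfib.trans (Nat.mul_le_mul_left _ himage)))
  · obtain ⟨t, ht⟩ : ∃ t, q ^ 2 = t + 1 := ⟨q ^ 2 - 1, by have : 1 ≤ q ^ 2 := Nat.one_le_pow _ _ (by omega); omega⟩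
    have hk : q ^ 2 * (q ^ 4 + 1) ≤ (q ^ 3 + 1) * (q + 1) * (q ^ 2 - 1) := by
      rw [show q ^ 4 = q ^ 2 * q ^ 2 by ring, ht, Nat.add_sub_cancel]
      obtain ⟨w, rfl⟩ : ∃ w, q = w + 2 := ⟨q - 2, by omega⟩
      obtain rfl : t = w ^ 2 + 4 * w + 3 := by nlinarith only [ht]
      ring_nf
      nlinarith [Nat.zero_le (w ^ 5), Nat.zero_le (w ^ 4), Nat.zero_le (w ^ 3), Nat.zero_le (w ^ 2)]
    calc Nat.card (D.sbar H) * T * (q ^ 2 * q ^ 3 + q)
        ≤ q ^ 3 * q ^ 3 * (q ^ 2 * q ^ 3 + q) := Nat.mul_le_mul_right _ (Nat.mul_le_mul hsq (hTs.trans hsq))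
      _ = q ^ 5 * (q ^ 2 * (q ^ 4 + 1)) := by ring
      _ ≤ q ^ 5 * ((q ^ 3 + 1) * (q + 1) * (q ^ 2 - 1)) := Nat.mul_le_mul_left _ hk
      _ = _ := by ring

/-- In dimension five the intersection with the radical has trivial image or full centre. -/
theorem Frame.sbar_bot_five {H : Subgroup Sg} (S : Small H) (hR : D.rsub H ≠ skew hF) (hn : n = 5) :
    ∀ x ∈ D.sbar H, x = 0 := by
  by_contra hc
  push Not at hc
  obtain ⟨a, ha, ha0⟩ := hc
  have hind : ∀ x ∈ D.sbar H, x ≠ 0 → ∃ y ∈ D.sbar H, y ∉ Submodule.span F {x} := fun x hx hx0 => by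
    by_contra hc
    push Not at hc
    exact D.line_false S hR hx hx0 hc
  by_cases h1 : ∃ x ∈ D.sbar H, B₀ x x ≠ 0
  · by_cases h2 : ∃ x ∈ D.sbar H, ∃ y ∈ D.sbar H, B₀ x x ≠ 0 ∧ B₀ x x * B₀ y y ≠ B₀ x y * B₀ y x
    · obtain ⟨x, hx, y, hy, hxx, hxy⟩ := h2
      exact D.aniso_nd_false S hR hn hx hy hxx hxy
    push Not at h2
    obtain ⟨x, hx, hxx⟩ := h1
    obtain ⟨y, hy, hyx⟩ := hind x hx (fun e => hxx (by rw [e]; simp))
    exact D.aniso_deg_false S hR hn hx hy hxx hyx h2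
  push Not at h1
  by_cases h2 : ∃ x ∈ D.sbar H, ∃ y ∈ D.sbar H, B₀ x y ≠ 0
  · obtain ⟨x, hx, y, hy, hxy⟩ := h2
    exact D.iso_false_three S hR hn hx hy h1 hxy
  push Not at h2
  obtain ⟨b, hb, hba⟩ := hind a ha ha0
  have hle : Submodule.span F ({b} : Set Vn) ⊔ Submodule.span F {a} ≤ D.W := D.plane_le ha.1 hb.1
  have hdim := (D.ti_dim hle (fun x hx => by
    obtain ⟨s, t, rfl⟩ := D.mem_plane_sup hx
    simp [h2 a ha a ha, h2 b hb b hb, h2 a ha b hb, h2 b hb a ha]) (zero_mem _) (fun x _ => map_zero _)).1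
  rw [sup_comm, Submodule.finrank_sup_span_singleton hba, finrank_span_singleton ha0] at hdim
  omega

/-- The intersection with the radical has trivial image or full centre. -/
theorem Frame.sbar_bot {H : Subgroup Sg} (S : Small H) (hR : D.rsub H ≠ skew hF) :
    ∀ x ∈ D.sbar H, x = 0 := by
  rcases (show n = 5 ∨ 6 ≤ n by have := D.dim; omega) with h | h
  · exact D.sbar_bot_five S hR h
  · exact D.sbar_bot_six S hR h

end Cfsg.Lib.Linear.MinIndexU
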