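import Cfsg.Agent.Lib.Linear.MinIndexU.Good

/-!
# A bad point: the Levi complement lifts, and after conjugation every isotropic vector of the orthogonal space
of the pair is good
-/

set_option autoImplicit false
set_option linter.unusedSectionVars false

namespace Cfsg.Lib.Linear.MinIndexU

open Module
open Cfsg.Lib.Linear Cfsg.Lib.Linear.Herm

theorem arith_zero {q X A : ℕ} (hq : 2 ≤ q) (hX : q ≤ X) (hA : A + 2 ≤ q) :
    (q ^ 2 * X + q) * A ≤ (q - 1) * ((q ^ 2 - 1) * X) := by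
  obtain ⟨a, rfl⟩ : ∃ a, q = a + 2 := ⟨q - 2, by omega⟩
  obtain ⟨t, ht⟩ : ∃ t, (a + 2) ^ 2 = t + 1 := ⟨(a + 2) ^ 2 - 1, by
    have : 1 ≤ (a + 2) ^ 2 := Nat.one_le_pow _ _ (by omega); omega⟩
  rw [ht, Nat.add_sub_cancel, show a + 2 - 1 = a + 1 by omega]
  have hta : a ≤ t := by nlinarith
  calc ((t + 1) * X + (a + 2)) * A ≤ ((t + 1) * X + X) * a := Nat.mul_le_mul (by omega) (by omega)
    _ ≤ (a + 1) * (t * X) := by
      rw [show ((t + 1) * X + X) * a = (t + 2) * a * X by ring, ← mul_assoc]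
      refine Nat.mul_le_mul_right _ ?_
      nlinarith

theorem arith_one {q X : ℕ} (hq : 2 ≤ q) (hX : q ≤ X) : q ^ 2 * X + q ≤ 2 * ((q ^ 2 - 1) * X) := by
  have h4 : 4 ≤ q ^ 2 := by nlinarith
  calc q ^ 2 * X + q ≤ (q ^ 2 + 1) * X := by rw [add_mul, one_mul]; omega
    _ ≤ _ := by rw [← mul_assoc]; exact Nat.mul_le_mul_right _ (by omega)

variable {F : Type*} [Field F] [Fintype F] {q n : ℕ} {hF : Fintype.card F = q ^ 2}

local notation "Vn" => Fin n → F
local notation "B₀" => hB hF n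
local notation "σ₀" => frob hF
local notation "Sg" => SUg hF n

/-- An element acting diagonally in an orthonormal basis of the orthogonal space. -/
theorem Pair.exists_diag {v v' : Fin n → F} (D : Pair hF n v v') {m : ℕ} {b : Fin m → Vn} (hb : ∀ i, b i ∈ D.W)
    (hbb : ∀ i j, B₀ (b i) (b j) = if i = j then 1 else 0) (μ : Fin m → F) (hμ : ∀ i, σ₀ (μ i) * μ i = 1)
    (hprod : ∏ i, μ i = 1) : ∃ g ∈ D.fx, ∀ i, g.1 (b i) = μ i • b i := by
  classical
  suffices H : ∀ s : Finset (Fin m), ∃ g ∈ iso B₀, (LinearEquiv.det g : F) = ∏ i ∈ s, μ i ∧ g v = v ∧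
      g v' = v' ∧ ∀ i, g (b i) = if i ∈ s then μ i • b i else b i by
    obtain ⟨g, hg, hd, h1, h2, h3⟩ := H Finset.univ
    exact ⟨⟨g, (Big.mem_tv D.C).2 ⟨hg, Units.ext (by rw [hd, hprod]; rfl)⟩⟩, ⟨h1, h2⟩, fun i => by
      show g (b i) = _
      rw [h3 i, if_pos (Finset.mem_univ i)]⟩
  intro s
  induction s using Finset.induction_on with
  | empty => exact ⟨1, one_mem _, by simp, rfl, rfl, fun i => by simp⟩
  | insert k s hk ih =>
    obtain ⟨g, hg, hd, h1, h2, h3⟩ := ih
    have hbk : B₀ (b k) (b k) = 1 := by rw [hbb, if_pos rfl]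
    have hl : (μ k - 1) + σ₀ (μ k - 1) + σ₀ (μ k - 1) * (μ k - 1) * B₀ (b k) (b k) = 0 := by
      rw [map_sub, map_one, hbk]; linear_combination hμ k
    refine ⟨qrefl (b k) (μ k - 1) hl * g, mul_mem (qrefl_mem_iso D.C.symm _ _ _) hg, ?_, ?_, ?_, fun i => ?_⟩
    · rw [map_mul, Units.val_mul, det_qrefl, hd, hbk, Finset.prod_insert hk]; ring
    · rw [LinearEquiv.mul_apply, h1, qrefl_apply, D.v_W (hb k), mul_zero, zero_smul, add_zero]
    · rw [LinearEquiv.mul_apply, h2, qrefl_apply, D.v'_W (hb k), mul_zero, zero_smul, add_zero]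
    · rw [LinearEquiv.mul_apply, h3 i]
      rcases eq_or_ne i k with rfl | hik
      · rw [if_neg hk, qrefl_apply, hbk, if_pos (Finset.mem_insert_self i s)]
        module
      · rw [qrefl_apply, show B₀ (b k) (if i ∈ s then μ i • b i else b i) = 0 by
          split_ifs <;> simp [hbb, hik.symm], mul_zero, zero_smul, add_zero]
        simp [hik]

variable {v v' : Fin n → F} (D : Frame hF n v v')
include D

theorem Frame.card_sbar_one {H : Subgroup Sg} (S : Small H) (hR : D.rsub H ≠ skew hF) :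
    Nat.card (D.sbar H) = 1 := by
  rw [Nat.card_eq_one_iff_unique]
  exact ⟨⟨fun x y => Subtype.ext (by rw [D.sbar_bot S hR _ x.2, D.sbar_bot S hR _ y.2])⟩, ⟨0⟩⟩

theorem Frame.index_lt {H : Subgroup Sg} (S : Small H) :
    H.index * (q ^ 2 - 1) * q < q ^ (n - 2) * (q ^ (n - 2) * q ^ 4 + q ^ 3) := by
  have hq := two_le hF
  have hN := N_zero_le hF (m := n)
  have := D.dim
  have hb := S.bound
  have e : q ^ (2 * n) + q ^ (n + 1) = q ^ (n - 2) * (q ^ (n - 2) * q ^ 4 + q ^ 3) := by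
    rw [mul_add, ← pow_add, ← pow_add, ← pow_add]; congr 2 <;> omega
  calc H.index * (q ^ 2 - 1) * q < Herm.N F q n (0 : F) * q :=
        (Nat.mul_lt_mul_right (by omega)).2 (by omega)
    _ = q * Herm.N F q n (0 : F) := mul_comm _ _
    _ ≤ _ := e ▸ hN

/-- The centre meets a subgroup of small index trivially. -/
theorem Frame.rsub_zero {H : Subgroup Sg} (S : Small H) (hR : D.rsub H ≠ skew hF) :
    Nat.card (D.rsub H) = 1 := by
  haveI := finite_sg hF (n := n)
  have hq := two_le hF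
  by_contra hne
  have h1 : 1 ≤ Nat.card (D.rsub H) := Nat.card_pos
  have hMR := card_mStab_mul_le (D.rsub_le H) hR
  have hk : 1 ≤ D.k0 H := Nat.one_le_iff_ne_zero.2 Subgroup.index_ne_zero_of_finite
  have hb := D.basic_exact H
  rw [D.card_W', D.card_sbar_one S hR, mul_one] at hb
  have hi := D.index_lt S
  have hXq : q ≤ q ^ (n - 2) := Nat.le_self_pow (by have := D.dim; omega) q
  set X := q ^ (n - 2)
  set A := Nat.card (D.rsub H) * Nat.card (mStab hF (D.rsub H)) with hA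
  rw [mul_comm (Nat.card (mStab hF (D.rsub H))), ← hA] at hMR
  have h2 := arith_zero hq hXq (show A + 2 ≤ q by omega)
  have hA0 : 0 < A := Nat.mul_pos (by omega) Nat.card_pos
  have e1 : (q - 1) * (X * X * q) * ((q ^ 2 - 1) * q) < X * (X * q ^ 4 + q ^ 3) * A :=
    calc (q - 1) * (X * X * q) * ((q ^ 2 - 1) * q) = 1 * (q - 1) * (X * X * q) * ((q ^ 2 - 1) * q) := by ring
      _ ≤ D.k0 H * (q - 1) * (X * X * q) * ((q ^ 2 - 1) * q) :=
          Nat.mul_le_mul_right _ (Nat.mul_le_mul_right _ (Nat.mul_le_mul_right _ hk))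
      _ ≤ H.index * A * ((q ^ 2 - 1) * q) := Nat.mul_le_mul_right _ hb
      _ = H.index * (q ^ 2 - 1) * q * A := by ring
      _ < _ := (Nat.mul_lt_mul_right hA0).2 hi
  have e2 : X * (X * q ^ 4 + q ^ 3) * A ≤ (q - 1) * (X * X * q) * ((q ^ 2 - 1) * q) :=
    calc X * (X * q ^ 4 + q ^ 3) * A = X * q ^ 2 * ((q ^ 2 * X + q) * A) := by ring
      _ ≤ X * q ^ 2 * ((q - 1) * ((q ^ 2 - 1) * X)) := Nat.mul_le_mul_left _ h2
      _ = _ := by ring
  omega

/-- The whole Levi complement lifts. -/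
theorem Frame.lev_le_levi {H : Subgroup Sg} (S : Small H) (hR : D.rsub H ≠ skew hF) : D.lev ≤ D.levi H := by
  haveI := finite_sg hF (n := n)
  have hq := two_le hF
  rw [← Subgroup.relIndex_eq_one]
  have h := D.index_mul H
  rw [D.card_W', D.card_sbar_one S hR, D.rsub_zero S hR, mul_one, mul_one] at h
  have hj : (D.levi H).relIndex D.lev ≠ 0 := Subgroup.index_ne_zero_of_finite
  by_contra hne
  set j := (D.levi H).relIndex D.lev
  have hi := D.index_lt S
  have hXq : q ≤ q ^ (n - 2) := Nat.le_self_pow (by have := D.dim; omega) q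
  set X := q ^ (n - 2)
  have h2 := arith_one hq hXq
  have e1 : 2 * (X * X * q) * ((q ^ 2 - 1) * q) < X * (X * q ^ 4 + q ^ 3) :=
    calc 2 * (X * X * q) * ((q ^ 2 - 1) * q) ≤ j * (X * X * q) * ((q ^ 2 - 1) * q) :=
          Nat.mul_le_mul_right _ (Nat.mul_le_mul_right _ (by omega))
      _ ≤ H.index * ((q ^ 2 - 1) * q) := Nat.mul_le_mul_right _ h
      _ = H.index * (q ^ 2 - 1) * q := by ring
      _ < _ := hi
  have e2 : X * (X * q ^ 4 + q ^ 3) ≤ 2 * (X * X * q) * ((q ^ 2 - 1) * q) :=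
    calc X * (X * q ^ 4 + q ^ 3) = X * q ^ 2 * (q ^ 2 * X + q) := by ring
      _ ≤ X * q ^ 2 * (2 * ((q ^ 2 - 1) * X)) := Nat.mul_le_mul_left _ h2
      _ = _ := by ring
  omega

theorem Frame.lift {H : Subgroup Sg} (S : Small H) (hR : D.rsub H ≠ skew hF) {g : Sg} (hg : g ∈ D.lev) :
    ∃ a ∈ D.W, ∃ c, Root hF v a c ∧ el hF v a c * g ∈ H :=
  D.exists_lift (D.lev_le_levi S hR hg)

theorem Frame.lift_unique {H : Subgroup Sg} (S : Small H) (hR : D.rsub H ≠ skew hF) {g : Sg} {a b : Vn} {c e : F}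
    (ha : a ∈ D.W) (hb : b ∈ D.W) (hc : Root hF v a c) (he : Root hF v b e) (h1 : el hF v a c * g ∈ H)
    (h2 : el hF v b e * g ∈ H) : a = b := by
  have h := mul_mem h1 (inv_mem h2)
  rw [show el hF v a c * g * (el hF v b e * g)⁻¹ = el hF v a c * (el hF v b e)⁻¹ by group, el_inv D.C he,
    el_mul D.C hc he.inv, ← sub_eq_add_neg] at h
  have hr := hc.mul he.inv
  rw [← sub_eq_add_neg] at hr
  exact sub_eq_zero.1 (D.sbar_bot S hR _ ⟨sub_mem ha hb, _, hr, h⟩)

theorem Frame.fx_comm {g : Sg} (hg : g ∈ D.fx) {c : F} (hc : c + σ₀ c = 0) :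
    g * el hF v 0 c = el hF v 0 c * g := by
  obtain ⟨-, h⟩ := D.el_conj (D.fx_le_lev hg) (zero_mem _) (Root.zero D.hv hc)
  rw [map_zero, smul_zero, D.nu_fx hg, map_one, one_mul, one_mul] at h
  exact mul_inv_eq_iff_eq_mul.1 h

/-- Lifts of commuting elements. -/
theorem Frame.commute_lift {H : Subgroup Sg} (S : Small H) (hR : D.rsub H ≠ skew hF) {Z g : Sg} (hZ : Z ∈ D.lev)
    (hg : g ∈ D.fx) {c0 : F} (h0 : c0 + σ₀ c0 = 0) (hZH : el hF v 0 c0 * Z ∈ H) (hZg : Z * g = g * Z)
    {a : Vn} {c : F} (ha : a ∈ D.W) (hr : Root hF v a c) (hgH : el hF v a c * g ∈ H) :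
    σ₀ (D.nu Z) • Z.1 a = a := by
  have hz := Root.zero (hF := hF) D.hv h0
  obtain ⟨hr', hconj⟩ := D.el_conj hZ ha hr
  obtain ⟨hr'', hconj'⟩ := D.conj_el hz hr'
  have h := mul_mem (mul_mem hZH hgH) (inv_mem hZH)
  rw [show el hF v 0 c0 * Z * (el hF v a c * g) * (el hF v 0 c0 * Z)⁻¹ =
    el hF v 0 c0 * (Z * el hF v a c * Z⁻¹) * (Z * g) * Z⁻¹ * (el hF v 0 c0)⁻¹ by group, hZg, hconj] at h
  have hgc : g * (el hF v 0 c0)⁻¹ = (el hF v 0 c0)⁻¹ * g := by
    rw [el_inv D.C hz, neg_zero]; exact D.fx_comm hg (by rw [frob_frob hF]; linear_combination h0)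
  rw [show ∀ A : Sg, el hF v 0 c0 * A * (g * Z) * Z⁻¹ * (el hF v 0 c0)⁻¹ =
    el hF v 0 c0 * A * (g * (el hF v 0 c0)⁻¹) from fun A => by group, hgc, ← mul_assoc, hconj'] at h
  exact D.lift_unique S hR (Submodule.smul_mem _ _ (D.lev_mem_W hZ ha)) ha hr'' hr h hgH

/-- After conjugation an element without fixed vectors on the radical lifts with trivial linear part. -/
theorem Frame.exists_normal {H : Subgroup Sg} (S : Small H) (hR : D.rsub H ≠ skew hF) {Z : Sg} (hZ : Z ∈ D.lev)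
    (hfix : ∀ a ∈ D.W, σ₀ (D.nu Z) • Z.1 a = a → a = 0) :
    ∃ H' : Subgroup Sg, Small H' ∧ D.rsub H' ≠ skew hF ∧ ∃ c0, c0 + σ₀ c0 = 0 ∧ el hF v 0 c0 * Z ∈ H' := by
  obtain ⟨a0, ha0, c, hc, hH⟩ := D.lift S hR hZ
  set A : D.W →ₗ[F] D.W :=
    { toFun := fun a => ⟨σ₀ (D.nu Z) • Z.1 a - a, sub_mem (Submodule.smul_mem _ _ (D.lev_mem_W hZ a.2)) a.2⟩
      map_add' := fun x y => Subtype.ext (by simp only [Submodule.coe_add, map_add, smul_add]; abel)
      map_smul' := fun k x => Subtype.ext (by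
        simp only [SetLike.val_smul, map_smul, RingHom.id_apply, smul_sub, smul_comm k]) } with hA
  have hinj : Function.Injective A := by
    rw [injective_iff_map_eq_zero]
    intro x hx
    exact Subtype.ext (hfix x x.2 (sub_eq_zero.1 (congrArg Subtype.val hx)))
  obtain ⟨b, hb⟩ := (LinearMap.injective_iff_surjective.1 hinj) ⟨a0, ha0⟩
  replace hb : σ₀ (D.nu Z) • Z.1 b.1 - b.1 = a0 := congrArg Subtype.val hb
  obtain ⟨e, he⟩ := exists_trace_eq (frob_ne_id hF) (frob_frob hF) (a := -(B₀ (b : Vn) b))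
    (by rw [map_neg, self_fixed'])
  have hre : Root hF v (b : Vn) e := D.root_W b.2 (by linear_combination he)
  set t := el hF v (b : Vn) e with ht
  refine ⟨H.map (MulAut.conj t).toMonoidHom, ?_, ?_, ?_⟩
  · have hidx : (H.map (MulAut.conj t).toMonoidHom).index = H.index :=
      Subgroup.index_map_equiv H (MulAut.conj t)
    refine ⟨fun h => S.proper ?_, by rw [hidx]; exact S.bound, by rw [hidx]; exact S.bound'⟩
    rw [← Subgroup.index_eq_one, ← hidx, h, Subgroup.index_top]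
  · intro h
    refine hR (le_antisymm (D.rsub_le H) fun k hk => ⟨hk, ?_⟩)
    obtain ⟨x, hx, hxe⟩ := ((h ▸ hk : k ∈ D.rsub (H.map (MulAut.conj t).toMonoidHom))).2
    have hk' := Root.zero (hF := hF) D.hv ((mem_skew hF).1 hk)
    obtain ⟨-, hcj⟩ := D.conj_el hre hk'
    simp only [map_zero, LinearMap.zero_apply, sub_zero, add_zero, ← ht] at hcj
    have : x = el hF v 0 k := by
      apply (MulAut.conj t).injective
      exact hxe.trans hcj.symm
    exact this ▸ hx
  · have hmem : t * (el hF v a0 c * Z) * t⁻¹ ∈ H.map (MulAut.conj t).toMonoidHom :=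
      Subgroup.mem_map_of_mem (MulAut.conj t).toMonoidHom hH
    obtain ⟨hr', hconj⟩ := D.el_conj hZ (neg_mem b.2) hre.inv
    rw [show t * (el hF v a0 c * Z) * t⁻¹ = t * el hF v a0 c * (Z * t⁻¹ * Z⁻¹) * Z by group,
      ht, el_inv D.C hre, hconj, el_mul D.C hre hc, el_mul D.C (hre.mul hc) hr'] at hmem
    have hr := (hre.mul hc).mul hr'
    rw [show (b : Vn) + a0 + σ₀ (D.nu Z) • Z.1 (-(b : Vn)) = 0 by rw [map_neg, smul_neg, ← hb]; abel] at hmem hr
    exact ⟨_, by simpa using hr.2.2, hmem⟩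

theorem Frame.el_fx {x : Vn} (hx : x ∈ D.W) (hxx : B₀ x x = 0) {l : F} (hl : l + σ₀ l = 0) :
    el hF x 0 l ∈ D.fx := by
  constructor <;> rw [el_zero_apply D.C hxx hl]
  · simp [D.v_W hx]
  · simp [D.v'_W hx]

/-- A point is good when the lifts of its transvections have trivial linear part. -/
theorem Frame.good_of_lift {H : Subgroup Sg} (S : Small H) (hR : D.rsub H ≠ skew hF) {x : Vn} (hx : x ∈ D.W)
    (hxx : B₀ x x = 0) (h : ∀ l a c, l + σ₀ l = 0 → a ∈ D.W → Root hF v a c →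
      el hF v a c * el hF x 0 l ∈ H → a = 0) : Good H x := by
  intro l hl
  rcases eq_or_ne x 0 with rfl | hx0
  · exact good_zero D.C H l hl
  rcases eq_or_ne l 0 with rfl | hl0
  · rw [el_zero_zero D.C hxx]; exact one_mem H
  obtain ⟨a, ha, c, hc, hH⟩ := D.lift S hR (D.fx_le_lev (D.el_fx hx hxx hl))
  obtain rfl := h l a c hl ha hc hH
  have hc' : c + σ₀ c = 0 := by simpa using hc.2.2
  rw [← D.fx_comm (D.el_fx hx hxx hl) hc'] at hH
  obtain rfl := D.rank_two S hR hx hx0 hxx hl0 hl hc' hH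
  rwa [el_zero_zero D.C D.hv, mul_one] at hH

/-- Elements of the Levi complement agreeing on the pair and on the orthogonal space are equal. -/
theorem Frame.ext_W {g h : Sg} (e1 : g.1 v = h.1 v) (e2 : g.1 v' = h.1 v') (e3 : ∀ w ∈ D.W, g.1 w = h.1 w) :
    g = h := sg_ext fun x => by
  obtain ⟨w, hw, e⟩ := D.decomp x
  rw [e]
  simp only [map_add, map_smul, e1, e2, e3 w hw]

theorem Frame.good_all_ge_three {H : Subgroup Sg} (S : Small H) (hR : D.rsub H ≠ skew hF) (hq3 : 3 ≤ q) :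
    ∃ H' : Subgroup Sg, Small H' ∧ D.rsub H' ≠ skew hF ∧ ∀ x ∈ D.W, B₀ x x = 0 → Good H' x := by
  classical
  obtain ⟨ν, hν, hν0, hν1⟩ : ∃ ν : F, σ₀ ν = ν ∧ ν ≠ 0 ∧ ν ≠ 1 := by
    by_contra hc
    push Not at hc
    have h := card_fixed hF
    rw [Nat.card_eq_fintype_card, Fintype.card_subtype] at h
    have hle : (Finset.univ.filter fun a : F => a ^ q = a).card ≤ ({0, 1} : Finset F).card :=
      Finset.card_le_card fun a ha => by
        by_cases h0 : a = 0
        · simp [h0]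
        · simp [hc a (by rw [frob_apply]; exact (Finset.mem_filter.1 ha).2) h0]
    have := hle.trans Finset.card_le_two
    omega
  obtain ⟨e, he, -, hee⟩ := D.exists_aniso_one (b := 0)
  obtain ⟨Z, hZ, hnu, hZe, hZW⟩ := D.exists_lev (Units.mk0 ν hν0) he hee
  rw [Units.val_mk0] at hnu hZe
  rw [hν, div_self hν0, one_smul] at hZe
  have hfixW : ∀ w ∈ D.W, Z.1 w = w := fun w hw => by
    have h := hZW (w - (B₀ e w / B₀ e e) • e) (sub_mem hw (Submodule.smul_mem _ _ he))
      (by rw [map_sub, map_smul, smul_eq_mul, div_mul_cancel₀ _ hee, sub_self])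
    rwa [map_sub, map_smul, hZe, sub_left_inj] at h
  have hfix : ∀ a ∈ D.W, σ₀ (D.nu Z) • Z.1 a = a → a = 0 := fun a ha h => by
    rw [hnu, hν, hfixW a ha] at h
    have h' : (ν - 1) • a = 0 := by rw [sub_smul, h, one_smul, sub_self]
    exact (smul_eq_zero.1 h').resolve_left (sub_ne_zero.2 hν1)
  obtain ⟨H', S', hR', c0, hc0, hH'⟩ := D.exists_normal S hR hZ hfix
  refine ⟨H', S', hR', fun x hx hxx => D.good_of_lift S' hR' hx hxx fun l a c hl ha hr hmem =>
    hfix a ha (D.commute_lift S' hR' hZ (D.el_fx hx hxx hl) hc0 hH' ?_ ha hr hmem)⟩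
  have := el_zero_conj D.C hxx hl Z
  rw [hfixW x hx] at this
  exact mul_inv_eq_iff_eq_mul.1 this

theorem Frame.good_all_two {H : Subgroup Sg} (S : Small H) (hR : D.rsub H ≠ skew hF) (hq2 : q = 2) :
    ∃ H' : Subgroup Sg, Small H' ∧ D.rsub H' ≠ skew hF ∧ ∀ x ∈ D.W, B₀ x x = 0 → Good H' x := by
  classical
  have h20 : (2 : F) = 0 := by
    have h := FiniteField.cast_card_eq_zero F
    rw [hF] at h
    have hc2 : ((q : ℕ) : F) = 2 := by rw [hq2]; norm_num
    have h' : (2 : F) * 2 = 0 := by push_cast at h; rw [hc2] at h; linear_combination h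
    exact mul_self_eq_zero.1 h'
  obtain ⟨b, hb, hbb, hexp⟩ := UDec.exists_basis (hF := hF) (n - 2) D.W D.nd_W D.finrank_W
  have hnorm : ∀ c : F, c ≠ 0 → σ₀ c * c = 1 := fun c hc => by
    have h := FiniteField.pow_card_sub_one_eq_one c hc
    rw [hF] at h
    rw [frob_apply, ← pow_succ, ← h]
    congr 1
    rw [hq2]
    rfl
  obtain ⟨ω, hω0, hω1⟩ : ∃ ω : F, ω ≠ 0 ∧ ω ≠ 1 := by
    by_contra hc
    push Not at hc
    have h : Fintype.card F ≤ ({0, 1} : Finset F).card := Finset.card_le_card fun a _ => by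
      by_cases h0 : a = 0
      · simp [h0]
      · simp [hc a h0]
    rw [hF, hq2] at h
    have := h.trans Finset.card_le_two
    omega
  have hω3 : ω * ω * ω = 1 := by
    have := hnorm ω hω0
    rw [frob_apply, hq2] at this
    linear_combination this
  have hω2 : ω * ω ≠ 1 := fun h => hω1 (by linear_combination hω3 - ω * h)
  have hexists : ∀ k, ∃ μ : Fin (k + 2) → F, (∀ i, μ i ≠ 0 ∧ μ i ≠ 1) ∧ ∏ i, μ i = 1 := by
    intro k
    induction k using Nat.strong_induction_on with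
    | _ k ih =>
      match k with
      | 0 => exact ⟨![ω, ω * ω], fun i => by fin_cases i <;> simp [hω0, hω1, hω2],
          by rw [Fin.prod_univ_two]; simp; linear_combination hω3⟩
      | 1 => exact ⟨![ω, ω, ω], fun i => by fin_cases i <;> simp [hω0, hω1],
          by rw [Fin.prod_univ_three]; simpa using hω3⟩
      | k + 2 =>
        obtain ⟨μ, hμ, hp⟩ := ih k (by omega)
        refine ⟨Fin.cons ω (Fin.cons (ω * ω) μ), fun i => ?_, ?_⟩
        · refine Fin.cases ?_ (fun i => ?_) i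
          · simp [hω0, hω1]
          · refine Fin.cases ?_ (fun i => ?_) i
            · simp [hω0, hω2]
            · simpa using hμ i
        · rw [Fin.prod_univ_succ, Fin.prod_univ_succ]
          simp only [Fin.cons_zero, Fin.cons_succ]
          rw [hp]; linear_combination hω3
  obtain ⟨k, hk⟩ : ∃ k, n - 2 = k + 3 := ⟨n - 5, by have := D.dim; omega⟩
  obtain ⟨μ, hμ, hp⟩ : ∃ μ : Fin (n - 2) → F, (∀ i, μ i ≠ 0 ∧ μ i ≠ 1) ∧ ∏ i, μ i = 1 := by
    rw [hk]; exact hexists (k + 1)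
  obtain ⟨Z, hZ, hZb⟩ := D.exists_diag hb hbb μ (fun i => hnorm _ (hμ i).1) hp
  have hcomp : ∀ (g : Sg) (η : Fin (n - 2) → F) (a : Vn), (∀ i, g.1 (b i) = η i • b i) → g.1 a = a →
      ∀ i, η i ≠ 1 → B₀ (b i) a = 0 := by
    intro g η a hg hga i hi
    have h := sg_form D.C g (b i) a
    rw [hg, hga, LinearMap.map_smulₛₗ, LinearMap.smul_apply, smul_eq_mul] at h
    by_contra hne
    refine hi ?_
    have h1 : σ₀ (η i) = 1 := (mul_eq_right₀ hne).1 h
    rw [← frob_frob hF (η i), h1, map_one]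
  have hfix : ∀ a ∈ D.W, σ₀ (D.nu Z) • Z.1 a = a → a = 0 := fun a ha h => by
    rw [D.act_fx hZ] at h
    rw [hexp a ha]
    exact Finset.sum_eq_zero fun i _ => by rw [hcomp Z μ a hZb h i (hμ i).2, zero_smul]
  obtain ⟨H', S', hR', c0, hc0, hH'⟩ := D.exists_normal S hR (D.fx_le_lev hZ) hfix
  refine ⟨H', S', hR', ?_⟩
  have hdiag : ∀ (g : Sg) (η : Fin (n - 2) → F), g ∈ D.fx → (∀ i, g.1 (b i) = η i • b i) →
      ∃ c, c + σ₀ c = 0 ∧ el hF v 0 c * g ∈ H' := by
    intro g η hg hgb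
    obtain ⟨a, ha, c, hr, hH⟩ := D.lift S' hR' (D.fx_le_lev hg)
    have hcomm : Z * g = g * Z := D.ext_W
      (by show Z.1 (g.1 v) = g.1 (Z.1 v); rw [hg.1, hZ.1, hg.1])
      (by show Z.1 (g.1 v') = g.1 (Z.1 v'); rw [hg.2, hZ.2, hg.2])
      (fun w hw => by
        show Z.1 (g.1 w) = g.1 (Z.1 w)
        rw [hexp w hw]
        simp only [map_sum, map_smul, hgb, hZb]
        exact Finset.sum_congr rfl fun i _ => by module)
    obtain rfl := hfix a ha (D.commute_lift S' hR' (D.fx_le_lev hZ) hg hc0 hH' hcomm ha hr hH)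
    exact ⟨c, by simpa using hr.2.2, hH⟩
  -- vectors supported on two coordinates
  have hpair : ∀ i j, i ≠ j → ∀ s t : F, B₀ (s • b i + t • b j) (s • b i + t • b j) = 0 →
      Good H' (s • b i + t • b j) := by
    intro i j hij s t hxx
    set x := s • b i + t • b j with hxdef
    have hx : x ∈ D.W := add_mem (Submodule.smul_mem _ _ (hb i)) (Submodule.smul_mem _ _ (hb j))
    refine D.good_of_lift S' hR' hx hxx fun l a c hl ha hr hmem => ?_
    rw [hexp a ha]
    refine Finset.sum_eq_zero fun k _ => ?_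
    obtain ⟨r, hri, hrj, hkr⟩ : ∃ r, r ≠ i ∧ r ≠ j ∧ k ∈ ({i, j, r} : Finset (Fin (n - 2))) := by
      by_cases hk2 : k = i ∨ k = j
      · obtain ⟨r, hr⟩ : ∃ r, r ∉ ({i, j} : Finset (Fin (n - 2))) := by
          by_contra hc
          push Not at hc
          have := Finset.card_le_card (fun x (_ : x ∈ Finset.univ) => hc x)
          rw [Finset.card_univ, Fintype.card_fin] at this
          have := this.trans Finset.card_le_two
          omega
        simp only [Finset.mem_insert, Finset.mem_singleton, not_or] at hr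
        exact ⟨r, hr.1, hr.2, by rcases hk2 with rfl | rfl <;> simp⟩
      · push Not at hk2
        exact ⟨k, hk2.1, hk2.2, by simp⟩
    set T : Finset (Fin (n - 2)) := {i, j, r}
    obtain ⟨g, hg, hgb⟩ := D.exists_diag hb hbb (fun u => if u ∈ T then ω else 1)
      (fun u => by split_ifs <;> simp [hnorm ω hω0]) (by
        rw [Finset.prod_ite_mem, Finset.univ_inter, Finset.prod_const,
          show T.card = 3 from Finset.card_eq_three.2 ⟨i, j, r, hij, hri.symm, hrj.symm, rfl⟩, pow_three',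
          hω3])
    obtain ⟨cg, hcg, hgH⟩ := hdiag g _ hg hgb
    have hgx : g.1 x = ω • x := by
      rw [hxdef, map_add, map_smul, map_smul, hgb, hgb, if_pos (by simp [T]), if_pos (by simp [T])]
      module
    have hcomm : g * el hF x 0 l = el hF x 0 l * g := by
      have := el_zero_conj D.C hxx hl g
      rw [hgx, el_zero_smul D.C hxx hl, hnorm ω hω0, one_mul] at this
      exact mul_inv_eq_iff_eq_mul.1 this
    have hga := D.commute_lift S' hR' (D.fx_le_lev hg) (D.el_fx hx hxx hl) hcg hgH hcomm ha hr hmem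
    rw [D.act_fx hg] at hga
    rw [hcomp g _ a hgb hga k (by rw [if_pos hkr]; exact hω1), zero_smul]
  -- induction on the support
  suffices H : ∀ N x, x ∈ D.W → B₀ x x = 0 →
      (Finset.univ.filter fun i => B₀ (b i) x ≠ 0).card ≤ N → Good H' x from
    fun x hx hxx => H _ x hx hxx le_rfl
  intro N
  induction N with
  | zero =>
    intro x hx _ hs
    rw [show x = 0 from (hexp x hx).trans (Finset.sum_eq_zero fun i _ => by
      by_cases h : B₀ (b i) x = 0
      · rw [h, zero_smul]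
      · exact absurd (Finset.card_pos.2 ⟨i, Finset.mem_filter.2 ⟨Finset.mem_univ _, h⟩⟩) (Nat.not_lt.2 hs))]
    exact good_zero D.C H'
  | succ N ih =>
    intro x hx hxx hs
    by_cases hs' : (Finset.univ.filter fun i => B₀ (b i) x ≠ 0).card ≤ N
    · exact ih x hx hxx hs'
    obtain ⟨i, hi⟩ : (Finset.univ.filter fun i => B₀ (b i) x ≠ 0).Nonempty := Finset.card_pos.1 (by omega)
    have hi' := (Finset.mem_filter.1 hi).2
    obtain ⟨j, hji, hj'⟩ : ∃ j, j ≠ i ∧ B₀ (b j) x ≠ 0 := by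
      by_contra hc
      push Not at hc
      have hxe : x = B₀ (b i) x • b i := by
        conv_lhs => rw [hexp x hx]
        exact Finset.sum_eq_single i (fun j _ hj => by rw [hc j hj, zero_smul]) (by simp)
      rw [hxe] at hxx
      simp [hbb, hi'] at hxx
    set s := B₀ (b i) x with hs_def
    set t := B₀ (b j) x with ht_def
    set w := s • b i + t • b j with hw
    have hww : B₀ w w = 0 := by
      simp only [hw, map_add, map_smul, LinearMap.add_apply, LinearMap.map_smulₛₗ, LinearMap.smul_apply,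
        smul_eq_mul, hbb, if_neg hji, if_neg hji.symm, if_pos]
      linear_combination hnorm s hi' + hnorm t hj' + h20
    set y := x - w with hy
    have hyW : y ∈ D.W := sub_mem hx (add_mem (Submodule.smul_mem _ _ (hb i)) (Submodule.smul_mem _ _ (hb j)))
    have hyi : B₀ (b i) y = 0 := by
      simp [hy, hw, hbb, hji.symm, hs_def]
    have hyj : B₀ (b j) y = 0 := by
      simp [hy, hw, hbb, hji, ht_def]
    have hwy : B₀ w y = 0 := by simp [hw, hyi, hyj]
    have hxe : x = w + (1 : F) • y := by rw [hy]; module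
    have hyy : B₀ y y = 0 := by
      rw [hxe] at hxx
      simpa [hww, hwy, symm_zero hwy] using hxx
    have hyg : Good H' y := ih y hyW hyy (by
      have hsub : (Finset.univ.filter fun k => B₀ (b k) y ≠ 0) ⊆
          (Finset.univ.filter fun k => B₀ (b k) x ≠ 0).erase i := fun k hk => by
        have hk' := (Finset.mem_filter.1 hk).2
        have hki : k ≠ i := fun e => hk' (e ▸ hyi)
        have hkj : k ≠ j := fun e => hk' (e ▸ hyj)
        refine Finset.mem_erase.2 ⟨hki, Finset.mem_filter.2 ⟨Finset.mem_univ _, fun h0 => hk' ?_⟩⟩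
        simp [hy, hw, hbb, hki, hkj, h0]
      have := Finset.card_le_card hsub
      rw [Finset.card_erase_of_mem hi] at this
      omega)
    rw [hxe]
    exact D.line_good S' hww hyy hwy (hpair i j hji.symm s t hww) hyg 1

end Cfsg.Lib.Linear.MinIndexU
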